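import Mathlib
import Cfsg.Prelude.Def_ClassificationStages
import Cfsg.Agent.Lib.Cl.PComp2
import Cfsg.Agent.Lib.FStar.PComponent
import Cfsg.Agent.Lib.Techniques.Balance2
import Cfsg.Agent.Lib.Techniques.SylowIn
import Cfsg.Agent.Lib.Techniques.LocalBal

/-!
# `2`-components, intrinsically (owner: helper11).

`K` is a `2`-component of `H` iff `K` is subnormal in `H` and `K / O(K)` is quasisimple with `K` generated by its
`2`-elements; the second condition does not depend on `H`.
-/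

set_option autoImplicit false
set_option linter.unusedSectionVars false
set_option linter.unusedVariables false
set_option linter.style.haveILetI false

namespace Cfsg.Agent.Lib.LBal

open Cfsg Subgroup Cfsg.Agent.Lib.FStar Cfsg.Agent.Lib.Core Cfsg.Agent.Lib.Cl

/-- The intrinsic part of being a `2`-component, for a group. -/
def IsPQT (Y : Type*) [Group Y] : Prop := IsPComponent 2 (⊤ : Subgroup Y)

/-- The set of `2`-elements. -/
def twoElts (Y : Type*) [Group Y] : Set Y := {y | ∃ n : ℕ, y ^ 2 ^ n = 1}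

section Types

variable {Y Y' : Type*} [Group Y] [Group Y'] [Finite Y] [Finite Y']

theorem IsPQT.of_equiv (e : Y ≃* Y') (h : IsPQT Y) : IsPQT Y' := by
  have := pComp_map_equiv e h
  have h2 : (⊤ : Subgroup Y).map e.toMonoidHom = ⊤ :=
    Subgroup.map_top_of_surjective _ e.surjective
  rwa [h2] at this

theorem isPQT_iff : IsPQT Y ↔ IsQuasisimple (Y ⧸ pPrimeCore 2 Y) ∧ closure (twoElts Y) = ⊤ := by
  have htop : (⊤ : Subgroup Y).map (QuotientGroup.mk' (pPrimeCore 2 Y)) = ⊤ :=
    Subgroup.map_top_of_surjective _ (QuotientGroup.mk'_surjective _)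
  constructor
  · intro h
    constructor
    · have h1 := h.2.1.2
      rw [htop] at h1
      exact qs_of_mulEquiv Subgroup.topEquiv h1
    · have h1 := pComp_closure_eq h
      rw [eq_top_iff, ← h1]
      apply Subgroup.closure_mono
      rintro g ⟨-, n, hn⟩
      exact ⟨n, hn⟩
  · rintro ⟨h1, h2⟩
    refine ⟨.top, ?_, ?_⟩
    · rw [htop]
      exact ⟨.top, qs_of_mulEquiv Subgroup.topEquiv.symm h1⟩
    · intro H hH _ heq
      rw [eq_top_iff, ← h2, closure_le]
      rintro g ⟨n, hn⟩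
      apply pElement_mem_of_subnormal' hH hn
      have h3 : QuotientGroup.mk' (pPrimeCore 2 Y) g ∈ H.map (QuotientGroup.mk' (pPrimeCore 2 Y)) := by
        rw [heq]
        exact ⟨g, trivial, rfl⟩
      have h4 : g ∈ (H.map (QuotientGroup.mk' (pPrimeCore 2 Y))).comap (QuotientGroup.mk' (pPrimeCore 2 Y)) := h3
      rw [Subgroup.comap_map_eq, QuotientGroup.ker_mk'] at h4
      exact h4

theorem IsPQT.closure_eq (h : IsPQT Y) : closure (twoElts Y) = ⊤ := (isPQT_iff.1 h).2

theorem IsPQT.qs (h : IsPQT Y) : IsQuasisimple (Y ⧸ pPrimeCore 2 Y) := (isPQT_iff.1 h).1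

theorem eq_one_of_twoElt_of_odd {x : Y} {n : ℕ} (hx : x ^ 2 ^ n = 1) {O : Subgroup Y} (hO : (Nat.card O).Coprime 2)
    (hxO : x ∈ O) : x = 1 := by
  have h1 : x ^ Nat.card O = 1 := by
    have h := pow_card_eq_one' (x := (⟨x, hxO⟩ : O))
    have h' := congrArg Subtype.val h
    rwa [SubgroupClass.coe_pow] at h'
  have h2 : (2 ^ n).Coprime (Nat.card O) := Nat.Coprime.pow_left n hO.symm
  have h3 := Nat.dvd_gcd (orderOf_dvd_of_pow_eq_one hx) (orderOf_dvd_of_pow_eq_one h1)
  rw [h2] at h3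
  exact orderOf_eq_one_iff.1 (Nat.dvd_one.1 h3)

/-- A nontrivial homomorphic image of an intrinsically `2`-quasisimple group is such. -/
theorem IsPQT.of_surjective (h : IsPQT Y) (f : Y →* Y') (hf : Function.Surjective f) (hne : Nontrivial Y') :
    IsPQT Y' := by
  have hcl := h.closure_eq
  have hcl' : closure (twoElts Y') = ⊤ := by
    rw [eq_top_iff]
    intro y _
    obtain ⟨z, rfl⟩ := hf y
    have hz : z ∈ closure (twoElts Y) := by rw [hcl]; trivial
    have : (closure (twoElts Y)).map f ≤ closure (twoElts Y') := by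
      rw [MonoidHom.map_closure, closure_le]
      rintro _ ⟨a, ⟨n, hn⟩, rfl⟩
      apply Subgroup.subset_closure
      exact ⟨n, by rw [← map_pow, hn, map_one]⟩
    exact this ⟨z, hz, rfl⟩
  refine isPQT_iff.2 ⟨?_, hcl'⟩
  have hmap : (pPrimeCore 2 Y) ≤ (pPrimeCore 2 Y').comap f := by
    rw [← Subgroup.map_le_iff_le_comap]
    apply le_pPrimeCore (Subgroup.Normal.map inferInstance f hf)
    exact Nat.Coprime.coprime_dvd_left (Subgroup.card_map_dvd _ _) (pPrimeCore_coprime 2 Y)
  let F : Y ⧸ pPrimeCore 2 Y →* Y' ⧸ pPrimeCore 2 Y' := QuotientGroup.map _ _ f hmap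
  have hF : Function.Surjective F := by
    intro q
    obtain ⟨y', rfl⟩ := QuotientGroup.mk'_surjective _ q
    obtain ⟨z, rfl⟩ := hf y'
    exact ⟨QuotientGroup.mk z, rfl⟩
  refine qs_of_surjective h.qs F hF ?_
  rcases qs_normal_eq_top_or_le_center h.qs F.ker with h1 | h1
  · exfalso
    -- `Y' = O(Y')`
    have h2 : ∀ y' : Y', y' ∈ pPrimeCore 2 Y' := by
      intro y'
      obtain ⟨z, rfl⟩ := hf y'
      have h3 : (QuotientGroup.mk z : Y ⧸ pPrimeCore 2 Y) ∈ F.ker := by rw [h1]; trivial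
      have h4 : F (QuotientGroup.mk z) = 1 := h3
      have h5 : (QuotientGroup.mk (f z) : Y' ⧸ pPrimeCore 2 Y') = 1 := h4
      exact (QuotientGroup.eq_one_iff _).1 h5
    have h3 : closure (twoElts Y') ≤ ⊥ := by
      rw [closure_le]
      rintro y' ⟨n, hn⟩
      exact eq_one_of_twoElt_of_odd hn (pPrimeCore_coprime 2 Y') (h2 y')
    rw [hcl'] at h3
    exact (bot_lt_iff_ne_bot.2 (by
      intro hb
      obtain ⟨a, b, hab⟩ := hne
      have ha : a ∈ (⊤ : Subgroup Y') := trivial
      have hb' : b ∈ (⊤ : Subgroup Y') := trivial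
      rw [hb] at ha hb'
      exact hab ((Subgroup.mem_bot.1 ha).trans (Subgroup.mem_bot.1 hb').symm))).ne' (le_bot_iff.1 h3)
  · exact h1

theorem IsPQT.nontrivial (h : IsPQT Y) : Nontrivial Y := by
  have h1 := qs_nontrivial h.qs
  obtain ⟨a, b, hab⟩ := h1
  obtain ⟨a', rfl⟩ := QuotientGroup.mk'_surjective _ a
  obtain ⟨b', rfl⟩ := QuotientGroup.mk'_surjective _ b
  exact ⟨a', b', fun e => hab (by rw [e])⟩

theorem IsPQT.perfect (h : IsPQT Y) : commutator Y = ⊤ := by
  have h1 := pComp_perfect h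
  rw [eq_top_iff]
  rw [← h1]
  exact Subgroup.commutator_mono le_top le_top

theorem IsPQT.even (h : IsPQT Y) : 2 ∣ Nat.card Y := by
  by_contra hodd
  have h1 : closure (twoElts Y) ≤ ⊥ := by
    rw [closure_le]
    rintro y ⟨n, hn⟩
    have hc : (Nat.card (⊤ : Subgroup Y)).Coprime 2 := by
      rw [Subgroup.card_top]
      exact (Nat.Prime.coprime_iff_not_dvd Nat.prime_two).2 hodd |>.symm
    exact eq_one_of_twoElt_of_odd hn hc trivial
  rw [h.closure_eq] at h1
  obtain ⟨a, b, hab⟩ := h.nontrivial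
  have ha : a ∈ (⊥ : Subgroup Y) := h1 trivial
  have hb : b ∈ (⊥ : Subgroup Y) := h1 trivial
  exact hab ((Subgroup.mem_bot.1 ha).trans (Subgroup.mem_bot.1 hb).symm)

end Types

variable {G G' : Type*} [Group G] [Group G'] [Finite G] [Finite G']

/-- The intrinsic part of being a `2`-component, for a subgroup. -/
def IsPQ (K : Subgroup G) : Prop := IsPQT K

theorem IsPQ.of_isPComponent {K : Subgroup G} (h : IsPComponent 2 K) : IsPQ K := top_isPComponent h

/-- A subnormal intrinsically `2`-quasisimple subgroup is a `2`-component. -/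
theorem isPComponent_of_isPQ {K : Subgroup G} (hK : K.IsSubnormal) (h : IsPQ K) : IsPComponent 2 K := by
  refine ⟨hK, ⟨hK.map (QuotientGroup.mk'_surjective _), qs_of_mulEquiv (quotCoreEquiv hK) h.qs⟩, ?_⟩
  intro H hH hHK heq
  apply le_antisymm hHK
  -- `2`-elements of `K` lie in `H`
  have h1 : (closure (twoElts K)).map K.subtype ≤ H := by
    rw [MonoidHom.map_closure, closure_le]
    rintro _ ⟨k, ⟨n, hn⟩, rfl⟩
    have hn' : (k : G) ^ 2 ^ n = 1 := by
      have := congrArg Subtype.val hn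
      simpa using this
    apply pElement_mem_of_subnormal' hH hn'
    have h3 : QuotientGroup.mk' (pPrimeCore 2 G) (k : G) ∈ H.map (QuotientGroup.mk' (pPrimeCore 2 G)) := by
      rw [heq]
      exact ⟨k, k.2, rfl⟩
    have h4 : (k : G) ∈ (H.map (QuotientGroup.mk' (pPrimeCore 2 G))).comap (QuotientGroup.mk' (pPrimeCore 2 G)) := h3
    rw [Subgroup.comap_map_eq, QuotientGroup.ker_mk'] at h4
    exact h4
  rw [h.closure_eq, ← MonoidHom.range_eq_map, Subgroup.range_subtype] at h1
  exact h1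

theorem isPComponent_iff {K : Subgroup G} : IsPComponent 2 K ↔ K.IsSubnormal ∧ IsPQ K :=
  ⟨fun h => ⟨h.1, IsPQ.of_isPComponent h⟩, fun h => isPComponent_of_isPQ h.1 h.2⟩

theorem IsPQ.of_equiv {K : Subgroup G} {K' : Subgroup G'} (e : K ≃* K') (h : IsPQ K) : IsPQ K' :=
  IsPQT.of_equiv e h

theorem IsPQ.map_injective {K : Subgroup G} (h : IsPQ K) {f : G →* G'} (hf : Function.Injective f) :
    IsPQ (K.map f) := IsPQ.of_equiv (K.equivMapOfInjective f hf) h

theorem IsPQ.map {K : Subgroup G} (h : IsPQ K) (f : G →* G') (hne : K.map f ≠ ⊥) : IsPQ (K.map f) := by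
  refine IsPQT.of_surjective h (f.subgroupMap K) (f.subgroupMap_surjective K) ?_
  exact (Subgroup.nontrivial_iff_ne_bot _).2 hne

theorem IsPQ.subgroupOf {K H : Subgroup G} (h : IsPQ K) (hKH : K ≤ H) : IsPQ (K.subgroupOf H) :=
  IsPQ.of_equiv (Subgroup.subgroupOfEquivOfLe hKH).symm h

theorem IsPQ.of_subgroupOf {K H : Subgroup G} (h : IsPQ (K.subgroupOf H)) (hKH : K ≤ H) : IsPQ K :=
  IsPQ.of_equiv (Subgroup.subgroupOfEquivOfLe hKH) h

/-- `K` is generated by its `2`-elements. -/
theorem IsPQ.closure_eq {K : Subgroup G} (h : IsPQ K) : closure {g | g ∈ K ∧ ∃ n : ℕ, g ^ 2 ^ n = 1} = K := by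
  apply le_antisymm
  · rw [closure_le]
    rintro g ⟨hg, -⟩
    exact hg
  · have h1 : (closure (twoElts K)).map K.subtype ≤ closure {g | g ∈ K ∧ ∃ n : ℕ, g ^ 2 ^ n = 1} := by
      rw [MonoidHom.map_closure, closure_le]
      rintro _ ⟨k, ⟨n, hn⟩, rfl⟩
      apply Subgroup.subset_closure
      refine ⟨k.2, n, ?_⟩
      have := congrArg Subtype.val hn
      simpa using this
    rwa [IsPQT.closure_eq h, ← MonoidHom.range_eq_map, Subgroup.range_subtype] at h1

/-- To bound `K`, it suffices to treat `2`-elements. -/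
theorem IsPQ.le_of_forall {K B : Subgroup G} (h : IsPQ K) (hB : ∀ g ∈ K, ∀ n : ℕ, g ^ 2 ^ n = 1 → g ∈ B) : K ≤ B := by
  rw [← h.closure_eq, closure_le]
  rintro g ⟨hg, n, hn⟩
  exact hB g hg n hn

theorem IsPQ.perfect {K : Subgroup G} (h : IsPQ K) : ⁅K, K⁆ = K := by
  have h1 := IsPQT.perfect h
  have h2 : (commutator K).map K.subtype = K := by
    rw [h1, ← MonoidHom.range_eq_map, Subgroup.range_subtype]
  rw [← h2]
  conv_lhs => rw [h2]
  rw [← Subgroup.map_subtype_commutator]

theorem IsPQ.ne_bot {K : Subgroup G} (h : IsPQ K) : K ≠ ⊥ := by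
  have := IsPQT.nontrivial h
  exact (Subgroup.nontrivial_iff_ne_bot _).1 this

theorem IsPQ.even {K : Subgroup G} (h : IsPQ K) : 2 ∣ Nat.card K := IsPQT.even h

/-- `K` has an involution. -/
theorem IsPQ.exists_involution {K : Subgroup G} (h : IsPQ K) : ∃ y ∈ K, orderOf y = 2 := by
  obtain ⟨y, hy⟩ := exists_prime_orderOf_dvd_card' (G := K) 2 h.even
  exact ⟨y, y.2, by rwa [Subgroup.orderOf_coe]⟩

/-- A perfect nontrivial subgroup is not in a `2`-subgroup. -/
theorem IsPQ.not_le_pgroup {K P : Subgroup G} (h : IsPQ K) (hP : IsPGroup 2 P) : ¬ K ≤ P := by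
  intro hle
  have h1 : IsPGroup 2 K := hP.to_le hle
  haveI := h1.isNilpotent
  have h2 := Cfsg.Agent.Lib.FStar.commutator_lt_of_solvable (N := K) inferInstance h.ne_bot
  rw [h.perfect] at h2
  exact lt_irrefl _ h2

/-- A `2`-element of `S O(G)` lies in `S`, if `S` is subnormal. -/
theorem IsPQ.le_of_le_sup {K S : Subgroup G} (h : IsPQ K) (hS : S.IsSubnormal) (hle : K ≤ S ⊔ pPrimeCore 2 G) :
    K ≤ S := h.le_of_forall fun g hg n hn => pElement_mem_of_subnormal' hS hn (hle hg)

/-! ### Components of subgroups -/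

theorem isPComponentOf_iff {K H : Subgroup G} :
    IsPComponentOf 2 K H ↔ K ≤ H ∧ (K.subgroupOf H).IsSubnormal ∧ IsPQ K := by
  constructor
  · rintro ⟨h1, h2⟩
    exact ⟨h1, h2.1, (IsPQ.of_isPComponent h2).of_subgroupOf h1⟩
  · rintro ⟨h1, h2, h3⟩
    exact ⟨h1, isPComponent_of_isPQ h2 (h3.subgroupOf h1)⟩

theorem _root_.Cfsg.IsPComponentOf.isPQ {K H : Subgroup G} (h : IsPComponentOf 2 K H) : IsPQ K := (isPComponentOf_iff.1 h).2.2

theorem _root_.Cfsg.IsPComponentOf.le {K H : Subgroup G} (h : IsPComponentOf 2 K H) : K ≤ H := h.1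

theorem _root_.Cfsg.IsPComponentOf.subnormal {K H : Subgroup G} (h : IsPComponentOf 2 K H) : (K.subgroupOf H).IsSubnormal :=
  (isPComponentOf_iff.1 h).2.1

/-- Restriction to a smaller overgroup. -/
theorem _root_.Cfsg.IsPComponentOf.of_le {K H H' : Subgroup G} (h : IsPComponentOf 2 K H) (hK : K ≤ H') (hH : H' ≤ H) :
    IsPComponentOf 2 K H' := by
  refine isPComponentOf_iff.2 ⟨hK, ?_, h.isPQ⟩
  have h1 := h.subnormal.comap (Subgroup.inclusion hH)
  have h2 : (K.subgroupOf H).comap (Subgroup.inclusion hH) = K.subgroupOf H' := by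
    ext x
    simp [Subgroup.mem_subgroupOf]
  rwa [h2] at h1

/-- Transitivity of subnormality for subgroups of the ambient group. -/
theorem subnormal_subgroupOf_trans {K H' H : Subgroup G} (hKH' : K ≤ H') (hH' : H' ≤ H)
    (h1 : (K.subgroupOf H').IsSubnormal) (h2 : (H'.subgroupOf H).IsSubnormal) : (K.subgroupOf H).IsSubnormal := by
  refine IsSubnormal.trans (H := K.subgroupOf H) (K := H'.subgroupOf H)
    (fun x hx => by simpa [Subgroup.mem_subgroupOf] using hKH' (by simpa [Subgroup.mem_subgroupOf] using hx)) ?_ h2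
  let e : ↥(H'.subgroupOf H) →* ↥H' :=
    { toFun := fun x => ⟨x.1.1, x.2⟩
      map_one' := rfl
      map_mul' := fun _ _ => rfl }
  have h3 := h1.comap e
  have h4 : (K.subgroupOf H').comap e = (K.subgroupOf H).subgroupOf (H'.subgroupOf H) := by
    ext x
    simp [Subgroup.mem_subgroupOf, e]
  rwa [h4] at h3

/-- Going up along normality. -/
theorem _root_.Cfsg.IsPComponentOf.of_normal {K H H' : Subgroup G} (h : IsPComponentOf 2 K H') (hH : H' ≤ H)
    (hn : H ≤ normalizer (H' : Set G)) : IsPComponentOf 2 K H := by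
  refine isPComponentOf_iff.2 ⟨h.le.trans hH, ?_, h.isPQ⟩
  have h1 : (H'.subgroupOf H).Normal := (Subgroup.normal_subgroupOf_iff_le_normalizer hH).2 hn
  exact subnormal_subgroupOf_trans h.le hH h.subnormal h1.isSubnormal

theorem _root_.Cfsg.IsPComponentOf.le_pLayerOf {K H : Subgroup G} (h : IsPComponentOf 2 K H) : K ≤ pLayerOf 2 H := by
  have h1 : K.subgroupOf H ≤ pLayer 2 H := le_sSup h.2
  intro x hx
  exact ⟨⟨x, h.1 hx⟩, h1 (by simpa [Subgroup.mem_subgroupOf] using hx), rfl⟩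

theorem pLayerOf_le_iff {H B : Subgroup G} : pLayerOf 2 H ≤ B ↔ ∀ K, IsPComponentOf 2 K H → K ≤ B := by
  constructor
  · intro h K hK
    exact hK.le_pLayerOf.trans h
  · intro h
    unfold pLayerOf
    rw [Subgroup.map_le_iff_le_comap]
    refine sSup_le fun K₀ hK₀ => ?_
    rw [← Subgroup.map_le_iff_le_comap]
    apply h
    refine ⟨Subgroup.map_subtype_le _, ?_⟩
    have : (K₀.map H.subtype).subgroupOf H = K₀ := by
      ext x
      simp [Subgroup.mem_subgroupOf]
    rw [this]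
    exact hK₀

theorem exists_comp_not_le {K H B : Subgroup G} (hK : K ≤ pLayerOf 2 H) (hB : ¬ K ≤ B) :
    ∃ J, IsPComponentOf 2 J H ∧ ¬ J ≤ B := by
  by_contra hcon
  push Not at hcon
  exact hB (hK.trans (pLayerOf_le_iff.2 hcon))

theorem normal_subgroupOf_of_normalizes {M H : Subgroup G} (hM : H ≤ normalizer (M : Set G)) :
    (M.subgroupOf H).Normal := by
  refine ⟨fun x hx g => ?_⟩
  rw [Subgroup.mem_subgroupOf] at hx ⊢
  exact (mem_normalizer_iff.1 (hM g.2) x).1 hx

/-- The odd core of a subgroup, as a subgroup of the ambient group. -/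
def oddOf (H : Subgroup G) : Subgroup G := (pPrimeCore 2 H).map H.subtype

theorem oddOf_le (H : Subgroup G) : oddOf H ≤ H := Subgroup.map_subtype_le _

theorem oddOf_coprime (H : Subgroup G) : (Nat.card (oddOf H)).Coprime 2 := by
  have e : Nat.card (oddOf H) = Nat.card (pPrimeCore 2 H) :=
    Nat.card_congr ((pPrimeCore 2 H).equivMapOfInjective _ H.subtype_injective).symm.toEquiv
  rw [e]
  exact pPrimeCore_coprime 2 H

theorem le_normalizer_oddOf {H R : Subgroup G} (hR : R ≤ normalizer (H : Set G)) :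
    R ≤ normalizer (oddOf H : Set G) := by
  intro r hr
  apply Cfsg.Agent.Lib.Techniques.mem_normalizer_of_conj_le
  rintro _ ⟨o, ho, rfl⟩
  let φ : MulAut H := H.normalizerMonoidHom ⟨r, hR hr⟩
  have h1 : φ o ∈ pPrimeCore 2 H := by
    have h2 : (pPrimeCore 2 H).comap φ.toMonoidHom = pPrimeCore 2 H :=
      Subgroup.characteristic_iff_comap_eq.mp inferInstance φ
    have h3 : o ∈ (pPrimeCore 2 H).comap φ.toMonoidHom := by rw [h2]; exact ho
    exact h3
  exact ⟨φ o, h1, rfl⟩

theorem le_oddOf {N H : Subgroup G} (hNH : N ≤ H) (hn : H ≤ normalizer (N : Set G)) (hc : (Nat.card N).Coprime 2) :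
    N ≤ oddOf H := by
  have h1 : (N.subgroupOf H).Normal := (Subgroup.normal_subgroupOf_iff_le_normalizer hNH).2 hn
  have h2 : (Nat.card (N.subgroupOf H)).Coprime 2 := by
    have e : Nat.card (N.subgroupOf H) = Nat.card N :=
      Nat.card_congr (Subgroup.subgroupOfEquivOfLe hNH).toEquiv
    rwa [e]
  have h3 := le_pPrimeCore h1 h2
  intro x hx
  exact ⟨⟨x, hNH hx⟩, h3 (by simpa [Subgroup.mem_subgroupOf] using hx), rfl⟩

end Cfsg.Agent.Lib.LBal
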