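import Mathlib
import Cfsg.Agent.Lib.LBal.Basic
import Cfsg.Agent.Lib.FStar.PConstrained

/-!
# The lifting lemma for `2`-components (owner: helper11).
-/

set_option autoImplicit false
set_option linter.unusedSectionVars false
set_option linter.unusedVariables false
set_option linter.style.haveILetI false

namespace Cfsg.Agent.Lib.LBal

open Cfsg Subgroup Cfsg.Agent.Lib.FStar Cfsg.Agent.Lib.Core Cfsg.Agent.Lib.Cl

section Lift

variable {H : Type*} [Group H] [Finite H]

/-- If `x` centralizes the image of the `2`-group `P` in `H / O(H)`, it is congruent mod `O(H)` to an element of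
`C_H(P)`. -/
theorem exists_centralizer_of_comm {P : Subgroup H} (hP : IsPGroup 2 P) {x : H}
    (hc : ∀ a ∈ P, a * x * a⁻¹ * x⁻¹ ∈ pPrimeCore 2 H) :
    ∃ c ∈ centralizer (P : Set H), x⁻¹ * c ∈ pPrimeCore 2 H := by
  set O := pPrimeCore 2 H with hO
  set π := QuotientGroup.mk' O with hπ
  have hcomm : ∀ a ∈ P, π a * π x = π x * π a := by
    intro a ha
    have h1 : π (a * x * a⁻¹ * x⁻¹) = 1 := (QuotientGroup.eq_one_iff _).2 (hc a ha)
    rw [map_mul, map_mul, map_mul, map_inv, map_inv] at h1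
    calc π a * π x = (π a * π x * (π a)⁻¹ * (π x)⁻¹) * (π x * π a) := by group
      _ = π x * π a := by rw [h1, one_mul]
  have hx : π x ∈ normalizer ((P.map π : Subgroup (H ⧸ O)) : Set (H ⧸ O)) := by
    rw [mem_normalizer_iff]
    intro y
    constructor
    · rintro ⟨a, ha, rfl⟩
      refine ⟨a, ha, ?_⟩
      have := hcomm a ha
      rw [← this]
      group
    · intro hy
      obtain ⟨a, ha, hay⟩ := hy
      refine ⟨a, ha, ?_⟩
      have h2 : π a = π x * y * (π x)⁻¹ := hay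
      have := hcomm a ha
      rw [h2] at this
      have h3 : π x * y * (π x)⁻¹ * π x = π x * (π x * y * (π x)⁻¹) := this
      have h4 : π x * y = π x * (π x * y * (π x)⁻¹) := by
        rw [← h3]; group
      have h5 : y = π x * y * (π x)⁻¹ := mul_left_cancel h4
      exact h2.trans h5.symm
  obtain ⟨n, hn, hnx⟩ := exists_normalizer_of_quotient_normalizes hP (pPrimeCore_coprime 2 H) hx
  have hnO : x⁻¹ * n ∈ O := by
    have h1 : π (x⁻¹ * n) = 1 := by rw [map_mul, map_inv, hnx, inv_mul_cancel]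
    exact (QuotientGroup.eq_one_iff _).1 h1
  refine ⟨n, ?_, hnO⟩
  rw [Subgroup.mem_centralizer_iff]
  intro a ha
  have h1 : n * a * n⁻¹ * a⁻¹ ∈ P := by
    refine P.mul_mem ?_ (P.inv_mem ha)
    exact (mem_normalizer_iff.1 hn a).1 ha
  have h2 : n * a * n⁻¹ * a⁻¹ ∈ O := by
    rw [← QuotientGroup.eq_one_iff (N := O)]
    change π (n * a * n⁻¹ * a⁻¹) = 1
    have hnx' : π n = π x := hnx
    calc π (n * a * n⁻¹ * a⁻¹) = π x * π a * (π x)⁻¹ * (π a)⁻¹ := by simp only [map_mul, map_inv, hnx']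
      _ = π a * π x * (π x)⁻¹ * (π a)⁻¹ := by rw [hcomm a ha]
      _ = 1 := by group
  obtain ⟨k, hk⟩ := hP ⟨_, h1⟩
  have h3 : (n * a * n⁻¹ * a⁻¹) ^ 2 ^ k = 1 := congrArg Subtype.val hk
  have h4 := eq_one_of_twoElt_of_odd h3 (pPrimeCore_coprime 2 H) h2
  calc a * n = (n * a * n⁻¹ * a⁻¹)⁻¹ * (n * a) := by group
    _ = n * a := by rw [h4]; simp

/-- **The lifting lemma.** -/
theorem lift_comp {J P : Subgroup H} (hJ : IsPComponent 2 J) (hP : IsPGroup 2 P)
    (hc : ∀ j ∈ J, ∀ a ∈ P, a * j * a⁻¹ * j⁻¹ ∈ pPrimeCore 2 H) :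
    ∃ J' : Subgroup H, IsPComponentOf 2 J' (centralizer (P : Set H)) ∧
      ∀ S : Subgroup H, S.IsSubnormal → J' ≤ S → J ≤ S := by
  classical
  set O := pPrimeCore 2 H with hO
  set π := QuotientGroup.mk' O with hπ
  set C := centralizer (P : Set H) with hC
  set Jb := J.map π with hJb
  have hmem : ∀ x, x ∈ J ⊔ O → π x ∈ Jb := by
    intro x hx
    obtain ⟨j, hj, o, ho, rfl⟩ := (Subgroup.mem_sup_of_normal_right (t := O)).mp hx
    refine ⟨j, hj, ?_⟩
    have : π o = 1 := (QuotientGroup.eq_one_iff _).2 ho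
    rw [map_mul, this, mul_one]
  set W := (J ⊔ O) ⊓ C with hW
  let φ : W →* Jb := (π.comp W.subtype).codRestrict Jb (fun w => hmem _ w.2.1)
  have hφv : ∀ w : W, ((φ w : Jb) : H ⧸ O) = π w := fun _ => rfl
  have hφ : Function.Surjective φ := by
    rintro ⟨_, j, hj, rfl⟩
    obtain ⟨c, hcC, hcO⟩ := exists_centralizer_of_comm hP (hc j hj)
    refine ⟨⟨c, ?_, hcC⟩, ?_⟩
    · have : c = j * (j⁻¹ * c) := by group
      rw [this]
      exact mul_mem (mem_sup_left hj) (mem_sup_right hcO)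
    · apply Subtype.ext
      rw [hφv]
      have h1 : π (j⁻¹ * c) = 1 := (QuotientGroup.eq_one_iff _).2 hcO
      rw [map_mul, map_inv, inv_mul_eq_one] at h1
      exact h1.symm
  have hk : (Nat.card φ.ker).Coprime 2 := by
    have h1 : φ.ker.map W.subtype ≤ O := by
      rintro _ ⟨w, hw, rfl⟩
      have h2 : φ w = 1 := hw
      have h3 : π (w : H) = 1 := congrArg Subtype.val h2
      exact (QuotientGroup.eq_one_iff _).1 h3
    have h4 : Nat.card φ.ker = Nat.card (φ.ker.map W.subtype) :=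
      (Subgroup.card_map_of_injective W.subtype_injective).symm
    rw [h4]
    exact Nat.Coprime.coprime_dvd_left (Subgroup.card_dvd_of_le h1) (pPrimeCore_coprime 2 H)
  have hqs : IsQuasisimple Jb := hJ.2.1.2
  have hO' : pPrimeCore 2 Jb = ⊥ := pPrimeCore_eq_bot_of_subnormal hJ.2.1.1 pPrimeCore_quotient_eq_bot
  obtain ⟨J₀, hJ₀, hJ₀m⟩ := exists_pComp_of_surjective hqs hO' φ hφ hk
  have hWsn : (W.subgroupOf C).IsSubnormal := by
    have h1 : (J ⊔ O).IsSubnormal := by
      have h2 : (J ⊔ O) = Jb.comap π := by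
        rw [hJb, Subgroup.comap_map_eq, hπ, QuotientGroup.ker_mk']
      rw [h2]
      exact hJ.2.1.1.comap π
    have h3 := h1.subgroupOf (K := C)
    have h4 : (J ⊔ O).subgroupOf C = W.subgroupOf C := by
      ext x
      simp [Subgroup.mem_subgroupOf, hW, x.2]
    rwa [h4] at h3
  refine ⟨J₀.map W.subtype, ?_, ?_⟩
  · refine isPComponentOf_iff.2 ⟨(Subgroup.map_subtype_le _).trans inf_le_right, ?_,
      (IsPQ.of_isPComponent hJ₀).map_injective W.subtype_injective⟩
    refine subnormal_subgroupOf_trans (Subgroup.map_subtype_le _) inf_le_right ?_ hWsn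
    have h5 : (J₀.map W.subtype).subgroupOf W = J₀ := by
      ext x
      simp [Subgroup.mem_subgroupOf]
    rw [h5]
    exact hJ₀.1
  · intro S hS hle
    refine (IsPQ.of_isPComponent hJ).le_of_le_sup hS ?_
    intro j hj
    have h1 : (⟨π j, j, hj, rfl⟩ : Jb) ∈ J₀.map φ := by rw [hJ₀m]; trivial
    obtain ⟨w, hw, hwj⟩ := h1
    have h2 : π (w : H) = π j := congrArg Subtype.val hwj
    have h3 : (w : H)⁻¹ * j ∈ O := by
      have h4 : π ((w : H)⁻¹ * j) = 1 := by rw [map_mul, map_inv, h2, inv_mul_cancel]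
      exact (QuotientGroup.eq_one_iff _).1 h4
    have h5 : j = (w : H) * ((w : H)⁻¹ * j) := by group
    rw [h5]
    exact mul_mem (mem_sup_left (hle ⟨w, hw, rfl⟩)) (mem_sup_right h3)

end Lift

section Ambient

variable {G : Type*} [Group G] [Finite G]

theorem _root_.Cfsg.IsPComponentOf.map_subtype {H : Subgroup G} {K B : Subgroup H} (h : IsPComponentOf 2 K B) :
    IsPComponentOf 2 (K.map H.subtype) (B.map H.subtype) := by
  refine isPComponentOf_iff.2 ⟨Subgroup.map_mono h.le, ?_, h.isPQ.map_injective H.subtype_injective⟩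
  have h1 := h.subnormal.comap ((B.equivMapOfInjective H.subtype H.subtype_injective).symm.toMonoidHom)
  have h2 : (K.subgroupOf B).comap ((B.equivMapOfInjective H.subtype H.subtype_injective).symm.toMonoidHom) =
      (K.map H.subtype).subgroupOf (B.map H.subtype) := by
    ext x
    obtain ⟨_, y, hy, rfl⟩ := x
    have e : (B.equivMapOfInjective H.subtype H.subtype_injective).symm ⟨H.subtype y, y, hy, rfl⟩ = ⟨y, hy⟩ := by
      rw [MulEquiv.symm_apply_eq]
      rfl
    simp only [Subgroup.mem_comap, MulEquiv.coe_toMonoidHom, e, Subgroup.mem_subgroupOf]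
    simp
  rwa [h2] at h1

theorem _root_.Cfsg.IsPComponentOf.subgroupOf {K B H : Subgroup G} (h : IsPComponentOf 2 K B) (hBH : B ≤ H) :
    IsPComponentOf 2 (K.subgroupOf H) (B.subgroupOf H) := by
  refine isPComponentOf_iff.2 ⟨?_, ?_, h.isPQ.subgroupOf (h.le.trans hBH)⟩
  · intro x hx
    exact h.le hx
  · let e : ↥(B.subgroupOf H) →* ↥B :=
      { toFun := fun x => ⟨x.1.1, x.2⟩
        map_one' := rfl
        map_mul' := fun _ _ => rfl }
    have h1 := h.subnormal.comap e
    have h2 : (K.subgroupOf B).comap e = (K.subgroupOf H).subgroupOf (B.subgroupOf H) := by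
      ext x
      simp [Subgroup.mem_subgroupOf, e]
    rwa [h2] at h1

theorem map_subtype_centralizer {H P : Subgroup G} (hP : P ≤ H) :
    (centralizer ((P.subgroupOf H : Subgroup H) : Set H)).map H.subtype = H ⊓ centralizer (P : Set G) := by
  ext x
  constructor
  · rintro ⟨y, hy, rfl⟩
    refine Subgroup.mem_inf.2 ⟨y.2, Subgroup.mem_centralizer_iff.2 ?_⟩
    intro a ha
    have h1 := (Subgroup.mem_centralizer_iff.1 hy) ⟨a, hP ha⟩ (by simpa [Subgroup.mem_subgroupOf] using ha)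
    exact congrArg Subtype.val h1
  · rintro ⟨hxH, hxC⟩
    refine ⟨⟨x, hxH⟩, SetLike.mem_coe.2 (Subgroup.mem_centralizer_iff.2 ?_), rfl⟩
    rintro ⟨a, haH⟩ ha
    apply Subtype.ext
    exact (Subgroup.mem_centralizer_iff.1 hxC) a (by simpa [Subgroup.mem_subgroupOf] using ha)

theorem subgroupOf_centralizer {H P : Subgroup G} (hP : P ≤ H) :
    (H ⊓ centralizer (P : Set G)).subgroupOf H = centralizer ((P.subgroupOf H : Subgroup H) : Set H) := by
  rw [← map_subtype_centralizer hP]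
  ext x
  simp [Subgroup.mem_subgroupOf]

/-- **The lifting lemma**, for subgroups of the ambient group. -/
theorem lift_compOf {J H P : Subgroup G} (hJ : IsPComponentOf 2 J H) (hPH : P ≤ H) (hP : IsPGroup 2 P)
    (hc : ∀ j ∈ J, ∀ a ∈ P, a * j * a⁻¹ * j⁻¹ ∈ oddOf H) :
    ∃ J', IsPComponentOf 2 J' (H ⊓ centralizer (P : Set G)) ∧
      ∀ M : Subgroup G, H ≤ normalizer (M : Set G) → J' ≤ M → J ≤ M := by
  have hP' : IsPGroup 2 (P.subgroupOf H) := Cfsg.Agent.Lib.Techniques.isPGroup_subgroupOf hPH hP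
  obtain ⟨J₀, hJ₀, hJ₀S⟩ := lift_comp (H := H) (J := J.subgroupOf H) (P := P.subgroupOf H) hJ.2 hP' (by
    rintro ⟨j, hjH⟩ hj ⟨a, haH⟩ ha
    have h1 := hc j hj a ha
    obtain ⟨o, ho, hoe⟩ := h1
    have : (⟨a, haH⟩ : H) * ⟨j, hjH⟩ * (⟨a, haH⟩ : H)⁻¹ * (⟨j, hjH⟩ : H)⁻¹ = o := Subtype.ext hoe.symm
    rw [this]
    exact ho)
  refine ⟨J₀.map H.subtype, ?_, ?_⟩
  · have := hJ₀.map_subtype
    rwa [map_subtype_centralizer hPH] at this
  · intro M hM hle
    have hS : (M.subgroupOf H).Normal := normal_subgroupOf_of_normalizes hM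
    have h1 := hJ₀S (M.subgroupOf H) hS.isSubnormal (fun x hx => by
      simpa [Subgroup.mem_subgroupOf] using hle ⟨x, hx, rfl⟩)
    intro j hj
    exact h1 (show (⟨j, hJ.le hj⟩ : H) ∈ J.subgroupOf H by simpa [Subgroup.mem_subgroupOf] using hj)

/-- A `2`-component lies in a normal subgroup or centralizes it modulo the odd core. -/
theorem _root_.Cfsg.IsPComponentOf.dichotomy {K H B : Subgroup G} (hK : IsPComponentOf 2 K H) (hB : B ≤ H)
    (hn : H ≤ normalizer (B : Set G)) (hKB : ¬ K ≤ B) : ∀ k ∈ K, ∀ b ∈ B, b * k * b⁻¹ * k⁻¹ ∈ oddOf H := by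
  haveI hN : (B.subgroupOf H).Normal := (Subgroup.normal_subgroupOf_iff_le_normalizer hB).2 hn
  have h1 := (Cfsg.Agent.Lib.Techniques.pComponent_le_or_commute (p := 2) hK.2 (M := B.subgroupOf H)).resolve_left (by
    intro hle
    apply hKB
    intro k hk
    exact hle (show (⟨k, hK.le hk⟩ : H) ∈ K.subgroupOf H by simpa [Subgroup.mem_subgroupOf] using hk))
  intro k hk b hb
  have h2 := h1 ⟨k, hK.le hk⟩ (by simpa [Subgroup.mem_subgroupOf] using hk) ⟨b, hB hb⟩
    (by simpa [Subgroup.mem_subgroupOf] using hb)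
  exact ⟨_, h2, rfl⟩

/-- The predicate of `L`-balance. -/
def LB (X : Type*) [Group X] : Prop :=
  ∀ T : Subgroup X, IsPGroup 2 T → ∀ K : Subgroup X, IsPComponentOf 2 K (centralizer (T : Set X)) → K ≤ pLayer 2 X

theorem LB.of_sub {H T K : Subgroup G} (hH : LB H) (hTH : T ≤ H) (hT : IsPGroup 2 T)
    (hK : IsPComponentOf 2 K (H ⊓ centralizer (T : Set G))) : K ≤ pLayerOf 2 H := by
  have h1 := hK.subgroupOf (inf_le_left : H ⊓ centralizer (T : Set G) ≤ H)
  rw [subgroupOf_centralizer hTH] at h1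
  have h2 := hH (T.subgroupOf H) (Cfsg.Agent.Lib.Techniques.isPGroup_subgroupOf hTH hT) _ h1
  intro x hx
  have hxH : x ∈ H := (hK.le hx).1
  exact ⟨⟨x, hxH⟩, h2 (by simpa [Subgroup.mem_subgroupOf] using hx), rfl⟩

end Ambient

end Cfsg.Agent.Lib.LBal
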