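import Mathlib
import Cfsg.Agent.Lib.Transfer.Alperin
import Cfsg.Agent.Lib.LBal.Basic

/-!
# Control of fusion by the centralizer of an involutory automorphism (owner: helper11).
-/

set_option autoImplicit false
set_option linter.unusedSectionVars false
set_option linter.unusedVariables false
set_option linter.style.haveILetI false

namespace Cfsg.Agent.Lib.LBal

open Subgroup Cfsg.Agent.Lib.Techniques Cfsg.Agent.Lib.Transfer

variable {M : Type*} [Group M] [Finite M]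

/-- `S ∩ N(D)` is a Sylow `2`-subgroup of `N(D)`. -/
def Tame (S D : Subgroup M) : Prop :=
  ¬ 2 ∣ (S ⊓ normalizer (D : Set M)).relIndex (normalizer (D : Set M))

theorem control_fus (C : Subgroup M) (S : Sylow 2 M)
    (hC : ∀ D : Subgroup M, D ≤ S → D ≠ ⊥ → Tame (S : Subgroup M) D → ∀ x ∈ normalizer (D : Set M),
      ∃ c ∈ C, ∀ d ∈ D, c⁻¹ * d * c = x⁻¹ * d * x)
    {A : Set M} {g : M} (h : Fus S A g) : ∃ c ∈ C, ∀ a ∈ A, c⁻¹ * a * c = g⁻¹ * a * g := by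
  induction h with
  | nil A => exact ⟨1, one_mem _, by simp⟩
  | cons A Q x g hx ht hA h ih =>
    obtain ⟨c', hc', ih⟩ := ih
    by_cases hD : (S : Subgroup M) ⊓ (Q : Subgroup M) = ⊥
    · refine ⟨1, one_mem _, fun a ha => ?_⟩
      have h1 : a ∈ (S : Subgroup M) ⊓ (Q : Subgroup M) := hA ha
      rw [hD, Subgroup.mem_bot] at h1
      simp [h1]
    · obtain ⟨c₁, hc₁, h₁⟩ := hC _ inf_le_left hD ht.1 x hx
      refine ⟨c₁ * c', mul_mem hc₁ hc', fun a ha => ?_⟩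
      have h2 := ih (x⁻¹ * a * x) ⟨a, ha, rfl⟩
      have h3 := h₁ a (hA ha)
      calc (c₁ * c')⁻¹ * a * (c₁ * c') = c'⁻¹ * (c₁⁻¹ * a * c₁) * c' := by group
        _ = c'⁻¹ * (x⁻¹ * a * x) * c' := by rw [h3]
        _ = g⁻¹ * (x⁻¹ * a * x) * g := h2
        _ = (x * g)⁻¹ * a * (x * g) := by group

theorem control_elt (C : Subgroup M) (S : Sylow 2 M)
    (hC : ∀ D : Subgroup M, D ≤ S → D ≠ ⊥ → Tame (S : Subgroup M) D → ∀ x ∈ normalizer (D : Set M),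
      ∃ c ∈ C, ∀ d ∈ D, c⁻¹ * d * c = x⁻¹ * d * x)
    {a g : M} (ha : a ∈ (S : Subgroup M)) (hg : g⁻¹ * a * g ∈ (S : Subgroup M)) :
    ∃ c ∈ C, c⁻¹ * a * c = g⁻¹ * a * g := by
  have h1 : Fus S {a} g := alperin_fus S {a} g (Set.singleton_subset_iff.2 ha) (by
    rintro _ ⟨b, hb, rfl⟩
    rw [Set.mem_singleton_iff] at hb
    subst hb
    exact hg)
  obtain ⟨c, hc, h2⟩ := control_fus C S hC h1
  exact ⟨c, hc, h2 a rfl⟩

/-- Every element of a Sylow subgroup has a conjugate generating a tame subgroup. -/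
theorem exists_tame_conj (S : Sylow 2 M) {w : M} (hw : w ∈ (S : Subgroup M)) :
    ∃ g : M, g⁻¹ * w * g ∈ (S : Subgroup M) ∧ Tame (S : Subgroup M) (zpowers (g⁻¹ * w * g)) := by
  classical
  let 𝒳 : Set M := {x | x ∈ (S : Subgroup M) ∧ ∃ g : M, x = g⁻¹ * w * g}
  have hne : 𝒳.Nonempty := ⟨w, hw, 1, by simp⟩
  obtain ⟨x, ⟨hxS, g, rfl⟩, hmax⟩ := Set.exists_max_image 𝒳
    (fun x => Nat.card ((S : Subgroup M) ⊓ normalizer ((zpowers x : Subgroup M) : Set M) : Subgroup M))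
    (Set.toFinite _) hne
  refine ⟨g, hxS, ?_⟩
  intro hdvd
  set x := g⁻¹ * w * g with hx
  set D : Subgroup M := zpowers x with hD
  set N := normalizer (D : Set M) with hN
  set B : Subgroup M := (S : Subgroup M) ⊓ N with hB
  have hBp : IsPGroup 2 B := S.isPGroup'.to_le inf_le_left
  obtain ⟨A, hBA, hA⟩ := exists_sylowIn_ge (p := 2) (inf_le_right : B ≤ N) hBp
  have hne' : B ≠ A := by
    rintro rfl
    exact hA.2.2 hdvd
  have hlt : Nat.card B < Nat.card A := Cfsg.Agent.Lib.Core.card_lt_card_of_lt (lt_of_le_of_ne hBA hne')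
  obtain ⟨m, -, hm⟩ := (sylowIn_top_of_sylow S).exists_conj_le le_top hA.2.1
  have hxD : x ∈ D := mem_zpowers x
  have hxB : x ∈ B := ⟨hxS, Subgroup.le_normalizer hxD⟩
  set x' := m * x * m⁻¹ with hx'
  have hx'S : x' ∈ (S : Subgroup M) := hm (conj_mem_conjS (hBA hxB))
  have hmem : x' ∈ 𝒳 := ⟨hx'S, g * m⁻¹, by rw [hx', hx]; group⟩
  have h1 := hmax x' hmem
  have h2 : conjS m D = zpowers x' := by
    show D.map (MulAut.conj m).toMonoidHom = _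
    rw [hD, MonoidHom.map_zpowers]
    rfl
  have h3 : conjS m A ≤ (S : Subgroup M) ⊓ normalizer ((zpowers x' : Subgroup M) : Set M) := by
    refine le_inf hm ?_
    rw [← h2, conj_normalizer]
    exact conjS_mono m hA.1
  have h4 : Nat.card A ≤ Nat.card B := by
    calc Nat.card A = Nat.card (conjS m A) := (card_conjS m A).symm
      _ ≤ _ := Subgroup.card_le_of_le h3
      _ ≤ Nat.card B := h1
  exact absurd hlt (not_lt.2 h4)

section Inv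

variable (σ : M ≃* M)

/-- The fixed points of an automorphism. -/
def fixS : Subgroup M where
  carrier := {g | σ g = g}
  one_mem' := map_one σ
  mul_mem' := fun {a b} ha hb => by
    show σ (a * b) = a * b
    rw [map_mul, show σ a = a from ha, show σ b = b from hb]
  inv_mem' := fun {a} ha => by
    show σ a⁻¹ = a⁻¹
    rw [map_inv, show σ a = a from ha]

theorem mem_fixS {g : M} : g ∈ fixS σ ↔ σ g = g := Iff.rfl

variable {σ}

/-- Fixed point of an involutory map on an odd set. -/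
theorem exists_fixed_of_involutive {α : Type*} [Finite α] (f : α → α) (hf : ∀ a, f (f a) = a)
    (hc : (Nat.card α).Coprime 2) : ∃ a, f a = a := by
  classical
  haveI : Fintype α := Fintype.ofFinite α
  let τ : Equiv.Perm α := ⟨f, f, hf, hf⟩
  have h1 : τ ^ 2 ^ 1 = 1 := by
    ext a
    simp [pow_two, τ, hf]
  have h2 : ¬ 2 ∣ Fintype.card α := by
    rw [Fintype.card_eq_nat_card]
    intro hd
    have h3 : 2 ∣ Nat.gcd (Nat.card α) 2 := Nat.dvd_gcd hd dvd_rfl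
    rw [hc] at h3
    omega
  haveI : Fact (Nat.Prime 2) := ⟨Nat.prime_two⟩
  obtain ⟨a, ha⟩ := Equiv.Perm.exists_fixed_point_of_prime h2 h1
  exact ⟨a, ha⟩

/-- The hypothesis of the control lemma from commutators in an odd subgroup. -/
theorem control_hyp (hσ : ∀ g, σ (σ g) = g) {D O : Subgroup M} (hD : IsPGroup 2 D)
    (hOD : O ≤ normalizer (D : Set M)) (hDO : normalizer (D : Set M) ≤ normalizer (O : Set M))
    (hOc : (Nat.card O).Coprime 2) (hOσ : ∀ o ∈ O, σ o ∈ O) {x : M} (hx : x ∈ normalizer (D : Set M))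
    (hc : σ x * x⁻¹ ∈ O) : ∃ c ∈ fixS σ, ∀ d ∈ D, c⁻¹ * d * c = x⁻¹ * d * x := by
  have hxO : x⁻¹ * σ x ∈ O := by
    have h1 := (mem_normalizer_iff.1 (hDO (inv_mem hx)) _).1 hc
    have h2 : x⁻¹ * (σ x * x⁻¹) * x⁻¹⁻¹ = x⁻¹ * σ x := by group
    rwa [h2] at h1
  let f : O → O := fun o => ⟨(x⁻¹ * σ x) * σ o, O.mul_mem hxO (hOσ _ o.2)⟩
  have hf1 : ∀ o : O, x * (f o : M) = σ (x * o) := by
    intro o
    simp only [f, map_mul]
    group
  have hff : ∀ o, f (f o) = o := by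
    intro o
    apply Subtype.ext
    have h1 := hf1 (f o)
    rw [hf1 o, hσ] at h1
    exact mul_left_cancel h1
  obtain ⟨o, ho⟩ := exists_fixed_of_involutive f hff hOc
  refine ⟨x * o, ?_, ?_⟩
  · rw [mem_fixS, ← hf1, ho]
  · intro d hd
    have hd' : x⁻¹ * d * x ∈ D := by
      have h1 := (mem_normalizer_iff.1 (inv_mem hx) d).1 hd
      simpa using h1
    -- `o` centralizes `D`
    have hcomm : ∀ e ∈ D, (o : M)⁻¹ * e * o = e := by
      intro e he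
      have h1 : (o : M)⁻¹ * e * o * e⁻¹ ∈ D := by
        refine D.mul_mem ?_ (D.inv_mem he)
        have h2 := (mem_normalizer_iff.1 (inv_mem (hOD o.2)) e).1 he
        simpa using h2
      have h3 : (o : M)⁻¹ * e * o * e⁻¹ ∈ O := by
        have h4 : (o : M)⁻¹ * e * o * e⁻¹ = (o : M)⁻¹ * (e * o * e⁻¹) := by group
        rw [h4]
        refine O.mul_mem (O.inv_mem o.2) ?_
        exact (mem_normalizer_iff.1 (hDO (Subgroup.le_normalizer he)) _).1 o.2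
      obtain ⟨k, hk⟩ := hD ⟨_, h1⟩
      have hk' : ((o : M)⁻¹ * e * o * e⁻¹) ^ 2 ^ k = 1 := congrArg Subtype.val hk
      have h5 := eq_one_of_twoElt_of_odd hk' hOc h3
      calc (o : M)⁻¹ * e * o = ((o : M)⁻¹ * e * o * e⁻¹) * e := by group
        _ = e := by rw [h5, one_mul]
    calc (x * o)⁻¹ * d * (x * o) = (o : M)⁻¹ * (x⁻¹ * d * x) * o := by group
      _ = x⁻¹ * d * x := hcomm _ hd'

/-- **Lemma Z.** -/
theorem lemmaZ (hσ : ∀ g, σ (σ g) = g) (S : Sylow 2 M) (hS : ∀ s ∈ (S : Subgroup M), σ s = s)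
    (H : ∀ D : Subgroup M, D ≤ S → D ≠ ⊥ → Tame (S : Subgroup M) D →
      ∃ O : Subgroup M, O ≤ normalizer (D : Set M) ∧ normalizer (D : Set M) ≤ normalizer (O : Set M) ∧
        (Nat.card O).Coprime 2 ∧ (∀ o ∈ O, σ o ∈ O) ∧ ∀ x ∈ normalizer (D : Set M), σ x * x⁻¹ ∈ O)
    (g : M) (hg : σ (σ g * g⁻¹) = σ g * g⁻¹) : σ g = g := by
  by_contra hne
  set Fx := fixS σ with hFx
  have hSF : (S : Subgroup M) ≤ Fx := hS
  have hSyl : SylowIn 2 (S : Subgroup M) Fx := (sylowIn_top_of_sylow S).of_le hSF le_top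
  have hC : ∀ D : Subgroup M, D ≤ S → D ≠ ⊥ → Tame (S : Subgroup M) D → ∀ x ∈ normalizer (D : Set M),
      ∃ c ∈ Fx, ∀ d ∈ D, c⁻¹ * d * c = x⁻¹ * d * x := by
    intro D hD hD1 hT x hx
    obtain ⟨O, h1, h2, h3, h4, h5⟩ := H D hD hD1 hT
    exact control_hyp hσ (S.isPGroup'.to_le hD) h1 h2 h3 h4 hx (h5 x hx)
  have pick : ∀ u ∈ Fx, u * u = 1 → ∃ d ∈ Fx, d * u * d⁻¹ ∈ (S : Subgroup M) := by
    intro u hu huu
    have h1 : IsPGroup 2 (zpowers u) := by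
      have h2 : orderOf u ∣ 2 := orderOf_dvd_of_pow_eq_one (by rw [pow_two]; exact huu)
      rcases (Nat.dvd_prime Nat.prime_two).1 h2 with h3 | h3
      · exact isPGroup_zpowers_of_orderOf 0 (by simpa using h3)
      · exact isPGroup_zpowers_of_orderOf 1 (by simpa using h3)
    obtain ⟨d, hd, hle⟩ := hSyl.exists_conj_le (Q := zpowers u) ((zpowers_le).2 hu) h1
    exact ⟨d, hd, hle (conj_mem_conjS (mem_zpowers u))⟩
  -- step 1
  set w := σ g * g⁻¹ with hw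
  have hw1 : w ≠ 1 := by
    intro h
    apply hne
    rwa [hw, mul_inv_eq_one] at h
  have hwinv : σ w = w⁻¹ := by
    rw [hw, map_mul, map_inv, hσ]
    group
  have hww : w * w = 1 := by
    have h1 : w = w⁻¹ := by rw [← hwinv]; exact hg.symm
    calc w * w = w * w⁻¹ := by rw [← h1]
      _ = 1 := mul_inv_cancel w
  obtain ⟨d₁, hd₁, hw₁⟩ := pick w hg hww
  set w₁ := d₁ * w * d₁⁻¹ with hw₁def
  set g₁ := d₁ * g with hg₁
  have hd₁' : σ d₁ = d₁ := hd₁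
  have hg₁w : σ g₁ * g₁⁻¹ = w₁ := by
    rw [hg₁, map_mul, hd₁', hw₁def, hw]
    group
  have hw₁w₁ : w₁ * w₁ = 1 := by
    calc w₁ * w₁ = d₁ * (w * w) * d₁⁻¹ := by rw [hw₁def]; group
      _ = 1 := by rw [hww]; group
  have hw₁1 : w₁ ≠ 1 := by
    intro h
    apply hw1
    have : w = d₁⁻¹ * w₁ * d₁ := by rw [hw₁def]; group
    rw [this, h]
    group
  set u' := g₁⁻¹ * w₁ * g₁ with hu'
  have hu'e : u' = g₁⁻¹ * σ g₁ := by
    rw [hu', ← hg₁w]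
    group
  have hu'u' : u' * u' = 1 := by
    calc u' * u' = g₁⁻¹ * (w₁ * w₁) * g₁ := by rw [hu']; group
      _ = 1 := by rw [hw₁w₁]; group
  have hu'inv : u'⁻¹ = u' := by
    rw [inv_eq_iff_mul_eq_one]
    exact hu'u'
  have hu'F : u' ∈ Fx := by
    rw [hFx, mem_fixS]
    calc σ u' = σ (g₁⁻¹ * σ g₁) := by rw [hu'e]
      _ = (σ g₁)⁻¹ * g₁ := by rw [map_mul, map_inv, hσ]
      _ = u'⁻¹ := by rw [hu'e]; group
      _ = u' := hu'inv
  obtain ⟨d₂, hd₂, hw₂⟩ := pick u' hu'F hu'u'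
  set w₂ := d₂ * u' * d₂⁻¹ with hw₂def
  set g₂ := d₂ * g₁⁻¹ with hg₂
  have hd₂' : σ d₂ = d₂ := hd₂
  have hg₂w : σ g₂ * g₂⁻¹ = w₂ := by
    have h1 : σ g₂ * g₂⁻¹ = d₂ * u'⁻¹ * d₂⁻¹ := by
      rw [hg₂, map_mul, map_inv, hd₂', hu'e]
      group
    rw [h1, hu'inv]
  have hg₂c : g₂ * w₁ * g₂⁻¹ = w₂ := by
    rw [hw₂def, hu', hg₂]
    group
  obtain ⟨c₀, hc₀, hc₀e⟩ := control_elt Fx S hC (a := w₁) (g := g₂⁻¹) hw₁ (by
    rw [inv_inv, hg₂c]
    exact hw₂)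
  rw [inv_inv, hg₂c] at hc₀e
  set g₃ := c₀ * g₂ with hg₃
  have hc₀' : σ c₀ = c₀ := hc₀
  have hg₃c : g₃ * w₁ * g₃⁻¹ = w₁ := by
    calc g₃ * w₁ * g₃⁻¹ = c₀ * (g₂ * w₁ * g₂⁻¹) * c₀⁻¹ := by rw [hg₃]; group
      _ = c₀ * (c₀⁻¹ * w₁ * c₀) * c₀⁻¹ := by rw [hg₂c, hc₀e]
      _ = w₁ := by group
  have hg₃w : σ g₃ * g₃⁻¹ = w₁ := by
    calc σ g₃ * g₃⁻¹ = c₀ * (σ g₂ * g₂⁻¹) * c₀⁻¹ := by rw [hg₃, map_mul, hc₀']; group
      _ = c₀ * (c₀⁻¹ * w₁ * c₀) * c₀⁻¹ := by rw [hg₂w, hc₀e]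
      _ = w₁ := by group
  obtain ⟨t, ht, htame⟩ := exists_tame_conj S hw₁
  set w₃ := t⁻¹ * w₁ * t with hw₃
  obtain ⟨c₁, hc₁, hc₁e'⟩ := control_elt Fx S hC (a := w₁) (g := t) hw₁ ht
  have hc₁e : c₁⁻¹ * w₁ * c₁ = w₃ := hc₁e'
  have hc₁' : σ c₁ = c₁ := hc₁
  set g₄ := c₁⁻¹ * g₃ * c₁ with hg₄
  have hg₄c : g₄ * w₃ * g₄⁻¹ = w₃ := by
    rw [← hc₁e]
    calc g₄ * (c₁⁻¹ * w₁ * c₁) * g₄⁻¹ = c₁⁻¹ * (g₃ * w₁ * g₃⁻¹) * c₁ := by rw [hg₄]; group
      _ = c₁⁻¹ * w₁ * c₁ := by rw [hg₃c]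
  have hg₄w : σ g₄ * g₄⁻¹ = w₃ := by
    rw [← hc₁e]
    calc σ g₄ * g₄⁻¹ = c₁⁻¹ * (σ g₃ * g₃⁻¹) * c₁ := by
          rw [hg₄, map_mul, map_mul, map_inv, hc₁']; group
      _ = c₁⁻¹ * w₁ * c₁ := by rw [hg₃w]
  have hw₃1 : w₃ ≠ 1 := by
    intro h
    apply hw₁1
    have : w₁ = t * w₃ * t⁻¹ := by rw [hw₃]; group
    rw [this, h]
    group
  have hw₃w₃ : w₃ * w₃ = 1 := by
    calc w₃ * w₃ = t⁻¹ * (w₁ * w₁) * t := by rw [hw₃]; group
      _ = 1 := by rw [hw₁w₁]; group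
  have hDS : zpowers w₃ ≤ (S : Subgroup M) := (zpowers_le).2 ht
  have hDne : zpowers w₃ ≠ ⊥ := by
    rw [Ne, zpowers_eq_bot]
    exact hw₃1
  obtain ⟨O, -, -, h3, -, h5⟩ := H _ hDS hDne htame
  have hg₄N : g₄ ∈ normalizer ((zpowers w₃ : Subgroup M) : Set M) := by
    apply mem_normalizer_of_conj_le
    intro m hm
    obtain ⟨k, rfl⟩ := mem_zpowers_iff.1 hm
    rw [← conj_zpow, hg₄c]
    exact zpow_mem (mem_zpowers w₃) k
  have h6 := h5 g₄ hg₄N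
  rw [hg₄w] at h6
  exact hw₃1 (eq_one_of_twoElt_of_odd (n := 1) (by simpa [pow_two] using hw₃w₃) h3 h6)

end Inv

end Cfsg.Agent.Lib.LBal
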