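import Mathlib
import Cfsg.Agent.Lib.LBal.LemmaZ
import Cfsg.Agent.Lib.ZStar.Main

/-!
# The involution criterion (owner: helper11): the ambient form of Lemma Z with the `Z*`-theorem.
-/

set_option autoImplicit false
set_option linter.unusedSectionVars false
set_option linter.unusedVariables false
set_option linter.style.haveILetI false

namespace Cfsg.Agent.Lib.LBal

open Subgroup Cfsg Cfsg.Agent.Lib.Techniques Cfsg.Agent.Lib.Transfer

universe u

variable {G : Type u} [Group G] [Finite G]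

theorem map_subtype_normalizer_of_le {M : Subgroup G} (D' : Subgroup M) :
    (normalizer (D' : Set M)).map M.subtype = M ⊓ normalizer ((D'.map M.subtype : Subgroup G) : Set G) := by
  apply le_antisymm
  · rintro _ ⟨x, hx, rfl⟩
    refine Subgroup.mem_inf.2 ⟨x.2, ?_⟩
    apply mem_normalizer_of_conj_le
    rintro _ ⟨d, hd, rfl⟩
    exact ⟨x * d * x⁻¹, (mem_normalizer_iff.1 hx d).1 hd, rfl⟩
  · rintro x hx
    obtain ⟨hxM, hxN⟩ := Subgroup.mem_inf.1 hx
    refine ⟨⟨x, hxM⟩, ?_, rfl⟩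
    apply SetLike.mem_coe.2
    apply mem_normalizer_of_conj_le
    intro d hd
    have h1 : x * (d : G) * x⁻¹ ∈ (D'.map M.subtype : Subgroup G) :=
      (mem_normalizer_iff.1 hxN d).1 ⟨d, hd, rfl⟩
    obtain ⟨e, he, hee⟩ := h1
    have : (⟨x, hxM⟩ : M) * d * (⟨x, hxM⟩ : M)⁻¹ = e := Subtype.ext hee.symm
    rw [this]
    exact he

/-- **The involution criterion.** -/
theorem comm_of_lemmaZ {M S : Subgroup G} [hM : M.Normal] {y : G} (hy : orderOf y = 2)
    (hS : SylowIn 2 S M) (hyS : ∀ s ∈ S, s * y = y * s)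
    (hH : ∀ D : Subgroup G, D ≤ S → D ≠ ⊥ → SylowIn 2 (S ⊓ normalizer (D : Set G)) (M ⊓ normalizer (D : Set G)) →
      ∀ x ∈ M ⊓ normalizer (D : Set G), y * x * y⁻¹ * x⁻¹ ∈ oddOf (normalizer (D : Set G)))
    (hO : ∀ N : Subgroup G, N ≤ M → M ≤ normalizer (N : Set G) → (Nat.card N).Coprime 2 → N = ⊥) :
    ∀ m ∈ M, m * y = y * m := by
  classical
  have hyy : y * y = 1 := by rw [← pow_two, ← hy, pow_orderOf_eq_one]
  have hyi : y⁻¹ = y := inv_eq_of_mul_eq_one_left hyy
  let σ : M ≃* M := MulAut.conjNormal y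
  have hσv : ∀ g : M, ((σ g : M) : G) = y * g * y⁻¹ := fun g => MulAut.conjNormal_apply y g
  have hσσ : ∀ g, σ (σ g) = g := by
    intro g
    apply Subtype.ext
    rw [hσv, hσv, hyi]
    calc y * (y * (g : G) * y) * y = (y * y) * (g : G) * (y * y) := by group
      _ = g := by rw [hyy]; group
  let S' : Sylow 2 M := hS.toSylow
  have hS'c : (S' : Subgroup M) = S.subgroupOf M := rfl
  have hS's : ∀ s ∈ (S' : Subgroup M), σ s = s := by
    intro s hs
    rw [hS'c, Subgroup.mem_subgroupOf] at hs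
    apply Subtype.ext
    rw [hσv, ← hyS _ hs]
    group
  have hSM := hS.1
  have hZ := lemmaZ (σ := σ) hσσ S' hS's (by
    intro D' hD'S hD'ne hT
    set D : Subgroup G := D'.map M.subtype with hD
    have hDS : D ≤ S := by
      rintro _ ⟨d, hd, rfl⟩
      have := hD'S hd
      rw [hS'c, Subgroup.mem_subgroupOf] at this
      exact this
    have hDne : D ≠ ⊥ := by
      rw [hD, Ne, Subgroup.map_eq_bot_iff_of_injective _ M.subtype_injective]
      exact hD'ne
    have hN := map_subtype_normalizer_of_le D'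
    set NG := normalizer (D : Set G) with hNG
    have hSyl : SylowIn 2 (S ⊓ NG) (M ⊓ NG) := by
      refine ⟨inf_le_inf_right _ hSM, hS.2.1.to_le inf_le_left, ?_⟩
      intro hdvd
      apply hT
      have h1 : (S ⊓ NG) = ((S' : Subgroup M) ⊓ normalizer (D' : Set M)).map M.subtype := by
        rw [Subgroup.map_inf _ _ _ M.subtype_injective, hN, hS'c]
        have h2 : (S.subgroupOf M).map M.subtype = S := by
          rw [Subgroup.map_subgroupOf_eq_of_le hSM]
        rw [h2, ← inf_assoc, inf_eq_left.2 hSM]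
      rw [← hN, h1, Subgroup.relIndex_map_map_of_injective _ _ M.subtype_injective] at hdvd
      exact hdvd
    have hres := hH D hDS hDne hSyl
    have hyN : y ∈ NG := by
      apply mem_normalizer_of_conj_le
      intro d hd
      rw [← hyS d (hDS hd)]
      simpa using hd
    have hmemN : ∀ x : M, x ∈ normalizer (D' : Set M) → (x : G) ∈ M ⊓ NG := by
      intro x hx
      rw [← hN]
      exact ⟨x, hx, rfl⟩
    refine ⟨(oddOf NG).comap M.subtype, ?_, ?_, ?_, ?_, ?_⟩
    · intro o ho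
      have h1 : (o : G) ∈ M ⊓ NG := Subgroup.mem_inf.2 ⟨o.2, oddOf_le NG ho⟩
      rw [← hN] at h1
      obtain ⟨z, hz, hze⟩ := h1
      have : z = o := Subtype.ext hze
      rwa [← this]
    · intro x hx
      apply SetLike.mem_coe.2
      apply mem_normalizer_of_conj_le
      intro o ho
      have h1 := le_normalizer_oddOf (H := NG) (R := NG) Subgroup.le_normalizer (Subgroup.mem_inf.1 (hmemN x hx)).2
      exact (mem_normalizer_iff.1 h1 o).1 ho
    · exact Nat.Coprime.coprime_dvd_left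
        (Subgroup.card_comap_dvd_of_injective _ M.subtype M.subtype_injective) (oddOf_coprime NG)
    · intro o ho
      have h1 := le_normalizer_oddOf (H := NG) (R := NG) Subgroup.le_normalizer hyN
      show ((σ o : M) : G) ∈ oddOf NG
      rw [hσv]
      exact (mem_normalizer_iff.1 h1 o).1 ho
    · intro x hx
      have h1 := hres x (hmemN x hx)
      show (((σ x * x⁻¹ : M)) : G) ∈ oddOf NG
      rw [Subgroup.coe_mul, hσv, Subgroup.coe_inv]
      exact h1)
  -- the `Z*`-theorem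
  set G₂ : Subgroup G := M ⊔ zpowers y with hG₂
  have hyG₂ : y ∈ G₂ := mem_sup_right (mem_zpowers y)
  have hMG₂ : M ≤ G₂ := le_sup_left
  let y₂ : G₂ := ⟨y, hyG₂⟩
  have hy₂ : orderOf y₂ = 2 := by
    rw [← Subgroup.orderOf_coe]
    exact hy
  have hiso : IsIsolatedInvolution y₂ := by
    refine ⟨hy₂, ?_⟩
    rintro ⟨g, hg⟩ hc
    obtain ⟨m, hm, b, hb, rfl⟩ := (Subgroup.mem_sup_of_normal_left (s := M)).mp hg
    have hbc : b * y * b⁻¹ = y := by
      obtain ⟨k, rfl⟩ := mem_zpowers_iff.1 hb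
      rw [(Commute.zpow_left (Commute.refl y) k).eq]
      group
    have he : (m * b) * y * (m * b)⁻¹ = m * y * m⁻¹ := by
      calc (m * b) * y * (m * b)⁻¹ = m * (b * y * b⁻¹) * m⁻¹ := by group
        _ = m * y * m⁻¹ := by rw [hbc]
    have hc' : y * (m * y * m⁻¹) = (m * y * m⁻¹) * y := by
      have h1 := congrArg Subtype.val hc.eq
      have h2 : y * ((m * b) * y * (m * b)⁻¹) = ((m * b) * y * (m * b)⁻¹) * y := h1
      rwa [he] at h2
    let m' : M := ⟨m, hm⟩
    have hσm : σ m' = m' := hZ m' (by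
      apply Subtype.ext
      have e1 : ((σ m' * m'⁻¹ : M) : G) = y * m * y⁻¹ * m⁻¹ := by
        rw [Subgroup.coe_mul, hσv]
        rfl
      rw [hσv, e1, hyi]
      calc y * (y * m * y * m⁻¹) * y = (y * y) * (m * y * m⁻¹) * y := by group
        _ = (m * y * m⁻¹) * y := by rw [hyy, one_mul]
        _ = y * (m * y * m⁻¹) := hc'.symm
        _ = y * m * y * m⁻¹ := by group)
    have h3 : y * m * y⁻¹ = m := by
      have := congrArg Subtype.val hσm
      rwa [hσv] at this
    apply Subtype.ext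
    show (m * b) * y * (m * b)⁻¹ = y
    rw [he]
    have h4 : y * m = m * y := by
      calc y * m = (y * m * y⁻¹) * y := by group
        _ = m * y := by rw [h3]
    rw [← h4]
    group
  obtain ⟨N, hNn, hNo, hN⟩ := Cfsg.Agent.Lib.ZStar.zstarProp G₂ y₂ hiso
  have hNc : (Nat.card N).Coprime 2 := Nat.coprime_two_right.2 hNo
  set N₂ : Subgroup G := N.map G₂.subtype ⊓ M with hN₂d
  have hN₂ : N₂ = ⊥ := by
    refine hO N₂ inf_le_right ?_ ?_
    · intro x hx
      apply mem_normalizer_of_conj_le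
      rintro n ⟨⟨n', hn', rfl⟩, hnM⟩
      refine ⟨⟨(⟨x, hMG₂ hx⟩ : G₂) * n' * (⟨x, hMG₂ hx⟩ : G₂)⁻¹, hNn.conj_mem _ hn' _, rfl⟩, ?_⟩
      exact hM.conj_mem _ hnM x
    · have h1 : Nat.card N₂ ∣ Nat.card (N.map G₂.subtype) := Subgroup.card_dvd_of_le inf_le_left
      exact Nat.Coprime.coprime_dvd_left (h1.trans (Subgroup.card_map_dvd _ _)) hNc
  intro m hm
  let m₂ : G₂ := ⟨m, hMG₂ hm⟩
  have h1 := hN m₂
  have h2 : y * (m * y * m⁻¹) ∈ N₂ := by
    refine ⟨⟨_, h1, rfl⟩, ?_⟩
    have h3 : y * (m * y * m⁻¹) = (y * m * y⁻¹) * m⁻¹ := by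
      rw [hyi]
      group
    show y * (m * y * m⁻¹) ∈ M
    rw [h3]
    exact M.mul_mem (hM.conj_mem m hm y) (M.inv_mem hm)
  rw [hN₂, Subgroup.mem_bot] at h2
  have h3 : m * y * m⁻¹ = y := by
    have h4 : m * y * m⁻¹ = y⁻¹ := eq_inv_of_mul_eq_one_right h2
    rw [h4, hyi]
  calc m * y = (m * y * m⁻¹) * m := by group
    _ = y * m := by rw [h3]

end Cfsg.Agent.Lib.LBal
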