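import Mathlib
import Cfsg.Agent.Lib.LBal.Lift
import Cfsg.Agent.Lib.LBal.ZApp
import Cfsg.Agent.Lib.Hall.Frobenius3

/-!
# The core theorem of `L`-balance (owner: helper11).
-/

set_option autoImplicit false
set_option linter.unusedSectionVars false
set_option linter.unusedVariables false
set_option linter.style.haveILetI false

namespace Cfsg.Agent.Lib.LBal

open Subgroup Cfsg Cfsg.Agent.Lib.Techniques Cfsg.Agent.Lib.Core

universe u

section Abs

variable {Y : Type*} [Group Y] [Finite Y]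

theorem sylowIn_map_surjective {Y' : Type*} [Group Y'] [Finite Y'] {S W : Subgroup Y} (hS : SylowIn 2 S W)
    (π : Y →* Y') (hπ : Function.Surjective π) : SylowIn 2 (S.map π) (W.map π) := by
  refine ⟨Subgroup.map_mono hS.1, hS.2.1.map π, ?_⟩
  let f : W →* W.map π := π.subgroupMap W
  have hf : Function.Surjective f := π.subgroupMap_surjective W
  have h1 : ((S.subgroupOf W).map f) = (S.map π).subgroupOf (W.map π) := by
    ext x
    obtain ⟨x, y, hy, rfl⟩ := x
    constructor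
    · rintro ⟨z, hz, hzx⟩
      rw [Subgroup.mem_subgroupOf]
      exact ⟨z, hz, congrArg Subtype.val hzx⟩
    · intro hx
      rw [Subgroup.mem_subgroupOf] at hx
      obtain ⟨s, hs, hse⟩ := hx
      exact ⟨⟨s, hS.1 hs⟩, by simpa [Subgroup.mem_subgroupOf] using hs, Subtype.ext hse⟩
  have h2 : (S.map π).relIndex (W.map π) ∣ S.relIndex W := by
    unfold Subgroup.relIndex
    rw [← h1]
    exact Subgroup.index_map_dvd _ hf
  intro hd
  exact hS.2.2 (hd.trans h2)

theorem perfect_le_of_sylow_central {W V S₀ A : Subgroup Y} [hW : W.Normal] [hV : V.Normal]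
    (hS₀ : SylowIn 2 S₀ W) (hA : IsPQ A) (hAle : A ≤ W ⊔ V) (hAc : ∀ a ∈ A, ∀ s ∈ S₀, s * a = a * s) : A ≤ V := by
  classical
  set π := QuotientGroup.mk' V with hπ
  have hπs : Function.Surjective π := QuotientGroup.mk'_surjective V
  have hSyl := sylowIn_map_surjective hS₀ π hπs
  have hmemW : ∀ x ∈ A, π x ∈ W.map π := by
    intro x hx
    obtain ⟨w, hw, v, hv, rfl⟩ := (Subgroup.mem_sup_of_normal_right (t := V)).mp (hAle hx)
    refine ⟨w, hw, ?_⟩
    have : π v = 1 := (QuotientGroup.eq_one_iff _).2 hv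
    rw [map_mul, this, mul_one]
  have hcomm : ∀ x ∈ A, ∀ s ∈ S₀.map π, s * π x = π x * s := by
    rintro x hx _ ⟨s, hs, rfl⟩
    rw [← map_mul, ← map_mul, hAc x hx s hs]
  have hmemS : ∀ x ∈ A, ∀ n : ℕ, x ^ 2 ^ n = 1 → π x ∈ S₀.map π := by
    intro x hx n hn
    have hz : IsPGroup 2 (zpowers (π x)) := by
      rw [IsPGroup.iff_orderOf]
      rintro ⟨z, hz⟩
      obtain ⟨k, rfl⟩ := mem_zpowers_iff.1 hz
      have h1 : (π x) ^ 2 ^ n = 1 := by rw [← map_pow, hn, map_one]
      have h2 : ((⟨(π x) ^ k, hz⟩ : zpowers (π x))) ^ 2 ^ n = 1 := by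
        apply Subtype.ext
        simp only [SubgroupClass.coe_pow, OneMemClass.coe_one]
        rw [← zpow_natCast, ← zpow_mul, mul_comm, zpow_mul, zpow_natCast, h1, one_zpow]
      exact (Nat.dvd_prime_pow Nat.prime_two).1 (orderOf_dvd_of_pow_eq_one h2) |>.imp fun a h => h.2
    have hR : IsPGroup 2 ((S₀.map π ⊔ zpowers (π x) : Subgroup _)) := by
      refine hSyl.2.1.to_sup_of_normal_right' hz ?_
      intro s hs
      apply mem_normalizer_of_conj_le
      intro m hm
      obtain ⟨k, rfl⟩ := mem_zpowers_iff.1 hm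
      rw [← conj_zpow, hcomm x hx s hs]
      simp only [mul_inv_cancel_right]
      exact zpow_mem (mem_zpowers _) k
    have hle : S₀.map π ⊔ zpowers (π x) ≤ W.map π :=
      sup_le hSyl.1 ((zpowers_le).2 (hmemW x hx))
    have heq := hSyl.eq_of_le le_sup_left hle hR
    rw [← heq]
    exact mem_sup_right (mem_zpowers _)
  -- the image of `A` is abelian
  set X : Set (Y ⧸ V) := π '' {g | g ∈ A ∧ ∃ n : ℕ, g ^ 2 ^ n = 1} with hX
  have hAm : A.map π = closure X := by
    rw [hX, ← MonoidHom.map_closure]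
    congr 1
    exact hA.closure_eq.symm
  have hXc : ∀ a ∈ X, ∀ b ∈ X, a * b = b * a := by
    rintro _ ⟨a, ⟨ha, n, hn⟩, rfl⟩ _ ⟨b, ⟨hb, -⟩, rfl⟩
    exact (hcomm b hb _ (hmemS a ha n hn))
  have hab : ⁅A.map π, A.map π⁆ = ⊥ := by
    rw [Subgroup.commutator_eq_bot_iff_le_centralizer, hAm]
    rw [Subgroup.closure_le]
    intro a ha
    have h1 : closure X ≤ centralizer ({a} : Set (Y ⧸ V)) := by
      rw [Subgroup.closure_le]
      intro b hb
      rw [SetLike.mem_coe, Subgroup.mem_centralizer_singleton_iff]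
      exact hXc b hb a ha
    rw [SetLike.mem_coe, Subgroup.mem_centralizer_iff]
    intro b hb
    have h2 := h1 hb
    rw [Subgroup.mem_centralizer_singleton_iff] at h2
    exact h2
  have h3 : A.map π = ⊥ := by
    rw [← Subgroup.map_commutator, hA.perfect] at hab
    exact hab
  intro a ha
  have h4 : π a ∈ A.map π := ⟨a, ha, rfl⟩
  rw [h3, Subgroup.mem_bot] at h4
  exact (QuotientGroup.eq_one_iff a).1 h4

theorem comm_mem_of_le_pLayer {W S₀ A : Subgroup Y} [hW : W.Normal] (hS₀ : SylowIn 2 S₀ W) (hA : IsPQ A)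
    (hAL : A ≤ pLayer 2 Y) (hAc : ∀ a ∈ A, ∀ s ∈ S₀, s * a = a * s) :
    ∀ a ∈ A, ∀ w ∈ W, a * w * a⁻¹ * w⁻¹ ∈ pPrimeCore 2 Y := by
  classical
  set π := QuotientGroup.mk' (pPrimeCore 2 Y) with hπ
  have hπs : Function.Surjective π := QuotientGroup.mk'_surjective _
  haveI hWb : (W.map π).Normal := hW.map π hπs
  set V : Subgroup Y := (centralizer ((W.map π : Subgroup _) : Set _)).comap π with hVd
  haveI hV : V.Normal := Subgroup.Normal.comap Subgroup.normal_centralizer π
  have hL : pLayer 2 Y ≤ W ⊔ V := by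
    refine sSup_le fun E hE => ?_
    rcases pComponent_le_or_commute (p := 2) (K := E) (M := W) hE with h | h
    · exact h.trans le_sup_left
    · refine le_trans ?_ le_sup_right
      intro k hk
      show π k ∈ centralizer ((W.map π : Subgroup _) : Set _)
      rw [Subgroup.mem_centralizer_iff]
      rintro _ ⟨m, hm, rfl⟩
      have h1 : π (m * k * m⁻¹ * k⁻¹) = 1 := (QuotientGroup.eq_one_iff _).2 (h k hk m hm)
      rw [map_mul, map_mul, map_mul, map_inv, map_inv] at h1
      calc π m * π k = (π m * π k * (π m)⁻¹ * (π k)⁻¹) * (π k * π m) := by group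
        _ = π k * π m := by rw [h1, one_mul]
  have hAV := perfect_le_of_sylow_central hS₀ hA (hAL.trans hL) hAc
  intro a ha w hw
  have h1 : π a ∈ centralizer ((W.map π : Subgroup _) : Set _) := hAV ha
  have h2 := (Subgroup.mem_centralizer_iff.1 h1) (π w) ⟨w, hw, rfl⟩
  rw [← QuotientGroup.eq_one_iff (N := pPrimeCore 2 Y)]
  change π (a * w * a⁻¹ * w⁻¹) = 1
  rw [map_mul, map_mul, map_mul, map_inv, map_inv, ← h2]
  group

end Abs

variable {G : Type u} [Group G] [Finite G]

theorem pLayerOf_normalizer_le_centralizer {D : Subgroup G} (hD : IsPGroup 2 D) :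
    pLayerOf 2 (normalizer (D : Set G)) ≤ pLayerOf 2 (centralizer (D : Set G)) := by
  rw [pLayerOf_le_iff]
  intro K hK
  have hKD : ¬ K ≤ D := hK.isPQ.not_le_pgroup hD
  have h1 := hK.dichotomy (B := D) Subgroup.le_normalizer (fun x hx => hx) hKD
  have h2 : K ≤ centralizer (D : Set G) := by
    intro k hk
    rw [Subgroup.mem_centralizer_iff]
    intro b hb
    have h3 := h1 k hk b hb
    have h4 : b * k * b⁻¹ * k⁻¹ ∈ D := by
      have h5 : b * k * b⁻¹ * k⁻¹ = b * (k * b⁻¹ * k⁻¹) := by group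
      rw [h5]
      exact D.mul_mem hb ((mem_normalizer_iff.1 (hK.le hk) _).1 (D.inv_mem hb))
    obtain ⟨n, hn⟩ := hD ⟨_, h4⟩
    have hn' : (b * k * b⁻¹ * k⁻¹) ^ 2 ^ n = 1 := congrArg Subtype.val hn
    have h6 := eq_one_of_twoElt_of_odd hn' (oddOf_coprime _) h3
    calc b * k = (b * k * b⁻¹ * k⁻¹) * (k * b) := by group
      _ = k * b := by rw [h6, one_mul]
  exact (hK.of_le h2 (Subgroup.centralizer_le_normalizer _)).le_pLayerOf

theorem pLayerOf_centralizer_step {D D₁ : Subgroup G} (hD₁ : IsPGroup 2 D₁) (hle : D ≤ D₁)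
    (hn : D₁ ≤ normalizer (D : Set G)) (hLB : LB (normalizer (D : Set G))) :
    pLayerOf 2 (centralizer (D₁ : Set G)) ≤ pLayerOf 2 (centralizer (D : Set G)) := by
  rw [pLayerOf_le_iff]
  intro K hK
  have hC : centralizer (D₁ : Set G) ≤ normalizer (D : Set G) :=
    (Subgroup.centralizer_le hle).trans (Subgroup.centralizer_le_normalizer _)
  have h1 : IsPComponentOf 2 K (normalizer (D : Set G) ⊓ centralizer (D₁ : Set G)) := by
    rwa [inf_eq_right.2 hC]
  have h2 := LB.of_sub hLB hn hD₁ h1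
  exact h2.trans (pLayerOf_normalizer_le_centralizer (hD₁.to_le hle))

theorem pLayerOf_centralizer_le {S : Subgroup G} (hS : IsPGroup 2 S)
    (hIH : ∀ D ≤ S, D ≠ ⊥ → LB (normalizer (D : Set G))) :
    ∀ D ≤ S, D ≠ ⊥ → pLayerOf 2 (centralizer (S : Set G)) ≤ pLayerOf 2 (centralizer (D : Set G)) := by
  have key : ∀ n : ℕ, ∀ D ≤ S, D ≠ ⊥ → Nat.card S - Nat.card D = n →
      pLayerOf 2 (centralizer (S : Set G)) ≤ pLayerOf 2 (centralizer (D : Set G)) := by
    intro n
    induction n using Nat.strong_induction_on with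
    | _ n ih =>
      intro D hDS hD hn
      rcases eq_or_lt_of_le hDS with rfl | hlt
      · exact le_rfl
      · have hlt' := Cfsg.Agent.Lib.Transfer.lt_inf_normalizer hS hlt
        set D₁ := S ⊓ normalizer (D : Set G) with hD₁
        have h1 : Nat.card D < Nat.card D₁ := card_lt_card_of_lt hlt'
        have h2 : Nat.card D₁ ≤ Nat.card S := Subgroup.card_le_of_le inf_le_left
        have h3 : D₁ ≠ ⊥ := by
          intro h
          rw [h] at hlt'
          exact not_lt_bot hlt'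
        have h4 := ih (Nat.card S - Nat.card D₁) (by omega) D₁ inf_le_left h3 rfl
        exact h4.trans (pLayerOf_centralizer_step (hS.to_le inf_le_left) hlt'.le inf_le_right (hIH D hDS hD))
  intro D hDS hD
  exact key _ D hDS hD rfl

theorem normalizer_le_normalizer_centralizer' (D : Subgroup G) :
    normalizer (D : Set G) ≤ normalizer (centralizer (D : Set G) : Set G) := by
  intro x hx
  apply mem_normalizer_of_conj_le
  intro c hc
  rw [Subgroup.mem_centralizer_iff]
  intro d hd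
  have h1 : x⁻¹ * d * x ∈ D := by
    have h2 := (mem_normalizer_iff.1 (inv_mem hx) d).1 hd
    simpa using h2
  have h3 := (Subgroup.mem_centralizer_iff.1 hc) _ h1
  calc d * (x * c * x⁻¹) = x * ((x⁻¹ * d * x) * c) * x⁻¹ := by group
    _ = x * (c * (x⁻¹ * d * x)) * x⁻¹ := by rw [h3]
    _ = x * c * x⁻¹ * d := by group

theorem isPGroup_subgroupOf' {S : Subgroup G} (N : Subgroup G) (hS : IsPGroup 2 S) : IsPGroup 2 (S.subgroupOf N) :=
  hS.comap_subtype

/-- **The core theorem.** -/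
theorem core (M : Subgroup G) [hM : M.Normal] (hC : ∀ g, (∀ m ∈ M, m * g = g * m) → g = 1)
    (hO : ∀ N : Subgroup G, N ≤ M → M ≤ normalizer (N : Set G) → (Nat.card N).Coprime 2 → N = ⊥)
    (h2 : ∀ P : Subgroup G, P ≤ M → M ≤ normalizer (P : Set G) → IsPGroup 2 P → P = ⊥)
    (IH : ∀ H : Subgroup G, H ≠ ⊤ → LB H)
    {T : Subgroup G} (hT : IsPGroup 2 T) {J : Subgroup G} (hJ : IsPComponentOf 2 J (centralizer (T : Set G))) :
    J ≤ M := by
  classical
  by_contra hJM
  obtain ⟨Q, hTQ⟩ := hT.exists_le_sylow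
  set S : Subgroup G := (Q : Subgroup G) ⊓ M with hSd
  have hMn : (⊤ : Subgroup G) ≤ normalizer (M : Set G) := by
    rw [Subgroup.normalizer_eq_top_iff.2 hM]
  have hSyl : SylowIn 2 S M := (sylowIn_top_of_sylow Q).inf_of_normal le_top hMn
  have hSp : IsPGroup 2 S := hSyl.2.1
  have hSM : S ≤ M := inf_le_right
  have hSQ : S ≤ Q := inf_le_left
  have hMne : M ≠ ⊥ := by
    rintro rfl
    apply hJM
    intro j hj
    exact hC j (fun m hm => by
      rw [Subgroup.mem_bot] at hm
      simp [hm])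
  have hSne : S ≠ ⊥ := by
    intro h
    apply hMne
    refine hO M le_rfl Subgroup.le_normalizer ?_
    have h3 := hSyl.2.2
    rw [h, Subgroup.relIndex_bot_left] at h3
    exact ((Nat.Prime.coprime_iff_not_dvd Nat.prime_two).2 h3).symm
  have hSdvd : 2 ∣ Nat.card S := by
    obtain ⟨n, hn⟩ := IsPGroup.iff_card.1 hSp
    rw [hn]
    rcases n with _ | n
    · exfalso
      apply hSne
      rw [pow_zero] at hn
      exact Subgroup.eq_bot_of_card_eq S hn
    · exact dvd_pow_self 2 (by omega)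
  have hQN : (Q : Subgroup G) ≤ normalizer (S : Set G) := by
    intro z hz
    apply mem_normalizer_of_conj_le
    rintro s ⟨hsQ, hsM⟩
    exact ⟨Q.mul_mem (Q.mul_mem hz hsQ) (Q.inv_mem hz), hM.conj_mem s hsM z⟩
  obtain ⟨u, huS, hu1, huc⟩ := Cfsg.Agent.Lib.Hall.exists_fixed_of_pgroup_action Q.isPGroup' hQN hSdvd
  set U : Subgroup G := zpowers u with hUd
  have hUS : U ≤ S := (zpowers_le).2 huS
  have hUp : IsPGroup 2 U := hSp.to_le hUS
  set G₁ := centralizer (U : Set G) with hG₁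
  have hmemG₁ : ∀ x, x * u = u * x → x ∈ G₁ := by
    intro x hx
    rw [hG₁, Subgroup.mem_centralizer_iff]
    intro a ha
    obtain ⟨k, rfl⟩ := mem_zpowers_iff.1 ha
    exact ((Commute.zpow_right (show Commute x u from hx) k).eq).symm
  have hG₁ne : G₁ ≠ ⊤ := by
    intro h
    apply hu1
    apply hC
    intro m hm
    have h3 : m ∈ G₁ := by rw [h]; trivial
    exact ((Subgroup.mem_centralizer_iff.1 h3) u (mem_zpowers u)).symm
  -- the first lift
  set H₁ := centralizer (T : Set G) with hH₁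
  have hUH₁ : U ≤ H₁ := by
    rw [hUd, zpowers_le, hH₁, Subgroup.mem_centralizer_iff]
    intro t ht
    have h3 := huc t (hTQ ht)
    calc t * u = (t * u * t⁻¹) * t := by group
      _ = u * t := by rw [h3]
  have hB₁ : ¬ J ≤ M ⊓ H₁ := fun h => hJM (h.trans inf_le_left)
  have hd₁ := hJ.dichotomy (B := M ⊓ H₁) inf_le_right (by
    intro x hx
    apply mem_normalizer_of_conj_le
    rintro m ⟨hm1, hm2⟩
    exact ⟨hM.conj_mem m hm1 x, H₁.mul_mem (H₁.mul_mem hx hm2) (H₁.inv_mem hx)⟩) hB₁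
  obtain ⟨J', hJ', hJ'M⟩ := lift_compOf hJ hUH₁ hUp (fun j hj a ha =>
    hd₁ j hj a ⟨hSM (hUS ha), hUH₁ ha⟩)
  have hJ'nM : ¬ J' ≤ M := fun h => hJM (hJ'M M (fun x _ => hMn trivial) h)
  have hTG₁ : T ≤ G₁ := by
    intro t ht
    apply hmemG₁
    have h3 := huc t (hTQ ht)
    calc t * u = (t * u * t⁻¹) * t := by group
      _ = u * t := by rw [h3]
  have h5 : J' ≤ pLayerOf 2 G₁ := by
    refine LB.of_sub (IH G₁ hG₁ne) hTG₁ hT ?_
    rwa [inf_comm]
  obtain ⟨J₁, hJ₁, hJ₁M⟩ := exists_comp_not_le h5 hJ'nM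
  -- the second lift
  have hSG₁ : S ≤ G₁ := by
    intro s hs
    apply hmemG₁
    have h3 := huc s (hSQ hs)
    calc s * u = (s * u * s⁻¹) * s := by group
      _ = u * s := by rw [h3]
  have hd₂ := hJ₁.dichotomy (B := M ⊓ G₁) inf_le_right (by
    intro x hx
    apply mem_normalizer_of_conj_le
    rintro m ⟨hm1, hm2⟩
    exact ⟨hM.conj_mem m hm1 x, G₁.mul_mem (G₁.mul_mem hx hm2) (G₁.inv_mem hx)⟩)
    (fun h => hJ₁M (h.trans inf_le_left))
  obtain ⟨J₂', hJ₂', hJ₂'M⟩ := lift_compOf hJ₁ hSG₁ hSp (fun j hj a ha =>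
    hd₂ j hj a ⟨hSM ha, hSG₁ ha⟩)
  have hJ₂nM : ¬ J₂' ≤ M := fun h => hJ₁M (hJ₂'M M (fun x _ => hMn trivial) h)
  have hCS : centralizer (S : Set G) ≤ G₁ := Subgroup.centralizer_le hUS
  have hJ₂ : IsPComponentOf 2 J₂' (centralizer (S : Set G)) := by
    rwa [inf_eq_right.2 hCS] at hJ₂'
  -- the chain
  have hN : ∀ D ≤ S, D ≠ ⊥ → LB (normalizer (D : Set G)) := by
    intro D hDS hD
    apply IH
    intro h3
    apply hD
    refine h2 D (hDS.trans hSM) (by rw [h3]; exact le_top) (hSp.to_le hDS)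
  have hchain := pLayerOf_centralizer_le hSp hN
  obtain ⟨y, hyJ, hy⟩ := hJ₂.isPQ.exists_involution
  have hyS : ∀ s ∈ S, s * y = y * s := by
    intro s hs
    exact ((Subgroup.mem_centralizer_iff.1 (hJ₂.le hyJ)) s hs)
  have hfinal := comm_of_lemmaZ (M := M) (S := S) hy hSyl hyS (by
    intro D hDS hD hT' x hx
    have hJ₂L : J₂' ≤ pLayerOf 2 (normalizer (D : Set G)) := by
      have h3 : J₂' ≤ pLayerOf 2 (centralizer (D : Set G)) := hJ₂.le_pLayerOf.trans (hchain D hDS hD)
      refine h3.trans ?_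
      rw [pLayerOf_le_iff]
      intro K hK
      exact (hK.of_normal (Subgroup.centralizer_le_normalizer _)
        (normalizer_le_normalizer_centralizer' D)).le_pLayerOf
    set N := normalizer (D : Set G) with hNd
    have hyN : y ∈ N := by
      apply mem_normalizer_of_conj_le
      intro d hd
      rw [← hyS d (hDS hd)]
      simpa using hd
    have hJN : J₂' ≤ N := hJ₂L.trans (Subgroup.map_subtype_le _)
    have hS₀ : SylowIn 2 (S.subgroupOf N) (M.subgroupOf N) := by
      refine ⟨fun z hz => hSM hz, isPGroup_subgroupOf' N hSp, ?_⟩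
      have h3 := hT'.2.2
      rw [← Subgroup.relIndex_subgroupOf (L := N) inf_le_right, Subgroup.inf_subgroupOf_right,
        Subgroup.inf_subgroupOf_right] at h3
      exact h3
    have h4 := comm_mem_of_le_pLayer (Y := N) (W := M.subgroupOf N) hS₀ (hJ₂.isPQ.subgroupOf hJN) (by
      intro j hj
      have h5 : (j : G) ∈ pLayerOf 2 N := hJ₂L hj
      obtain ⟨z, hz, hze⟩ := h5
      have : z = j := Subtype.ext hze
      rwa [← this]) (by
      intro a ha z hz
      apply Subtype.ext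
      exact (Subgroup.mem_centralizer_iff.1 (hJ₂.le ha)) z hz) ⟨y, hyN⟩ hyJ ⟨x, hx.2⟩ hx.1
    exact ⟨_, h4, rfl⟩) hO
  exact (by
    have h3 := hC y hfinal
    rw [h3, orderOf_one] at hy
    omega)

end Cfsg.Agent.Lib.LBal
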