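import Mathlib
import Cfsg.Agent.Lib.LBal.Core

/-!
# Reductions for `L`-balance (owner: helper11).
-/

set_option autoImplicit false
set_option linter.unusedSectionVars false
set_option linter.unusedVariables false
set_option linter.style.haveILetI false

namespace Cfsg.Agent.Lib.LBal

open Subgroup Cfsg Cfsg.Agent.Lib.Techniques Cfsg.Agent.Lib.Core Cfsg.Agent.Lib.FStar Cfsg.Agent.Lib.Cl
open scoped commutatorElement

universe u

section Stab

variable {X : Type*} [Group X] [Finite X]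

/-- The three subgroups lemma. -/
theorem three_perfect {K B D : Subgroup X} (hK : ⁅K, K⁆ = K) (h1 : ⁅B, K⁆ ≤ D) (h2 : ⁅D, K⁆ = ⊥) : ⁅B, K⁆ = ⊥ := by
  have h3 : ⁅⁅K, B⁆, K⁆ = ⊥ := by
    rw [commutator_comm K B, eq_bot_iff, ← h2]
    exact Subgroup.commutator_mono h1 le_rfl
  rw [commutator_comm]
  exact commutator_eq_bot_of_perfect hK h3

/-- Stability: a perfect group acting trivially on `B / D` and `D / N` acts trivially on `B / N`. -/
theorem stability_perfect {K B D N : Subgroup X} (hK : ⁅K, K⁆ = K) (hKN : K ≤ normalizer (N : Set X))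
    (hBN : B ≤ normalizer (N : Set X)) (hDN : D ≤ normalizer (N : Set X))
    (h1 : ∀ b ∈ B, ∀ k ∈ K, b * k * b⁻¹ * k⁻¹ ∈ D) (h2 : ∀ d ∈ D, ∀ k ∈ K, d * k * d⁻¹ * k⁻¹ ∈ N) :
    ∀ b ∈ B, ∀ k ∈ K, b * k * b⁻¹ * k⁻¹ ∈ N := by
  set R := normalizer (N : Set X) with hR
  haveI hN' : (N.subgroupOf R).Normal := normal_subgroupOf_of_normalizes le_rfl
  set f := QuotientGroup.mk' (N.subgroupOf R) with hf
  set K' := (K.subgroupOf R).map f with hK'
  set B' := (B.subgroupOf R).map f with hB'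
  set D' := (D.subgroupOf R).map f with hD'
  have hK'p : ⁅K', K'⁆ = K' := by
    rw [hK', ← Subgroup.map_commutator]
    congr 1
    apply Subgroup.map_injective R.subtype_injective
    rw [Subgroup.map_commutator, Subgroup.map_subgroupOf_eq_of_le hKN, hK]
  have h3 : ⁅B', K'⁆ ≤ D' := by
    rw [Subgroup.commutator_le]
    rintro _ ⟨b, hb, rfl⟩ _ ⟨k, hk, rfl⟩
    exact ⟨⁅b, k⁆, Subgroup.mem_subgroupOf.2 (h1 b hb k hk), by rw [map_commutatorElement]⟩
  have h4 : ⁅D', K'⁆ = ⊥ := by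
    rw [eq_bot_iff, Subgroup.commutator_le]
    rintro _ ⟨d, hd, rfl⟩ _ ⟨k, hk, rfl⟩
    rw [← map_commutatorElement, Subgroup.mem_bot, QuotientGroup.mk'_apply, QuotientGroup.eq_one_iff,
      Subgroup.mem_subgroupOf]
    exact h2 d hd k hk
  have h5 := three_perfect hK'p h3 h4
  intro b hb k hk
  have h6 : ⁅f ⟨b, hBN hb⟩, f ⟨k, hKN hk⟩⁆ = 1 := by
    have h7 : ⁅f ⟨b, hBN hb⟩, f ⟨k, hKN hk⟩⁆ ∈ ⁅B', K'⁆ :=
      Subgroup.commutator_mem_commutator ⟨_, by simpa [Subgroup.mem_subgroupOf] using hb, rfl⟩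
        ⟨_, by simpa [Subgroup.mem_subgroupOf] using hk, rfl⟩
    rwa [h5, Subgroup.mem_bot] at h7
  rw [← map_commutatorElement, QuotientGroup.mk'_apply, QuotientGroup.eq_one_iff, Subgroup.mem_subgroupOf] at h6
  exact h6

end Stab

section Comp

variable {Y : Type*} [Group Y] [Finite Y]

theorem isQuasisimple_of_isPQ {K : Subgroup Y} (hK : IsPQ K) (hO : pPrimeCore 2 K = ⊥) : IsQuasisimple K :=
  qs_of_mulEquiv ((QuotientGroup.quotientMulEquivOfEq hO).trans QuotientGroup.quotientBot) (IsPQT.qs hK)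

/-- A subgroup which is normal modulo odd order contains a `2`-component. -/
theorem exists_comp_of_normal_mod_odd {K O₁ : Subgroup Y} (hK : IsPQ K) [hO₁ : O₁.Normal]
    (hO₁c : (Nat.card O₁).Coprime 2) (hN : (K ⊔ O₁).Normal) : ∃ J, IsPComponent 2 J ∧ K ≤ J := by
  set O := pPrimeCore 2 Y with hO
  set π := QuotientGroup.mk' O with hπ
  have hπs : Function.Surjective π := QuotientGroup.mk'_surjective _
  have hO₁O : O₁ ≤ O := le_pPrimeCore hO₁ hO₁c
  have hmap : (K ⊔ O₁).map π = K.map π := by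
    rw [Subgroup.map_sup]
    have : O₁.map π = ⊥ := by
      rw [eq_bot_iff]
      rintro _ ⟨o, ho, rfl⟩
      exact (QuotientGroup.eq_one_iff o).2 (hO₁O ho)
    rw [this, sup_bot_eq]
  have hsn : (K.map π).IsSubnormal := by
    rw [← hmap]
    exact (hN.map π hπs).isSubnormal
  have hne : K.map π ≠ ⊥ := by
    intro h
    have h1 : K ≤ O := by
      intro k hk
      have h2 : π k ∈ K.map π := ⟨k, hk, rfl⟩
      rw [h, Subgroup.mem_bot] at h2
      exact (QuotientGroup.eq_one_iff k).1 h2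
    have h3 : 2 ∣ Nat.card O := hK.even.trans (Subgroup.card_dvd_of_le h1)
    have h4 := pPrimeCore_coprime 2 Y
    have h5 := Nat.dvd_gcd h3 (dvd_refl 2)
    rw [h4] at h5
    omega
  have hq : IsPQ (K.map π) := hK.map π hne
  have hqs : IsQuasisimple (K.map π) :=
    isQuasisimple_of_isPQ hq (pPrimeCore_eq_bot_of_subnormal hsn pPrimeCore_quotient_eq_bot)
  have hc : IsComponent ((K ⊔ O₁).map π) := by
    rw [hmap]
    exact ⟨hsn, hqs⟩
  obtain ⟨J, hJW, hJ, hJm⟩ := exists_pComp_le hN.isSubnormal hc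
  refine ⟨J, hJ, hK.le_of_le_sup hJ.1 ?_⟩
  intro k hk
  have h1 : π k ∈ J.map π := by
    rw [hJm, hmap]
    exact ⟨k, hk, rfl⟩
  obtain ⟨j, hj, hjk⟩ := h1
  have h2 : j⁻¹ * k ∈ O := by
    have h3 : π (j⁻¹ * k) = 1 := by rw [map_mul, map_inv, hjk, inv_mul_cancel]
    exact (QuotientGroup.eq_one_iff _).1 h3
  have h4 : k = j * (j⁻¹ * k) := by group
  rw [h4]
  exact mul_mem (mem_sup_left hj) (mem_sup_right h2)

end Comp

section GZero

variable {G : Type*} [Group G] [Finite G]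

/-- The construction of a `2`-component in `M K T`. -/
theorem exists_comp_G₀ {M T K : Subgroup G} [hM : M.Normal] (hK : IsPQ K) (hKT : K ≤ centralizer (T : Set G))
    (hKM : ¬ K ≤ M)
    (hc : ∀ c ∈ M ⊓ centralizer (T : Set G), ∀ k ∈ K, c * k * c⁻¹ * k⁻¹ ∈ oddOf (M ⊓ centralizer (T : Set G))) :
    ∃ J, IsPComponentOf 2 J ((M ⊔ T ⊔ K) ⊓ centralizer (T : Set G)) ∧ ¬ J ≤ M := by
  classical
  set Y := (M ⊔ T ⊔ K) ⊓ centralizer (T : Set G) with hY
  set Ch := M ⊓ centralizer (T : Set G) with hCh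
  set O₁ := oddOf Ch with hO₁
  set C' := (M ⊔ T) ⊓ centralizer (T : Set G) with hC'
  have hCY : Ch ≤ Y := inf_le_inf_right _ (le_sup_left.trans le_sup_left)
  have hKY : K ≤ Y := le_inf le_sup_right hKT
  have hC'Y : C' ≤ Y := inf_le_inf_right _ le_sup_left
  have hYCh : Y ≤ normalizer (Ch : Set G) := by
    intro y hy
    apply mem_normalizer_of_conj_le
    rintro c ⟨hc1, hc2⟩
    exact ⟨hM.conj_mem c hc1 y, (centralizer (T : Set G)).mul_mem
      ((centralizer (T : Set G)).mul_mem hy.2 hc2) ((centralizer (T : Set G)).inv_mem hy.2)⟩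
  have hYO : Y ≤ normalizer (O₁ : Set G) := le_normalizer_oddOf hYCh
  have hO₁Ch : O₁ ≤ Ch := oddOf_le Ch
  have hO₁Y : O₁ ≤ Y := hO₁Ch.trans hCY
  have hc₁ := stability_perfect (K := K) (B := C') (D := Ch) (N := O₁) hK.perfect (hKY.trans hYO) (hC'Y.trans hYO)
    (hCY.trans hYO) (by
      rintro c ⟨hc1, hc2⟩ k hk
      refine ⟨?_, (centralizer (T : Set G)).mul_mem ((centralizer (T : Set G)).mul_mem
        ((centralizer (T : Set G)).mul_mem hc2 (hKT hk)) ((centralizer (T : Set G)).inv_mem hc2))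
        ((centralizer (T : Set G)).inv_mem (hKT hk))⟩
      obtain ⟨m, hm, t, ht, rfl⟩ := (Subgroup.mem_sup_of_normal_left (s := M)).mp hc1
      have h1 : t * k = k * t := (Subgroup.mem_centralizer_iff.1 (hKT hk)) t ht
      have h2 : m * t * k * (m * t)⁻¹ * k⁻¹ = m * (k * m⁻¹ * k⁻¹) := by
        calc m * t * k * (m * t)⁻¹ * k⁻¹ = m * (t * k) * t⁻¹ * m⁻¹ * k⁻¹ := by group
          _ = m * (k * t) * t⁻¹ * m⁻¹ * k⁻¹ := by rw [h1]
          _ = _ := by group
      rw [h2]
      exact M.mul_mem hm (hM.conj_mem _ (M.inv_mem hm) k)) hc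
  have hWn : Y ≤ normalizer ((K ⊔ O₁ : Subgroup G) : Set G) := by
    have hkN : K ≤ normalizer ((K ⊔ O₁ : Subgroup G) : Set G) := by
      intro k hk
      apply mem_normalizer_of_conj_le
      intro w hw
      have h1 : (K ⊔ O₁) ≤ (K ⊔ O₁).comap (MulAut.conj k).toMonoidHom := by
        refine sup_le ?_ ?_
        · intro x hx
          exact mem_sup_left (K.mul_mem (K.mul_mem hk hx) (K.inv_mem hk))
        · intro x hx
          exact mem_sup_right ((mem_normalizer_iff.1 (hYO (hKY hk)) x).1 hx)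
      exact h1 hw
    have hc' : C' ≤ normalizer ((K ⊔ O₁ : Subgroup G) : Set G) := by
      intro c hc'
      apply mem_normalizer_of_conj_le
      intro w hw
      have h1 : (K ⊔ O₁) ≤ (K ⊔ O₁).comap (MulAut.conj c).toMonoidHom := by
        refine sup_le ?_ ?_
        · intro k hk
          have h2 := hc₁ c hc' k hk
          show c * k * c⁻¹ ∈ K ⊔ O₁
          have h3 : c * k * c⁻¹ = (c * k * c⁻¹ * k⁻¹) * k := by group
          rw [h3]
          exact mul_mem (mem_sup_right h2) (mem_sup_left hk)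
        · intro x hx
          exact mem_sup_right ((mem_normalizer_iff.1 (hYO (hC'Y hc')) x).1 hx)
      exact h1 hw
    rintro y ⟨hy1, hy2⟩
    have hKN : K ≤ normalizer ((M ⊔ T : Subgroup G) : Set G) := by
      intro k hk
      apply mem_normalizer_of_conj_le
      intro w hw
      obtain ⟨m, hm, t, ht, rfl⟩ := (Subgroup.mem_sup_of_normal_left (s := M)).mp hw
      have h1 : t * k = k * t := (Subgroup.mem_centralizer_iff.1 (hKT hk)) t ht
      have h2 : k * (m * t) * k⁻¹ = (k * m * k⁻¹) * t := by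
        calc k * (m * t) * k⁻¹ = (k * m * k⁻¹) * (k * t) * k⁻¹ := by group
          _ = (k * m * k⁻¹) * (t * k) * k⁻¹ := by rw [h1]
          _ = _ := by group
      rw [h2]
      exact mul_mem (mem_sup_left (hM.conj_mem m hm k)) (mem_sup_right ht)
    obtain ⟨c, hc0, k, hk, rfl⟩ := Cfsg.Agent.Lib.Hall.exists_mul_of_mem_sup_normalizes hKN hy1
    have hcC : c ∈ centralizer (T : Set G) := by
      have h1 : c = (c * k) * k⁻¹ := by group
      rw [h1]
      exact (centralizer (T : Set G)).mul_mem hy2 ((centralizer (T : Set G)).inv_mem (hKT hk))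
    exact mul_mem (hc' ⟨hc0, hcC⟩) (hkN hk)
  haveI hO₁n : (O₁.subgroupOf Y).Normal := normal_subgroupOf_of_normalizes hYO
  have hO₁c : (Nat.card (O₁.subgroupOf Y)).Coprime 2 := by
    have e : Nat.card (O₁.subgroupOf Y) = Nat.card O₁ :=
      Nat.card_congr (Subgroup.subgroupOfEquivOfLe hO₁Y).toEquiv
    rw [e]
    exact oddOf_coprime Ch
  have hWnY : ((K.subgroupOf Y) ⊔ (O₁.subgroupOf Y)).Normal := by
    rw [← Subgroup.subgroupOf_sup hKY hO₁Y]
    exact normal_subgroupOf_of_normalizes hWn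
  obtain ⟨J₀, hJ₀, hKJ₀⟩ := exists_comp_of_normal_mod_odd (hK.subgroupOf hKY) hO₁c hWnY
  refine ⟨J₀.map Y.subtype, ?_, ?_⟩
  · refine ⟨Subgroup.map_subtype_le _, ?_⟩
    have : (J₀.map Y.subtype).subgroupOf Y = J₀ := by
      ext x
      simp [Subgroup.mem_subgroupOf]
    rw [this]
    exact hJ₀
  · intro hle
    apply hKM
    intro k hk
    apply hle
    exact ⟨⟨k, hKY hk⟩, hKJ₀ (by simpa [Subgroup.mem_subgroupOf] using hk), rfl⟩

end GZero

section Layer

variable {X : Type u} [Group X] [Finite X]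

theorem pLayer_le_layer (hO : pPrimeCore 2 X = ⊥) : pLayer 2 X ≤ layer X :=
  sSup_le fun L hL => component_le_layer ((pComp_isComponent_iff hL).2 (by rw [hO]; simp))

theorem isPQ_of_component (hO : pPrimeCore 2 X = ⊥) {L : Subgroup X} (hL : IsComponent L) : IsPQ L := by
  have h1 : pPrimeCore 2 L = ⊥ := pPrimeCore_eq_bot_of_subnormal hL.1 hO
  obtain ⟨J, hJ, hJm⟩ := exists_pComp_of_surjective hL.2 h1 (MonoidHom.id L) Function.surjective_id (by
    have : (MonoidHom.id L).ker = ⊥ := MonoidHom.ker_id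
    rw [this, Subgroup.card_bot]
    exact Nat.coprime_one_left 2)
  have h2 : J = ⊤ := by
    rw [eq_top_iff]
    intro x _
    have h3 : x ∈ J.map (MonoidHom.id L) := by rw [hJm]; trivial
    obtain ⟨z, hz, rfl⟩ := h3
    exact hz
  rw [h2] at hJ
  exact hJ

theorem layer_le_pLayer (hO : pPrimeCore 2 X = ⊥) : layer X ≤ pLayer 2 X :=
  sSup_le fun L hL => le_sSup (isPComponent_of_isPQ hL.1 (isPQ_of_component hO hL))

theorem pLayer_eq_layer (hO : pPrimeCore 2 X = ⊥) : pLayer 2 X = layer X :=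
  le_antisymm (pLayer_le_layer hO) (layer_le_pLayer hO)

/-- Reduction to `O(X) = 1`. -/
theorem LB_of_quot (h : LB (X ⧸ pPrimeCore 2 X)) : LB X := by
  intro T hT K hK
  set O := pPrimeCore 2 X with hO
  set π := QuotientGroup.mk' O with hπ
  have hπs : Function.Surjective π := QuotientGroup.mk'_surjective _
  set Tb := T.map π with hTb
  set C := centralizer (T : Set X) with hC
  set Cb := centralizer (Tb : Set (X ⧸ O)) with hCb
  have hmem : ∀ c : C, π c ∈ Cb := by
    rintro ⟨c, hc⟩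
    rw [hCb, Subgroup.mem_centralizer_iff]
    rintro _ ⟨t, ht, rfl⟩
    rw [← map_mul, ← map_mul, (Subgroup.mem_centralizer_iff.1 hc) t ht]
  let ρ : C →* Cb := (π.comp C.subtype).codRestrict Cb hmem
  have hρ : Function.Surjective ρ := by
    rintro ⟨y, hy⟩
    obtain ⟨x, rfl⟩ := hπs y
    have h1 : ∀ a ∈ T, a * x * a⁻¹ * x⁻¹ ∈ O := by
      intro a ha
      have h2 := (Subgroup.mem_centralizer_iff.1 hy) (π a) ⟨a, ha, rfl⟩
      rw [← QuotientGroup.eq_one_iff (N := O)]
      change π (a * x * a⁻¹ * x⁻¹) = 1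
      rw [map_mul, map_mul, map_mul, map_inv, map_inv, h2]
      group
    obtain ⟨c, hc, hcO⟩ := exists_centralizer_of_comm hT h1
    refine ⟨⟨c, hc⟩, Subtype.ext ?_⟩
    have h3 : π (x⁻¹ * c) = 1 := (QuotientGroup.eq_one_iff _).2 hcO
    rw [map_mul, map_inv, inv_mul_eq_one] at h3
    exact h3.symm
  have hne : K.map π ≠ ⊥ := by
    intro h
    have h1 : K ≤ O := by
      intro k hk
      have h2 : π k ∈ K.map π := ⟨k, hk, rfl⟩
      rw [h, Subgroup.mem_bot] at h2
      exact (QuotientGroup.eq_one_iff k).1 h2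
    have h3 : 2 ∣ Nat.card O := hK.isPQ.even.trans (Subgroup.card_dvd_of_le h1)
    have h4 := pPrimeCore_coprime 2 X
    have h5 := Nat.dvd_gcd h3 (dvd_refl 2)
    rw [h4] at h5
    omega
  have hKb : IsPComponentOf 2 (K.map π) Cb := by
    refine isPComponentOf_iff.2 ⟨?_, ?_, hK.isPQ.map π hne⟩
    · rintro _ ⟨k, hk, rfl⟩
      exact hmem ⟨k, hK.le hk⟩
    · have h1 := hK.subnormal.map hρ
      have h2 : (K.subgroupOf C).map ρ = (K.map π).subgroupOf Cb := by
        ext x
        constructor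
        · rintro ⟨c, hc, rfl⟩
          exact ⟨c, hc, rfl⟩
        · intro hx
          obtain ⟨k, hk, hke⟩ := hx
          exact ⟨⟨k, hK.le hk⟩, by simpa [Subgroup.mem_subgroupOf] using hk, Subtype.ext hke⟩
      rwa [h2] at h1
  have h1 := h Tb (hT.map π) _ hKb
  have h2 : K.map π ≤ layer (X ⧸ O) := h1.trans (pLayer_le_layer pPrimeCore_quotient_eq_bot)
  refine hK.isPQ.le_of_forall fun g hg n hn => ?_
  exact pelt_mem_pLayer_of_map ⟨n, hn⟩ (h2 ⟨g, hg, rfl⟩)

/-- A `2`-component of `C_X(T)` centralizes `O_2(X)`. -/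
theorem comp_centralizes_pCore {T K : Subgroup X} (hT : IsPGroup 2 T) (hK : IsPComponentOf 2 K (centralizer (T : Set X))) :
    K ≤ centralizer (pCore 2 X : Set X) := by
  classical
  haveI := pCore_normal 2 X
  haveI hW : (centralizer (pCore 2 X : Set X)).Normal := Subgroup.normal_centralizer
  set N := normalizer (T : Set X) with hN
  have hKN := hK.of_normal (H := N) (Subgroup.centralizer_le_normalizer _) (normalizer_le_normalizer_centralizer' T)
  refine perfect_le_of_pprime_mem (p := 2) hK.isPQ.perfect ?_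
  intro y hy hyc
  have hyN : y ∈ N := hKN.le hy
  have h1 := pprime_centralizes_pCore (p := 2) hT (a := ⟨y, hyN⟩) (by rwa [Subgroup.orderOf_mk]) (by
    intro z hz
    set B : Subgroup X := (pCore 2 N).map N.subtype with hB
    have hBp : IsPGroup 2 B := (pCore_isPGroup 2 N).map _
    have hBN : B ≤ N := Subgroup.map_subtype_le _
    have hNB : N ≤ normalizer (B : Set X) := by
      intro x hx
      apply mem_normalizer_of_conj_le
      rintro _ ⟨b, hb, rfl⟩
      haveI := pCore_normal 2 N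
      exact ⟨⟨x, hx⟩ * b * (⟨x, hx⟩ : N)⁻¹, Subgroup.Normal.conj_mem inferInstance _ hb _, rfl⟩
    have hd := hKN.dichotomy hBN hNB (hK.isPQ.not_le_pgroup hBp)
    have h2 := hd y hy z ⟨z, hz, rfl⟩
    have h3 : (z : X) * y * (z : X)⁻¹ * y⁻¹ ∈ B := by
      have h5 : (z : X) * y * (z : X)⁻¹ * y⁻¹ = (z : X) * (y * (z : X)⁻¹ * y⁻¹) := by group
      rw [h5]
      exact B.mul_mem ⟨z, hz, rfl⟩ ((mem_normalizer_iff.1 (hNB hyN) _).1 (B.inv_mem ⟨z, hz, rfl⟩))
    obtain ⟨n, hn⟩ := hBp ⟨_, h3⟩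
    have hn' : ((z : X) * y * (z : X)⁻¹ * y⁻¹) ^ 2 ^ n = 1 := congrArg Subtype.val hn
    have h6 := eq_one_of_twoElt_of_odd hn' (oddOf_coprime _) h2
    apply Subtype.ext
    show (z : X) * y = y * z
    calc (z : X) * y = ((z : X) * y * (z : X)⁻¹ * y⁻¹) * (y * z) := by group
      _ = y * z := by rw [h6, one_mul])
  rw [Subgroup.mem_centralizer_iff]
  intro t ht
  exact h1 t ht

end Layer

end Cfsg.Agent.Lib.LBal
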