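import Mathlib
import Cfsg.Agent.Lib.LBal.Reduce
import Cfsg.Agent.Lib.PGroup.Bender

/-!
# `L`-balance (owner: helper11): for a `2`-subgroup `T` of a finite group `X`, `L_{2'}(C_X(T)) ≤ L_{2'}(X)`.
-/

set_option autoImplicit false
set_option linter.unusedSectionVars false
set_option linter.unusedVariables false
set_option linter.style.haveILetI false

namespace Cfsg.Agent.Lib.LBal

open Subgroup Cfsg Cfsg.Agent.Lib.Techniques Cfsg.Agent.Lib.Core Cfsg.Agent.Lib.FStar Cfsg.Agent.Lib.Cl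
open scoped commutatorElement

universe u

section Odd

variable {X : Type u} [Group X] [Finite X]

theorem layer_normal' : (layer X).Normal := by
  rw [← Subgroup.normalizer_eq_top_iff, eq_top_iff]
  intro g _
  apply mem_normalizer_of_conj_le
  intro x hx
  have h1 : layer X ≤ (layer X).comap (MulAut.conj g).toMonoidHom := by
    unfold layer
    refine sSup_le fun L hL => ?_
    rw [← Subgroup.map_le_iff_le_comap]
    exact le_sSup (component_map_conj g hL)
  exact h1 hx

theorem inf_centralizer_le_pCore (hO : pPrimeCore 2 X = ⊥) :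
    layer X ⊓ centralizer (layer X : Set X) ≤ pCore 2 X := by
  rw [← fitting_eq_pCore_of_pPrimeCore_bot hO]
  haveI := layer_normal' (X := X)
  haveI hA : (centralizer (layer X : Set X)).Normal := Subgroup.normal_centralizer
  have hn : (layer X ⊓ centralizer (layer X : Set X)).Normal := Subgroup.normal_inf_normal _ _
  apply le_fitting_of_subnormal_nilpotent hn.isSubnormal
  letI : CommGroup ↥(layer X ⊓ centralizer (layer X : Set X)) :=
    { (inferInstance : Group ↥(layer X ⊓ centralizer (layer X : Set X))) with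
      mul_comm := fun a b => Subtype.ext ((Subgroup.mem_centralizer_iff.1 a.2.2) b b.2.1).symm }
  exact CommGroup.isNilpotent

/-- A perfect subgroup of `E C(E)` centralizing `O_2(X)` lies in `E`. -/
theorem le_layer_of_le_sup {K : Subgroup X} (hK : IsPQ K) (hKc : K ≤ centralizer (pCore 2 X : Set X))
    (hO : pPrimeCore 2 X = ⊥) (hle : K ≤ layer X ⊔ centralizer (layer X : Set X)) : K ≤ layer X := by
  classical
  haveI hE := layer_normal' (X := X)
  set E := layer X with hEd
  set A := centralizer (E : Set X) with hAd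
  set R := (K ⊔ E) ⊓ A with hR
  have hEp : E ≤ centralizer (pCore 2 X : Set X) := by
    rw [← Subgroup.commutator_eq_bot_iff_le_centralizer]
    exact layer_commute_pCore
  have hRp : R ≤ centralizer (pCore 2 X : Set X) := inf_le_left.trans (sup_le hKc hEp)
  have hRF : R ≤ centralizer (generalizedFittingSubgroup X : Set X) := by
    intro r hr
    rw [Subgroup.mem_centralizer_iff]
    intro x hx
    have h1 : generalizedFittingSubgroup X ≤ centralizer ({r} : Set X) := by
      refine sup_le ?_ ?_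
      · intro e he
        rw [Subgroup.mem_centralizer_singleton_iff]
        exact ((Subgroup.mem_centralizer_iff.1 hr.2) e he)
      · rw [fitting_eq_pCore_of_pPrimeCore_bot hO]
        intro t ht
        rw [Subgroup.mem_centralizer_singleton_iff]
        exact ((Subgroup.mem_centralizer_iff.1 (hRp hr)) t ht)
    have h2 := h1 hx
    rw [Subgroup.mem_centralizer_singleton_iff] at h2
    exact h2
  have hRG : R ≤ generalizedFittingSubgroup X := hRF.trans centralizer_gen_le
  have hRc : ∀ a ∈ R, ∀ b ∈ R, a * b = b * a := fun a ha b hb =>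
    (Subgroup.mem_centralizer_iff.1 (hRF hb)) a (hRG ha)
  set f := QuotientGroup.mk' E with hf
  have hdec : ∀ k ∈ K, ∃ a ∈ R, f k = f a := by
    intro k hk
    obtain ⟨e, he, a, ha, hea⟩ := (Subgroup.mem_sup_of_normal_left (s := E)).mp (hle hk)
    refine ⟨a, ⟨?_, ha⟩, ?_⟩
    · have : a = e⁻¹ * k := by rw [← hea]; group
      rw [this]
      exact mul_mem (mem_sup_right (inv_mem he)) (mem_sup_left hk)
    · rw [← hea, map_mul]
      have : f e = 1 := (QuotientGroup.eq_one_iff _).2 he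
      rw [this, one_mul]
  have hcomm : ⁅K.map f, K.map f⁆ = ⊥ := by
    rw [eq_bot_iff, Subgroup.commutator_le]
    rintro _ ⟨a, ha, rfl⟩ _ ⟨b, hb, rfl⟩
    obtain ⟨a', ha', ea⟩ := hdec a ha
    obtain ⟨b', hb', eb⟩ := hdec b hb
    rw [ea, eb, ← map_commutatorElement, Subgroup.mem_bot, commutatorElement_eq_one_iff_mul_comm.2 (hRc _ ha' _ hb'), map_one]
  rw [← Subgroup.map_commutator, hK.perfect] at hcomm
  intro k hk
  have h1 : f k ∈ K.map f := ⟨k, hk, rfl⟩
  rw [hcomm, Subgroup.mem_bot] at h1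
  exact (QuotientGroup.eq_one_iff k).1 h1

section Quot

variable (hO : pPrimeCore 2 X = ⊥)

theorem quot_centralizer_trivial [(centralizer (layer X : Set X)).Normal] {x : X}
    (hg : ∀ m ∈ (layer X).map (QuotientGroup.mk' (centralizer (layer X : Set X))),
      m * QuotientGroup.mk' (centralizer (layer X : Set X)) x = QuotientGroup.mk' (centralizer (layer X : Set X)) x * m) :
    x ∈ centralizer (layer X : Set X) := by
  set π := QuotientGroup.mk' (centralizer (layer X : Set X)) with hπ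
  set B : Subgroup X := (centralizer (((layer X).map π : Subgroup _) : Set _)).comap π with hB
  have hxB : x ∈ B := by
    show π x ∈ centralizer _
    rw [Subgroup.mem_centralizer_iff]
    exact hg
  have h1 : ⁅B, layer X⁆ ≤ centralizer (layer X : Set X) := by
    rw [Subgroup.commutator_le]
    intro b hb e he
    rw [← QuotientGroup.eq_one_iff (N := centralizer (layer X : Set X))]
    change π ⁅b, e⁆ = 1
    rw [map_commutatorElement, commutatorElement_eq_one_iff_mul_comm]
    exact ((Subgroup.mem_centralizer_iff.1 hb) (π e) ⟨e, he, rfl⟩).symm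
  have h2 : ⁅centralizer (layer X : Set X), layer X⁆ = ⊥ := by
    rw [Subgroup.commutator_eq_bot_iff_le_centralizer]
  have h3 := three_perfect (layer_perfect X) h1 h2
  rw [Subgroup.mem_centralizer_iff]
  intro e he
  have h4 := Subgroup.commutator_mem_commutator hxB he
  rw [h3, Subgroup.mem_bot, commutatorElement_eq_one_iff_mul_comm] at h4
  exact h4.symm

include hO in
/-- Normal sections of `E / Z(E)` containing no `2`-quasisimple section are trivial. -/
theorem quot_normal_trivial [(centralizer (layer X : Set X)).Normal]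
    {N : Subgroup (X ⧸ centralizer (layer X : Set X))}
    (hN : N ≤ (layer X).map (QuotientGroup.mk' (centralizer (layer X : Set X))))
    (hn : (layer X).map (QuotientGroup.mk' (centralizer (layer X : Set X))) ≤ normalizer (N : Set _))
    (hbad : ∀ Q : Subgroup (X ⧸ centralizer (layer X : Set X)), IsPQ Q → ¬ Q ≤ N) : N = ⊥ := by
  classical
  set A := centralizer (layer X : Set X) with hA
  set π := QuotientGroup.mk' A with hπ
  set W : Subgroup X := layer X ⊓ N.comap π with hW
  have hEW : layer X ≤ normalizer (W : Set X) := by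
    intro e he
    apply mem_normalizer_of_conj_le
    rintro w ⟨hw1, hw2⟩
    refine ⟨(layer X).mul_mem ((layer X).mul_mem he hw1) ((layer X).inv_mem he), ?_⟩
    show π (e * w * e⁻¹) ∈ N
    rw [map_mul, map_mul, map_inv]
    exact (mem_normalizer_iff.1 (hn ⟨e, he, rfl⟩) _).1 hw2
  have hLW : ∀ L : Subgroup X, IsComponent L → ⁅L, W⁆ = ⊥ := by
    intro L hL
    rcases Cfsg.Agent.Lib.PGroup.Bender.component_le_or_commute_of_normalizes hL
      ((component_le_layer hL).trans hEW) with h | h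
    · exfalso
      have hLQ := isPQ_of_component hO hL
      by_cases hb : L.map π = ⊥
      · have hLA : L ≤ A := by
          intro l hl
          have h1 : π l ∈ L.map π := ⟨l, hl, rfl⟩
          rw [hb, Subgroup.mem_bot] at h1
          exact (QuotientGroup.eq_one_iff l).1 h1
        have h2 : ⁅L, L⁆ = ⊥ := by
          rw [eq_bot_iff, Subgroup.commutator_le]
          intro a ha c hc
          have h3 := (Subgroup.mem_centralizer_iff.1 (hLA hc)) a (component_le_layer hL ha)
          rw [Subgroup.mem_bot, commutatorElement_eq_one_iff_mul_comm]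
          exact h3
        rw [hLQ.perfect] at h2
        exact hLQ.ne_bot h2
      · refine hbad _ (hLQ.map π hb) ?_
        rintro _ ⟨l, hl, rfl⟩
        exact (h hl).2
    · exact h
  have hWA : W ≤ A := by
    intro w hw
    rw [Subgroup.mem_centralizer_iff]
    intro e he
    have h1 : layer X ≤ centralizer ({w} : Set X) := by
      unfold layer
      refine sSup_le fun L hL => ?_
      intro l hl
      rw [Subgroup.mem_centralizer_singleton_iff]
      have h2 := Subgroup.commutator_mem_commutator hl hw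
      rw [hLW L hL, Subgroup.mem_bot, commutatorElement_eq_one_iff_mul_comm] at h2
      exact h2
    have h2 := h1 he
    rw [Subgroup.mem_centralizer_singleton_iff] at h2
    exact h2
  rw [eq_bot_iff]
  intro n hnN
  obtain ⟨e, he, rfl⟩ := hN hnN
  have h1 : e ∈ W := ⟨he, hnN⟩
  exact (QuotientGroup.eq_one_iff e).2 (hWA h1)

end Quot

/-- **The reduction to the core theorem.** -/
theorem LB_of_odd_bot (hO : pPrimeCore 2 X = ⊥)
    (IH : ∀ (Y : Type u) [Group Y] [Finite Y], Nat.card Y < Nat.card X → LB Y) : LB X := by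
  classical
  intro T hT K hK
  rw [pLayer_eq_layer hO]
  by_contra hKE
  haveI hEn := layer_normal' (X := X)
  set E := layer X with hEd
  haveI hAn : (centralizer (E : Set X)).Normal := Subgroup.normal_centralizer
  set A := centralizer (E : Set X) with hA
  set π := QuotientGroup.mk' A with hπ
  have hπs : Function.Surjective π := QuotientGroup.mk'_surjective _
  have hKp : K ≤ centralizer (pCore 2 X : Set X) := comp_centralizes_pCore hT hK
  have hKQ := hK.isPQ
  have hKA : ¬ K ≤ E ⊔ A := fun h => hKE (le_layer_of_le_sup hKQ hKp hO h)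
  set Tb := T.map π with hTb
  set Kb := K.map π with hKb
  set Mb := E.map π with hMb
  haveI hMbn : Mb.Normal := hEn.map π hπs
  have hKbne : Kb ≠ ⊥ := by
    intro h
    apply hKA
    intro k hk
    have h1 : π k ∈ Kb := ⟨k, hk, rfl⟩
    rw [h, Subgroup.mem_bot] at h1
    exact mem_sup_right ((QuotientGroup.eq_one_iff k).1 h1)
  have hKbQ : IsPQ Kb := hKQ.map π hKbne
  have hKbC : Kb ≤ centralizer (Tb : Set _) := by
    rintro _ ⟨k, hk, rfl⟩
    rw [Subgroup.mem_centralizer_iff]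
    rintro _ ⟨t, ht, rfl⟩
    rw [← map_mul, ← map_mul, (Subgroup.mem_centralizer_iff.1 (hK.le hk)) t ht]
  have hKbM : ¬ Kb ≤ Mb := by
    intro h
    apply hKA
    intro k hk
    obtain ⟨e, he, hek⟩ := h ⟨k, hk, rfl⟩
    have h1 : e⁻¹ * k ∈ A := by
      rw [← QuotientGroup.eq_one_iff (N := A)]
      change π (e⁻¹ * k) = 1
      rw [map_mul, map_inv, hek, inv_mul_cancel]
    have h2 : k = e * (e⁻¹ * k) := by group
    rw [h2]
    exact mul_mem (mem_sup_left he) (mem_sup_right h1)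
  set C := centralizer (T : Set X) with hC
  set D := E ⊓ C with hD
  have hCD : C ≤ normalizer (D : Set X) := by
    intro x hx
    apply mem_normalizer_of_conj_le
    rintro d ⟨hd1, hd2⟩
    exact ⟨hEn.conj_mem d hd1 x, C.mul_mem (C.mul_mem hx hd2) (C.inv_mem hx)⟩
  have hd := hK.dichotomy (B := D) inf_le_right hCD (fun h => hKE (h.trans inf_le_left))
  set N := oddOf D with hN
  have hKDN : ∀ d ∈ D, ∀ k ∈ K, d * k * d⁻¹ * k⁻¹ ∈ N := by
    intro d hdD k hk
    have h1 := hd k hk d hdD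
    have h2 : d * k * d⁻¹ * k⁻¹ ∈ D := by
      have h3 : d * k * d⁻¹ * k⁻¹ = d * (k * d⁻¹ * k⁻¹) := by group
      rw [h3]
      exact D.mul_mem hdD ((mem_normalizer_iff.1 (hCD (hK.le hk)) _).1 (D.inv_mem hdD))
    have h3 : oddOf C ⊓ D ≤ N := by
      refine le_oddOf inf_le_right ?_ (Nat.Coprime.coprime_dvd_left
        (Subgroup.card_dvd_of_le inf_le_left) (oddOf_coprime C))
      intro x hx
      have h4 : x ∈ normalizer (oddOf C : Set X) :=
        le_normalizer_oddOf (R := C) (H := C) Subgroup.le_normalizer hx.2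
      apply mem_normalizer_of_conj_le
      rintro y ⟨hy1, hy2⟩
      exact ⟨(mem_normalizer_iff.1 h4 y).1 hy1, D.mul_mem (D.mul_mem hx hy2) (D.inv_mem hx)⟩
    exact h3 ⟨h1, h2⟩
  set D₁ := E ⊓ (centralizer (Tb : Set _)).comap π with hD₁
  have hDD₁ : D ≤ D₁ := by
    rintro d ⟨hd1, hd2⟩
    refine ⟨hd1, ?_⟩
    show π d ∈ centralizer _
    rw [Subgroup.mem_centralizer_iff]
    rintro _ ⟨t, ht, rfl⟩
    rw [← map_mul, ← map_mul, (Subgroup.mem_centralizer_iff.1 hd2) t ht]
  have hzt : ∀ b ∈ D₁, ∀ t ∈ T, b * t * b⁻¹ * t⁻¹ ∈ E ⊓ A := by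
    rintro b ⟨hb1, hb2⟩ t ht
    refine ⟨?_, ?_⟩
    · have h1 : b * t * b⁻¹ * t⁻¹ = b * (t * b⁻¹ * t⁻¹) := by group
      rw [h1]
      exact E.mul_mem hb1 (hEn.conj_mem _ (E.inv_mem hb1) t)
    · show b * t * b⁻¹ * t⁻¹ ∈ A
      rw [← QuotientGroup.eq_one_iff (N := A)]
      change π (b * t * b⁻¹ * t⁻¹) = 1
      have h2 := (Subgroup.mem_centralizer_iff.1 hb2) (π t) ⟨t, ht, rfl⟩
      rw [map_mul, map_mul, map_mul, map_inv, map_inv, ← h2]
      group
  have hD₁D : D₁ ≤ normalizer (D : Set X) := by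
    intro b hb
    apply mem_normalizer_of_conj_le
    rintro d ⟨hd1, hd2⟩
    refine Subgroup.mem_inf.2 ⟨hEn.conj_mem d hd1 b, Subgroup.mem_centralizer_iff.2 ?_⟩
    intro t ht
    have hbi : b⁻¹ ∈ D₁ := D₁.inv_mem hb
    have h1 := hzt b⁻¹ hbi t ht
    -- `d` commutes with `b⁻¹ t b`
    have h2 : (b⁻¹ * t * b⁻¹⁻¹ * t⁻¹) * d = d * (b⁻¹ * t * b⁻¹⁻¹ * t⁻¹) :=
      ((Subgroup.mem_centralizer_iff.1 h1.2) d hd1).symm
    have h3 : t * d = d * t := (Subgroup.mem_centralizer_iff.1 hd2) t ht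
    have h4 : (b⁻¹ * t * b) * d = d * (b⁻¹ * t * b) := by
      have e1 : b⁻¹ * t * b = (b⁻¹ * t * b⁻¹⁻¹ * t⁻¹) * t := by group
      rw [e1]
      calc (b⁻¹ * t * b⁻¹⁻¹ * t⁻¹) * t * d = (b⁻¹ * t * b⁻¹⁻¹ * t⁻¹) * (t * d) := by group
        _ = (b⁻¹ * t * b⁻¹⁻¹ * t⁻¹) * d * t := by rw [h3]; group
        _ = d * (b⁻¹ * t * b⁻¹⁻¹ * t⁻¹) * t := by rw [h2]
        _ = _ := by group
    calc t * (b * d * b⁻¹) = b * ((b⁻¹ * t * b) * d) * b⁻¹ := by group
      _ = b * (d * (b⁻¹ * t * b)) * b⁻¹ := by rw [h4]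
      _ = b * d * b⁻¹ * t := by group
  have hD₁k : ∀ b ∈ D₁, ∀ k ∈ K, b * k * b⁻¹ * k⁻¹ ∈ D := by
    intro b hb k hk
    refine Subgroup.mem_inf.2 ⟨?_, Subgroup.mem_centralizer_iff.2 ?_⟩
    · have h1 : b * k * b⁻¹ * k⁻¹ = b * (k * b⁻¹ * k⁻¹) := by group
      rw [h1]
      exact E.mul_mem hb.1 (hEn.conj_mem _ (E.inv_mem hb.1) k)
    · intro t ht
      have hbi : b⁻¹ ∈ D₁ := D₁.inv_mem hb
      have h1 := hzt b⁻¹ hbi t ht
      set z := b⁻¹ * t * b⁻¹⁻¹ * t⁻¹ with hz
      have hzk : k * z = z * k := by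
        have h2 : z ∈ pCore 2 X := inf_centralizer_le_pCore hO h1
        exact ((Subgroup.mem_centralizer_iff.1 (hKp hk)) z h2).symm
      have htk : t * k = k * t := (Subgroup.mem_centralizer_iff.1 (hK.le hk)) t ht
      have htk' : t * k⁻¹ = k⁻¹ * t := by
        calc t * k⁻¹ = k⁻¹ * (k * t) * k⁻¹ := by group
          _ = k⁻¹ * (t * k) * k⁻¹ := by rw [htk]
          _ = k⁻¹ * t := by group
      have hbt : b⁻¹ * t * b = z * t := by rw [hz]; group
      -- `k b⁻¹ k⁻¹` acts on `t` as `b⁻¹`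
      have h3 : (k * b⁻¹ * k⁻¹) * t * (k * b⁻¹ * k⁻¹)⁻¹ = b⁻¹ * t * b := by
        calc (k * b⁻¹ * k⁻¹) * t * (k * b⁻¹ * k⁻¹)⁻¹ = k * b⁻¹ * (k⁻¹ * t) * k * b * k⁻¹ := by group
          _ = k * b⁻¹ * (t * k⁻¹) * k * b * k⁻¹ := by rw [htk']
          _ = k * (b⁻¹ * t * b) * k⁻¹ := by group
          _ = k * (z * t) * k⁻¹ := by rw [hbt]
          _ = (k * z) * t * k⁻¹ := by group
          _ = (z * k) * t * k⁻¹ := by rw [hzk]
          _ = z * (k * t) * k⁻¹ := by group
          _ = z * (t * k) * k⁻¹ := by rw [htk]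
          _ = z * t := by group
          _ = b⁻¹ * t * b := hbt.symm
      have h4 : (b * k * b⁻¹ * k⁻¹) * t * (b * k * b⁻¹ * k⁻¹)⁻¹ = t := by
        calc (b * k * b⁻¹ * k⁻¹) * t * (b * k * b⁻¹ * k⁻¹)⁻¹
            = b * ((k * b⁻¹ * k⁻¹) * t * (k * b⁻¹ * k⁻¹)⁻¹) * b⁻¹ := by group
          _ = b * (b⁻¹ * t * b) * b⁻¹ := by rw [h3]
          _ = t := by group
      calc t * (b * k * b⁻¹ * k⁻¹) = ((b * k * b⁻¹ * k⁻¹) * t * (b * k * b⁻¹ * k⁻¹)⁻¹) * (b * k * b⁻¹ * k⁻¹) := by
            rw [h4]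
        _ = (b * k * b⁻¹ * k⁻¹) * t := by group
  have hD₁N : D₁ ≤ normalizer (N : Set X) := le_normalizer_oddOf hD₁D
  have hstab := stability_perfect (K := K) (B := D₁) (D := D) (N := N) hKQ.perfect
    (le_normalizer_oddOf (hK.le.trans hCD)) hD₁N (hDD₁.trans hD₁N) hD₁k hKDN
  set Ch := Mb ⊓ centralizer (Tb : Set _) with hCh
  have hChD₁ : ∀ c ∈ Ch, ∃ b ∈ D₁, π b = c := by
    rintro c ⟨⟨e, he, rfl⟩, hc2⟩
    exact ⟨e, ⟨he, hc2⟩, rfl⟩
  have hD₁Ch : ∀ b ∈ D₁, π b ∈ Ch := fun b hb => ⟨⟨b, hb.1, rfl⟩, hb.2⟩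
  have hNCh : N.map π ≤ oddOf Ch := by
    refine le_oddOf ?_ ?_ (Nat.Coprime.coprime_dvd_left (Subgroup.card_map_dvd _ _) (oddOf_coprime D))
    · rintro _ ⟨n, hn, rfl⟩
      exact hD₁Ch n (hDD₁ (oddOf_le D hn))
    · intro c hc
      obtain ⟨b, hb, rfl⟩ := hChD₁ c hc
      apply mem_normalizer_of_conj_le
      rintro _ ⟨n, hn, rfl⟩
      refine ⟨b * n * b⁻¹, (mem_normalizer_iff.1 (hD₁N hb) n).1 hn, ?_⟩
      rw [map_mul, map_mul, map_inv]
  obtain ⟨J, hJ, hJM⟩ := exists_comp_G₀ (M := Mb) (T := Tb) (K := Kb) hKbQ hKbC hKbM (by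
    rintro c hc _ ⟨k, hk, rfl⟩
    obtain ⟨b, hb, rfl⟩ := hChD₁ c hc
    apply hNCh
    refine ⟨_, hstab b hb k hk, ?_⟩
    rw [map_mul, map_mul, map_mul, map_inv, map_inv])
  set G₀ := Mb ⊔ Tb ⊔ Kb with hG₀
  have hMG₀ : Mb ≤ G₀ := le_sup_left.trans le_sup_left
  have hTG₀ : Tb ≤ G₀ := le_sup_right.trans le_sup_left
  have hcard : Nat.card G₀ ≤ Nat.card X :=
    (Subgroup.card_le_card_group G₀).trans (Nat.card_le_card_of_surjective π hπs)
  have hJ₀ := hJ.subgroupOf (inf_le_left : G₀ ⊓ centralizer (Tb : Set _) ≤ G₀)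
  rw [subgroupOf_centralizer hTG₀] at hJ₀
  have hObar : ∀ N' : Subgroup (X ⧸ A), N' ≤ Mb → Mb ≤ normalizer (N' : Set _) →
      (∀ Q : Subgroup (X ⧸ A), IsPQ Q → ¬ Q ≤ N') → N' = ⊥ := fun N' h1 h2 h3 =>
    quot_normal_trivial hO h1 h2 h3
  have htransfer : ∀ N₀ : Subgroup G₀, N₀ ≤ Mb.subgroupOf G₀ →
      Mb.subgroupOf G₀ ≤ normalizer (N₀ : Set G₀) →
      (∀ Q : Subgroup (X ⧸ A), IsPQ Q → ¬ Q ≤ N₀.map G₀.subtype) → N₀ = ⊥ := by
    intro N₀ h1 h2 h3
    have h4 : N₀.map G₀.subtype = ⊥ := by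
      refine hObar _ ?_ ?_ h3
      · rintro _ ⟨n, hn, rfl⟩
        exact h1 hn
      · intro m hm
        apply mem_normalizer_of_conj_le
        rintro _ ⟨n, hn, rfl⟩
        have h5 : (⟨m, hMG₀ hm⟩ : G₀) ∈ normalizer (N₀ : Set G₀) :=
          h2 (by simpa [Subgroup.mem_subgroupOf] using hm)
        exact ⟨_, (mem_normalizer_iff.1 h5 n).1 hn, rfl⟩
    exact (Subgroup.map_eq_bot_iff_of_injective _ G₀.subtype_injective).1 h4
  haveI hM₀ : (Mb.subgroupOf G₀).Normal := inferInstance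
  have hres := core (G := G₀) (Mb.subgroupOf G₀) (by
      rintro ⟨g, hg⟩ h1
      obtain ⟨x, rfl⟩ := hπs g
      apply Subtype.ext
      show π x = 1
      apply (QuotientGroup.eq_one_iff x).2
      apply quot_centralizer_trivial
      intro m hm
      have h2 := h1 ⟨m, hMG₀ hm⟩ (Subgroup.mem_subgroupOf.2 hm)
      exact congrArg Subtype.val h2)
    (by
      intro N₀ h1 h2 h3
      refine htransfer N₀ h1 h2 ?_
      intro Q hQ hle
      have h4 : 2 ∣ Nat.card N₀ := by
        have h5 : Nat.card (N₀.map G₀.subtype) = Nat.card N₀ :=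
          Subgroup.card_map_of_injective G₀.subtype_injective
        rw [← h5]
        exact hQ.even.trans (Subgroup.card_dvd_of_le hle)
      have h5 := Nat.dvd_gcd h4 (dvd_refl 2)
      rw [h3] at h5
      omega)
    (by
      intro N₀ h1 h2 h3
      refine htransfer N₀ h1 h2 ?_
      intro Q hQ hle
      exact hQ.not_le_pgroup (h3.map _) hle)
    (by
      intro H hH
      apply IH
      have h1 : Nat.card H < Nat.card G₀ := by
        have h2 := card_lt_card_of_lt (lt_top_iff_ne_top.2 hH)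
        rwa [Subgroup.card_top] at h2
      exact lt_of_lt_of_le h1 hcard)
    (Cfsg.Agent.Lib.Techniques.isPGroup_subgroupOf hTG₀ (hT.map π)) hJ₀
  apply hJM
  intro j hj
  have hjG : j ∈ G₀ := (hJ.le hj).1
  exact hres (show (⟨j, hjG⟩ : G₀) ∈ J.subgroupOf G₀ by simpa [Subgroup.mem_subgroupOf] using hj)

end Odd

/-- **`L`-balance**, in all groups. -/
theorem lb_all : ∀ (n : ℕ) (X : Type u) [Group X] [Finite X], Nat.card X = n → LB X := by
  intro n
  induction n using Nat.strong_induction_on with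
  | _ n ih =>
    intro X _ _ hn
    have IH : ∀ (Y : Type u) [Group Y] [Finite Y], Nat.card Y < Nat.card X → LB Y := by
      intro Y _ _ hY
      exact ih _ (hn ▸ hY) Y rfl
    by_cases hO : pPrimeCore 2 X = ⊥
    · exact LB_of_odd_bot hO IH
    · apply LB_of_quot
      apply IH
      have h1 : Nat.card (pPrimeCore 2 X) ≠ 1 := by
        intro h
        exact hO (Subgroup.eq_bot_of_card_eq _ h)
      have h2 : Nat.card X = Nat.card (X ⧸ pPrimeCore 2 X) * Nat.card (pPrimeCore 2 X) :=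
        Subgroup.card_eq_card_quotient_mul_card_subgroup _
      have h3 : 0 < Nat.card (X ⧸ pPrimeCore 2 X) := Nat.card_pos
      have h4 : 0 < Nat.card (pPrimeCore 2 X) := Nat.card_pos
      have h5 : 2 ≤ Nat.card (pPrimeCore 2 X) := by omega
      nlinarith

/-- **`L`-balance.** -/
theorem lBalance {X : Type u} [Group X] [Finite X] {T : Subgroup X} (hT : IsPGroup 2 T) :
    pLayerOf 2 (centralizer (T : Set X)) ≤ pLayer 2 X :=
  pLayerOf_le_iff.2 fun K hK => lb_all _ X rfl T hT K hK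

end Cfsg.Agent.Lib.LBal
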