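import Mathlib
import Cfsg.Agent.Lib.LBal.Lift
import Cfsg.Agent.Lib.PGroup.Bender
import Cfsg.Agent.Lib.FStar.GenFitting

/-!
# `2`-components and images in `H / O(H)` (owner: helper11).
-/

set_option autoImplicit false
set_option linter.unusedSectionVars false
set_option linter.unusedVariables false
set_option linter.style.haveILetI false

namespace Cfsg.Agent.Lib.LBal

open Cfsg Subgroup Cfsg.Agent.Lib.FStar Cfsg.Agent.Lib.Core Cfsg.Agent.Lib.Cl

variable {H : Type*} [Group H] [Finite H]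

/-- The image in `C_{H/O(H)}(x̄)` of a `2`-component of `C_H(x)`, for an involution `x`, is a `2`-component. -/
theorem map_comp_centralizer {x : H} (hx : orderOf x = 2) {J : Subgroup H}
    (hJ : IsPComponentOf 2 J (centralizer ({x} : Set H))) :
    IsPComponent 2 ((J.map (QuotientGroup.mk' (pPrimeCore 2 H))).subgroupOf
      (centralizer ({QuotientGroup.mk' (pPrimeCore 2 H) x} : Set (H ⧸ pPrimeCore 2 H)))) := by
  set O := pPrimeCore 2 H with hO
  set π := QuotientGroup.mk' O with hπ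
  set W := centralizer ({x} : Set H) with hW
  set Cq := centralizer ({π x} : Set (H ⧸ O)) with hCq
  have hmem : ∀ w : W, π w ∈ Cq := by
    intro w
    rw [hCq, Subgroup.mem_centralizer_singleton_iff]
    have h1 : (w : H) * x = x * w := Subgroup.mem_centralizer_singleton_iff.1 w.2
    rw [← map_mul, h1, map_mul]
  let φ : W →* Cq := (π.comp W.subtype).codRestrict Cq hmem
  have hφv : ∀ w : W, ((φ w : Cq) : H ⧸ O) = π w := fun _ => rfl
  have hzx : IsPGroup 2 (zpowers x) := by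
    refine IsPGroup.of_card (n := 1) ?_
    rw [Nat.card_zpowers, hx, pow_one]
  have hφ : Function.Surjective φ := by
    rintro ⟨q, hq⟩
    obtain ⟨h, rfl⟩ := QuotientGroup.mk'_surjective O q
    have hh : π h * π x = π x * π h := Subgroup.mem_centralizer_singleton_iff.1 hq
    obtain ⟨c, hc, hcO⟩ := exists_centralizer_of_comm (P := zpowers x) (x := h) hzx (by
      intro a ha
      obtain ⟨k, rfl⟩ := Subgroup.mem_zpowers_iff.1 ha
      rw [← QuotientGroup.eq_one_iff (N := O)]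
      change π (x ^ k * h * (x ^ k)⁻¹ * h⁻¹) = 1
      have h1 : Commute (π x) (π h) := hh.symm
      have h2 : π x ^ k * π h = π h * π x ^ k := (h1.zpow_left k)
      simp only [map_mul, map_inv, map_zpow, h2]
      group)
    have hcW : c ∈ W := by
      rw [hW, Subgroup.mem_centralizer_singleton_iff]
      have := (Subgroup.mem_centralizer_iff.1 hc) x (Subgroup.mem_zpowers x)
      exact this.symm
    refine ⟨⟨c, hcW⟩, ?_⟩
    apply Subtype.ext
    rw [hφv]
    have h1 : π (h⁻¹ * c) = 1 := (QuotientGroup.eq_one_iff _).2 hcO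
    rw [map_mul, map_inv, inv_mul_eq_one] at h1
    exact h1.symm
  have heq : (J.subgroupOf W).map φ = (J.map π).subgroupOf Cq := by
    ext ⟨q, hq⟩
    constructor
    · rintro ⟨w, hw, hwq⟩
      rw [Subgroup.mem_subgroupOf]
      have h1 : π w = q := congrArg Subtype.val hwq
      exact ⟨w, by simpa [Subgroup.mem_subgroupOf] using hw, h1⟩
    · intro h
      rw [Subgroup.mem_subgroupOf] at h
      obtain ⟨j, hj, rfl⟩ := h
      exact ⟨⟨j, hJ.le hj⟩, by simpa [Subgroup.mem_subgroupOf] using hj, rfl⟩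
  have hne : (J.subgroupOf W).map φ ≠ ⊥ := by
    intro hbot
    have hJO : J ≤ O := by
      intro j hj
      have h1 : φ ⟨j, hJ.le hj⟩ ∈ (J.subgroupOf W).map φ :=
        ⟨⟨j, hJ.le hj⟩, by simpa [Subgroup.mem_subgroupOf] using hj, rfl⟩
      rw [hbot, Subgroup.mem_bot] at h1
      have h2 : π j = 1 := congrArg Subtype.val h1
      exact (QuotientGroup.eq_one_iff _).1 h2
    have h1 : 2 ∣ Nat.card J := hJ.isPQ.even
    have h2 : (Nat.card J).Coprime 2 :=
      Nat.Coprime.coprime_dvd_left (Subgroup.card_dvd_of_le hJO) (pPrimeCore_coprime 2 H)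
    have := Nat.Coprime.eq_one_of_dvd h2.symm h1
    omega
  rw [← heq]
  exact isPComponent_of_isPQ (hJ.subnormal.map hφ) ((hJ.isPQ.subgroupOf hJ.le).map φ hne)

/-- The image in `H / O(H)` of an involution is an involution. -/
theorem orderOf_mk_pPrimeCore {x : H} (hx : orderOf x = 2) :
    orderOf (QuotientGroup.mk' (pPrimeCore 2 H) x) = 2 := by
  haveI : Fact (Nat.Prime 2) := ⟨Nat.prime_two⟩
  have h1 : (QuotientGroup.mk' (pPrimeCore 2 H) x) ^ 2 = 1 := by
    rw [← map_pow, ← hx, pow_orderOf_eq_one, map_one]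
  refine orderOf_eq_prime h1 ?_
  intro h2
  have h3 : x ∈ pPrimeCore 2 H := (QuotientGroup.eq_one_iff _).1 h2
  have h4 : x = 1 := eq_one_of_twoElt_of_odd (n := 1) (by rw [pow_one, ← hx, pow_orderOf_eq_one])
    (pPrimeCore_coprime 2 H) h3
  rw [h4, orderOf_one] at hx
  omega

/-- Images in `C_Q(x̄)` of `2`-components of `C_x ∩ C_y`, for `Q = C_y / O(C_y)` with the `B`-property. -/
theorem comp_of_double {G : Type*} [Group G] [Finite G] {x y : G} (hx : orderOf x = 2) (hxy : x * y = y * x)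
    (hBQ : HasBProperty (↥(centralizer ({y} : Set G)) ⧸ oddCore ↥(centralizer ({y} : Set G))))
    {J₁ : Subgroup G} (hJ₁W : IsPComponentOf 2 J₁ (centralizer ({x} : Set G) ⊓ centralizer ({y} : Set G))) :
    IsComponent (((J₁.subgroupOf (centralizer ({y} : Set G))).map
        (QuotientGroup.mk' (oddCore ↥(centralizer ({y} : Set G))))).subgroupOf
      (centralizer ({(QuotientGroup.mk' (oddCore ↥(centralizer ({y} : Set G)))
        ⟨x, mem_centralizer_singleton_iff.mpr hxy⟩ : ↥(centralizer ({y} : Set G)) ⧸ oddCore ↥(centralizer ({y} : Set G)))} : Set _))) ∧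
    ∀ E : Subgroup G, E ≤ centralizer ({x} : Set G) ⊓ centralizer ({y} : Set G) → Odd (Nat.card ↥E) →
      (∀ j ∈ J₁, ∀ e ∈ E, j * e * j⁻¹ ∈ E) →
        ⁅J₁, E⁆ ≤ (oddCore ↥(centralizer ({y} : Set G))).map (centralizer ({y} : Set G)).subtype := by
  classical
  haveI : Fact (Nat.Prime 2) := ⟨Nat.prime_two⟩
  have hxy' : x ∈ centralizer ({y} : Set G) := mem_centralizer_singleton_iff.mpr hxy
  set Cy := centralizer ({y} : Set G) with hCy
  set Cx := centralizer ({x} : Set G) with hCx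
  set W := Cx ⊓ Cy with hW
  set x' : ↥Cy := ⟨x, hxy'⟩ with hx'
  have hx'2 : orderOf x' = 2 := by
    rw [← Subgroup.orderOf_coe]
    exact hx
  have hWC : W.subgroupOf Cy = centralizer ({x'} : Set ↥Cy) := by
    ext z
    rw [Subgroup.mem_subgroupOf, mem_centralizer_singleton_iff]
    constructor
    · intro hz
      apply Subtype.ext
      exact mem_centralizer_singleton_iff.1 hz.1
    · intro hz
      refine mem_inf.2 ⟨mem_centralizer_singleton_iff.2 (congrArg Subtype.val hz), z.2⟩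
  have hJ₃ : IsPComponentOf 2 (J₁.subgroupOf Cy) (centralizer ({x'} : Set ↥Cy)) := by
    rw [← hWC]
    exact hJ₁W.subgroupOf inf_le_right
  have hcomp := map_comp_centralizer hx'2 hJ₃
  change IsPComponent 2 (((J₁.subgroupOf Cy).map (QuotientGroup.mk' (pPrimeCore 2 ↥Cy))).subgroupOf
    (centralizer ({QuotientGroup.mk' (pPrimeCore 2 ↥Cy) x'} : Set (↥Cy ⧸ pPrimeCore 2 ↥Cy)))) at hcomp
  have hO : oddCore ↥Cy = pPrimeCore 2 ↥Cy := rfl
  set O := pPrimeCore 2 ↥Cy with hO'
  set π := QuotientGroup.mk' O with hπ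
  set Cq := centralizer ({π x'} : Set (↥Cy ⧸ O)) with hCq
  set Jb := (J₁.subgroupOf Cy).map π with hJb
  have hπx : orderOf (π x') = 2 := orderOf_mk_pPrimeCore hx'2
  have hB := hBQ (π x') hπx
  have hO1 : oddCore (↥Cy ⧸ O) = ⊥ := pPrimeCore_quotient_eq_bot
  have hB' : ⁅pLayer 2 ↥Cq, oddCore ↥Cq⁆ = ⊥ := by
    rw [hO1, le_bot_iff, Subgroup.map_eq_bot_iff_of_injective _ (Subgroup.subtype_injective _)] at hB
    exact hB
  have hcomm : ⁅Jb.subgroupOf Cq, pPrimeCore 2 ↥Cq⁆ = ⊥ := by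
    rw [eq_bot_iff, ← hB']
    exact Subgroup.commutator_mono (le_sSup hcomp) le_rfl
  have hcompJ : IsComponent (Jb.subgroupOf Cq) := (pComp_isComponent_iff hcomp).2 hcomm
  refine ⟨hcompJ, ?_⟩
  intro E hE hodd hinv
  -- the image of `E`
  have hEy : E ≤ Cy := hE.trans inf_le_right
  have hJy : J₁ ≤ Cy := hJ₁W.le.trans inf_le_right
  set Eb := ((E.subgroupOf Cy).map π) with hEb
  have hEbq : Eb ≤ Cq := by
    rintro _ ⟨e, he, rfl⟩
    rw [hCq, mem_centralizer_singleton_iff, ← map_mul, ← map_mul]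
    congr 1
    apply Subtype.ext
    exact mem_centralizer_singleton_iff.1 (hE (by simpa [mem_subgroupOf] using he)).1
  have hJbq : Jb ≤ Cq := by
    rintro _ ⟨e, he, rfl⟩
    rw [hCq, mem_centralizer_singleton_iff, ← map_mul, ← map_mul]
    congr 1
    apply Subtype.ext
    exact mem_centralizer_singleton_iff.1 (hJ₁W.le (by simpa [mem_subgroupOf] using he)).1
  have hnorm : Jb.subgroupOf Cq ≤ normalizer ((Eb.subgroupOf Cq : Subgroup ↥Cq) : Set ↥Cq) := by
    rintro ⟨q, hq⟩ hqJ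
    rw [mem_subgroupOf] at hqJ
    obtain ⟨j, hj, rfl⟩ := hqJ
    have hj' : (j : G) ∈ J₁ := by simpa [mem_subgroupOf] using hj
    apply Cfsg.Agent.Lib.Techniques.mem_normalizer_of_conj_le
    rintro ⟨q', hq'⟩ hq'E
    rw [mem_subgroupOf] at hq'E
    obtain ⟨e, he, rfl⟩ := hq'E
    have he' : (e : G) ∈ E := by simpa [mem_subgroupOf] using he
    rw [mem_subgroupOf]
    refine ⟨j * e * j⁻¹, ?_, by simp⟩
    show (j * e * j⁻¹ : Cy) ∈ E.subgroupOf Cy
    rw [mem_subgroupOf]
    exact hinv j hj' e he'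
  have hdich := Cfsg.Agent.Lib.PGroup.Bender.component_le_or_commute_of_normalizes hcompJ hnorm
  have hodd' : (Nat.card Eb).Coprime 2 := by
    have h1 : Nat.card Eb ∣ Nat.card (E.subgroupOf Cy) := Subgroup.card_map_dvd _ _
    have h2 : Nat.card (E.subgroupOf Cy) = Nat.card E := Nat.card_congr (subgroupOfEquivOfLe hEy).toEquiv
    rw [h2] at h1
    exact Nat.Coprime.coprime_dvd_left h1 (Nat.coprime_two_right.2 hodd)
  rcases hdich with h | h
  · exfalso
    have hJbE : Jb ≤ Eb := by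
      intro q hq
      have := h (x := ⟨q, hJbq hq⟩) (by simpa [mem_subgroupOf] using hq)
      simpa [mem_subgroupOf] using this
    have h1 : 2 ∣ Nat.card (Jb.subgroupOf Cq) := (IsPQ.of_isPComponent hcomp).even
    have h2 : Nat.card (Jb.subgroupOf Cq) = Nat.card Jb := Nat.card_congr (subgroupOfEquivOfLe hJbq).toEquiv
    rw [h2] at h1
    have h3 : (Nat.card Jb).Coprime 2 := Nat.Coprime.coprime_dvd_left (Subgroup.card_dvd_of_le hJbE) hodd'
    have := Nat.Coprime.eq_one_of_dvd h3.symm h1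
    omega
  · rw [Subgroup.commutator_le]
    intro j hj e he
    have hj' : (⟨j, hJy hj⟩ : Cy) ∈ J₁.subgroupOf Cy := by simpa [mem_subgroupOf] using hj
    have he' : (⟨e, hEy he⟩ : Cy) ∈ E.subgroupOf Cy := by simpa [mem_subgroupOf] using he
    have h1 : π ⟨j, hJy hj⟩ ∈ Jb := ⟨_, hj', rfl⟩
    have h2 : π ⟨e, hEy he⟩ ∈ Eb := ⟨_, he', rfl⟩
    have h3 := Subgroup.commutator_le.1 h.le ⟨_, hJbq h1⟩ (by simpa [mem_subgroupOf] using h1)
      ⟨_, hEbq h2⟩ (by simpa [mem_subgroupOf] using h2)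
    have h4 := congrArg Subtype.val h3
    have h5 : π (⟨j, hJy hj⟩ * ⟨e, hEy he⟩ * (⟨j, hJy hj⟩ : Cy)⁻¹ * (⟨e, hEy he⟩ : Cy)⁻¹) = 1 := by
      rw [map_mul, map_mul, map_mul, map_inv, map_inv]
      exact h4
    have h6 := (QuotientGroup.eq_one_iff _).1 h5
    exact ⟨_, h6, rfl⟩

end Cfsg.Agent.Lib.LBal
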