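import Mathlib
import Cfsg.Agent.Lib.LBal.Main
import Cfsg.Agent.Lib.LBal.Sec
import Cfsg.Agent.Lib.Hall.CoprimeAction
import Cfsg.Agent.Lib.FStar.ExtLayer

/-!
# Components of involution centralizers of maximal order (owner: helper11).
-/

set_option autoImplicit false
set_option linter.unusedSectionVars false
set_option linter.unusedVariables false
set_option linter.style.haveILetI false

namespace Cfsg.Agent.Lib.LBal

open Cfsg Subgroup Cfsg.Agent.Lib.FStar Cfsg.Agent.Lib.Core Cfsg.Agent.Lib.Cl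

section Q

variable {G : Type*} [Group G] [Finite G]

/-- A quasisimple group of even order is intrinsically `2`-quasisimple. -/
theorem isPQ_of_qs_even {K : Subgroup G} (hq : IsQuasisimple K) (h2 : 2 ∣ Nat.card K) : IsPQ K := by
  have hne : pPrimeCore 2 K ≠ ⊤ := by
    intro h
    have h1 := pPrimeCore_coprime 2 K
    rw [h, Subgroup.card_top] at h1
    have := Nat.Coprime.eq_one_of_dvd h1.symm h2
    omega
  have hc : pPrimeCore 2 K ≤ center K := (qs_normal_eq_top_or_le_center hq _).resolve_left hne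
  have hQ : IsQuasisimple (K ⧸ pPrimeCore 2 K) := qs_of_surjective hq (QuotientGroup.mk' _)
    (QuotientGroup.mk'_surjective _) (by rwa [QuotientGroup.ker_mk'])
  obtain ⟨J, hJ, hJm⟩ := exists_pComp_of_surjective hQ pPrimeCore_quotient_eq_bot (QuotientGroup.mk' (pPrimeCore 2 K))
    (QuotientGroup.mk'_surjective _) (by rw [QuotientGroup.ker_mk']; exact pPrimeCore_coprime 2 K)
  have hJtop : J = ⊤ := by
    rcases qs_subnormal_eq_top_or_le_center hq J hJ.1 with h | h
    · exact h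
    · exfalso
      have h1 : ∀ q q' : K ⧸ pPrimeCore 2 K, q * q' = q' * q := by
        intro q q'
        have hq1 : q ∈ J.map (QuotientGroup.mk' (pPrimeCore 2 K)) := by rw [hJm]; trivial
        obtain ⟨j, hj, rfl⟩ := hq1
        obtain ⟨j', rfl⟩ := QuotientGroup.mk'_surjective _ q'
        rw [← map_mul, ← map_mul]
        congr 1
        exact (mem_center_iff.1 (h hj) j').symm
      have h2 : center (K ⧸ pPrimeCore 2 K) = ⊤ := by
        rw [eq_top_iff]
        intro q _
        rw [mem_center_iff]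
        exact fun q' => h1 q' q
      have h3 := hQ.2
      have h4 : Nontrivial ((K ⧸ pPrimeCore 2 K) ⧸ center (K ⧸ pPrimeCore 2 K)) := IsSimpleGroup.toNontrivial
      rw [h2] at h4
      exact not_subsingleton ((K ⧸ pPrimeCore 2 K) ⧸ (⊤ : Subgroup (K ⧸ pPrimeCore 2 K))) (QuotientGroup.subsingleton_quotient_top)
  rw [hJtop] at hJ
  exact hJ

/-- Commutators ignore central factors. -/
theorem comm_mul_central {f f' z z' : G} (h1 : z * f' = f' * z) (h2 : z * z' = z' * z) (h3 : z' * f = f * z') :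
    (f * z) * (f' * z') * (f * z)⁻¹ * (f' * z')⁻¹ = f * f' * f⁻¹ * f'⁻¹ := by
  have h3' : z' * f⁻¹ = f⁻¹ * z' := by
    have : Commute z' f := h3
    exact this.inv_right
  calc (f * z) * (f' * z') * (f * z)⁻¹ * (f' * z')⁻¹ = f * (z * f') * z' * z⁻¹ * f⁻¹ * z'⁻¹ * f'⁻¹ := by group
    _ = f * f' * (z * z') * z⁻¹ * f⁻¹ * z'⁻¹ * f'⁻¹ := by rw [h1]; group
    _ = f * f' * z' * (z * z⁻¹) * f⁻¹ * z'⁻¹ * f'⁻¹ := by rw [h2]; group
    _ = f * f' * (z' * f⁻¹) * z'⁻¹ * f'⁻¹ := by group
    _ = f * f' * f⁻¹ * f'⁻¹ := by rw [h3']; group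

/-- Commutators split along commuting factors. -/
theorem comm_mul_split {f f' c c' : G} (h1 : c * f' = f' * c) (h2 : c' * f = f * c') (h3 : c * f = f * c)
    (h4 : c' * f' = f' * c') :
    (f * c) * (f' * c') * (f * c)⁻¹ * (f' * c')⁻¹ = (f * f' * f⁻¹ * f'⁻¹) * (c * c' * c⁻¹ * c'⁻¹) := by
  have e1 : Commute c f⁻¹ := (show Commute c f from h3).inv_right
  have e2 : Commute c f'⁻¹ := (show Commute c f' from h1).inv_right
  have e3 : Commute c' f⁻¹ := (show Commute c' f from h2).inv_right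
  have e4 : Commute c' f'⁻¹ := (show Commute c' f' from h4).inv_right
  have e5 : Commute c⁻¹ f⁻¹ := e1.inv_left
  have e6 : Commute c⁻¹ f'⁻¹ := e2.inv_left
  have e7 : Commute c'⁻¹ f'⁻¹ := e4.inv_left
  calc (f * c) * (f' * c') * (f * c)⁻¹ * (f' * c')⁻¹
      = f * (c * f') * c' * (c⁻¹ * f⁻¹) * (c'⁻¹ * f'⁻¹) := by group
    _ = f * f' * c * c' * (f⁻¹ * c⁻¹) * (f'⁻¹ * c'⁻¹) := by rw [h1, e5.eq, e7.eq]; group
    _ = f * f' * c * (c' * f⁻¹) * c⁻¹ * f'⁻¹ * c'⁻¹ := by group
    _ = f * f' * (c * f⁻¹) * c' * c⁻¹ * f'⁻¹ * c'⁻¹ := by rw [e3.eq]; group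
    _ = f * f' * f⁻¹ * c * c' * (c⁻¹ * f'⁻¹) * c'⁻¹ := by rw [e1.eq]; group
    _ = f * f' * f⁻¹ * c * (c' * f'⁻¹) * c⁻¹ * c'⁻¹ := by rw [e6.eq]; group
    _ = f * f' * f⁻¹ * (c * f'⁻¹) * c' * c⁻¹ * c'⁻¹ := by rw [e4.eq]; group
    _ = (f * f' * f⁻¹ * f'⁻¹) * (c * c' * c⁻¹ * c'⁻¹) := by rw [e2.eq]; group

/-- Two commuting elementary abelian `2`-subgroups generate such a subgroup. -/
theorem isElementaryAbelian_sup {H H' : Subgroup G} (h : IsElementaryAbelian 2 H) (h' : IsElementaryAbelian 2 H')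
    (hc : ∀ x ∈ H, ∀ y ∈ H', x * y = y * x) : IsElementaryAbelian 2 (H ⊔ H') := by
  have hN : H' ≤ normalizer (H : Set G) := by
    intro y hy
    apply Cfsg.Agent.Lib.Techniques.mem_normalizer_of_conj_le
    intro x hx
    rw [← hc x hx y hy, mul_inv_cancel_right]
    exact hx
  have hcH : ∀ x ∈ H, ∀ y ∈ H, x * y = y * x := by
    intro x hx y hy
    have := h.1.is_comm.comm (⟨x, hx⟩ : H) ⟨y, hy⟩
    exact congrArg Subtype.val this
  have hcH' : ∀ x ∈ H', ∀ y ∈ H', x * y = y * x := by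
    intro x hx y hy
    have := h'.1.is_comm.comm (⟨x, hx⟩ : H') ⟨y, hy⟩
    exact congrArg Subtype.val this
  refine ⟨⟨⟨?_⟩⟩, ?_⟩
  · rintro ⟨x, hx⟩ ⟨y, hy⟩
    apply Subtype.ext
    obtain ⟨a, ha, b, hb, rfl⟩ := Cfsg.Agent.Lib.Hall.exists_mul_of_mem_sup_normalizes hN hx
    obtain ⟨c, hc', d, hd, rfl⟩ := Cfsg.Agent.Lib.Hall.exists_mul_of_mem_sup_normalizes hN hy
    show a * b * (c * d) = c * d * (a * b)
    calc a * b * (c * d) = a * (b * c) * d := by group
      _ = a * (c * b) * d := by rw [(hc c hc' b hb).symm]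
      _ = (a * c) * (b * d) := by group
      _ = (c * a) * (d * b) := by rw [hcH a ha c hc', hcH' b hb d hd]
      _ = c * (a * d) * b := by group
      _ = c * (d * a) * b := by rw [hc a ha d hd]
      _ = c * d * (a * b) := by group
  · intro x hx
    obtain ⟨a, ha, b, hb, rfl⟩ := Cfsg.Agent.Lib.Hall.exists_mul_of_mem_sup_normalizes hN hx
    have h1 : a ^ 2 = 1 := h.2 a ha
    have h2 : b ^ 2 = 1 := h'.2 b hb
    calc (a * b) ^ 2 = a * (b * a) * b := by rw [pow_two]; simp only [mul_assoc]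
      _ = a * (a * b) * b := by rw [hc a ha b hb]
      _ = a ^ 2 * b ^ 2 := by rw [pow_two, pow_two]; simp only [mul_assoc]
      _ = 1 := by rw [h1, h2, one_mul]

end Q

section Lemma

variable {X : Type*} [Group X] [Finite X]

/-- A component of `C_X(t)`, inside the layer of `X`, lies in `D D^t` for a component `D` of `X`. -/
theorem exists_comp_of_centralizer_comp {t : X} (ht : t * t = 1) {L : Subgroup X} (hLq : IsQuasisimple L)
    (hLP : ⁅L, L⁆ = L) (hLne : L ≠ ⊥)
    (hLt : L ≤ centralizer ({t} : Set X)) (hLsn : (L.subgroupOf (centralizer ({t} : Set X))).IsSubnormal)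
    (hLE : L ≤ layer X) :
    ∃ D : Subgroup X, IsComponent D ∧ L ≤ (D ⊔ D.map (MulAut.conj t).toMonoidHom) := by
  classical
  have htinv : t⁻¹ = t := inv_eq_of_mul_eq_one_left ht
  -- a component not centralized by `L`
  obtain ⟨D, hD, hDL⟩ : ∃ D : Subgroup X, IsComponent D ∧ ¬ L ≤ centralizer (D : Set X) := by
    by_contra hcon
    push Not at hcon
    have h1 : layer X ≤ centralizer (L : Set X) := by
      refine sSup_le fun D hD => ?_
      rw [Subgroup.le_centralizer_iff]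
      exact hcon D hD
    have h2 : ⁅L, L⁆ = ⊥ := by
      rw [Subgroup.commutator_eq_bot_iff_le_centralizer]
      exact hLE.trans h1
    exact hLne (hLP.symm.trans h2)
  refine ⟨D, hD, ?_⟩
  set Dt := D.map (MulAut.conj t).toMonoidHom with hDt
  have hDtc : IsComponent Dt := component_map_conj t hD
  set F := D ⊔ Dt with hF
  set C := centralizer (F : Set X) with hC
  -- conjugation by `t`
  have hconjD : ∀ x ∈ D, t * x * t⁻¹ ∈ Dt := fun x hx => ⟨x, hx, rfl⟩
  have hconjDt : ∀ x ∈ Dt, t * x * t⁻¹ ∈ D := by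
    rintro _ ⟨x, hx, rfl⟩
    have : t * ((MulAut.conj t).toMonoidHom x) * t⁻¹ = x := by
      simp only [MulEquiv.coe_toMonoidHom, MulAut.conj_apply]
      rw [htinv]
      calc t * (t * x * t) * t = (t * t) * x * (t * t) := by group
        _ = x := by rw [ht]; simp
    rw [this]
    exact hx
  have htF : ∀ x ∈ F, t * x * t⁻¹ ∈ F := by
    have h1 : F ≤ F.comap (MulAut.conj t).toMonoidHom := by
      refine sup_le ?_ ?_
      · intro x hx
        exact (le_sup_right : Dt ≤ F) (hconjD x hx)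
      · intro x hx
        exact (le_sup_left : D ≤ F) (hconjDt x hx)
    exact fun x hx => h1 hx
  have htC : ∀ c ∈ C, t * c * t⁻¹ ∈ C := by
    intro c hc
    rw [hC, Subgroup.mem_centralizer_iff]
    intro f hf
    have h1 : t⁻¹ * f * t ∈ F := by
      have := htF f hf
      rwa [htinv] at this ⊢
    have h2 := (Subgroup.mem_centralizer_iff.1 hc) _ h1
    calc f * (t * c * t⁻¹) = t * (t⁻¹ * f * t * c) * t⁻¹ := by group
      _ = t * (c * (t⁻¹ * f * t)) * t⁻¹ := by rw [h2]
      _ = t * c * t⁻¹ * f := by group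
  have hCF : ∀ c ∈ C, ∀ f ∈ F, c * f = f * c := by
    intro c hc f hf
    exact ((Subgroup.mem_centralizer_iff.1 hc) f hf).symm
  have hCN : C ≤ normalizer (F : Set X) := by
    intro c hc
    apply Cfsg.Agent.Lib.Techniques.mem_normalizer_of_conj_le
    intro f hf
    rw [hCF c hc f hf, mul_inv_cancel_right]
    exact hf
  -- the layer lies in `F C`
  have hE : layer X ≤ F ⊔ C := by
    refine sSup_le fun D' hD' => ?_
    by_cases h1 : D' = D
    · rw [h1]
      exact le_sup_of_le_left le_sup_left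
    by_cases h2 : D' = Dt
    · rw [h2]
      exact le_sup_of_le_left le_sup_right
    refine le_sup_of_le_right ?_
    rw [hC, Subgroup.le_centralizer_iff]
    refine sup_le ?_ ?_
    · rw [← Subgroup.commutator_eq_bot_iff_le_centralizer]
      exact component_commute hD hD' (Ne.symm h1)
    · rw [← Subgroup.commutator_eq_bot_iff_le_centralizer]
      exact component_commute hDtc hD' (Ne.symm h2)
  have hLFC : L ≤ F ⊔ C := hLE.trans hE
  set Ct := centralizer ({t} : Set X) with hCt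
  set M := F ⊓ Ct with hM
  have hlt : ∀ l ∈ L, t * l = l * t := by
    intro l hl
    have := Subgroup.mem_centralizer_singleton_iff.1 (hLt hl)
    exact this.symm
  -- the `t`-twist of the `F`-part is central
  have htwist : ∀ f c, f ∈ F → c ∈ C → f * c ∈ L → f⁻¹ * (t * f * t⁻¹) ∈ F ⊓ C := by
    intro f c hf hc hl
    refine mem_inf.2 ⟨F.mul_mem (F.inv_mem hf) (htF f hf), ?_⟩
    have h1 := hlt _ hl
    have h2 : f⁻¹ * (t * f * t⁻¹) = c * (t * c * t⁻¹)⁻¹ := by
      have h3 : (t * f * t⁻¹) * (t * c * t⁻¹) = f * c := by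
        calc (t * f * t⁻¹) * (t * c * t⁻¹) = t * (f * c) * t⁻¹ := by group
          _ = (f * c) * t * t⁻¹ := by rw [h1]
          _ = f * c := by group
      calc f⁻¹ * (t * f * t⁻¹) = f⁻¹ * ((t * f * t⁻¹) * (t * c * t⁻¹)) * (t * c * t⁻¹)⁻¹ := by group
        _ = f⁻¹ * (f * c) * (t * c * t⁻¹)⁻¹ := by rw [h3]
        _ = c * (t * c * t⁻¹)⁻¹ := by group
    rw [h2]
    exact C.mul_mem hc (C.inv_mem (htC c hc))
  -- commutators of the `F`-parts are `t`-fixed
  have hfix : ∀ f f' c c', f ∈ F → f' ∈ F → c ∈ C → c' ∈ C → f * c ∈ L → f' * c' ∈ L →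
      f * f' * f⁻¹ * f'⁻¹ ∈ M := by
    intro f f' c c' hf hf' hc hc' hl hl'
    refine mem_inf.2 ⟨F.mul_mem (F.mul_mem (F.mul_mem hf hf') (F.inv_mem hf)) (F.inv_mem hf'), ?_⟩
    rw [Subgroup.mem_centralizer_singleton_iff]
    obtain ⟨hz1, hz2⟩ := mem_inf.1 (htwist f c hf hc hl)
    obtain ⟨hz1', hz2'⟩ := mem_inf.1 (htwist f' c' hf' hc' hl')
    set z := f⁻¹ * (t * f * t⁻¹) with hz
    set z' := f'⁻¹ * (t * f' * t⁻¹) with hz'
    have e1 : t * f * t⁻¹ = f * z := by rw [hz]; group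
    have e2 : t * f' * t⁻¹ = f' * z' := by rw [hz']; group
    have e3 : t * (f * f' * f⁻¹ * f'⁻¹) * t⁻¹ = f * f' * f⁻¹ * f'⁻¹ := by
      calc t * (f * f' * f⁻¹ * f'⁻¹) * t⁻¹ = (t * f * t⁻¹) * (t * f' * t⁻¹) * (t * f * t⁻¹)⁻¹ * (t * f' * t⁻¹)⁻¹ := by group
        _ = f * f' * f⁻¹ * f'⁻¹ := by
          rw [e1, e2]
          exact comm_mul_central (hCF z hz2 f' hf') (hCF z hz2 z' hz1') (hCF z' hz2' f hf)
    calc (f * f' * f⁻¹ * f'⁻¹) * t = (t * (f * f' * f⁻¹ * f'⁻¹) * t⁻¹) * t := by rw [e3]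
      _ = t * (f * f' * f⁻¹ * f'⁻¹) := by group
  -- `L ≤ M C`
  have hLMC : L ≤ M ⊔ C := by
    rw [← hLP, Subgroup.commutator_le]
    intro l hl l' hl'
    obtain ⟨f, hf, c, hc, rfl⟩ := Cfsg.Agent.Lib.Hall.exists_mul_of_mem_sup_normalizes hCN (hLFC hl)
    obtain ⟨f', hf', c', hc', rfl⟩ := Cfsg.Agent.Lib.Hall.exists_mul_of_mem_sup_normalizes hCN (hLFC hl')
    rw [commutatorElement_def]
    rw [comm_mul_split (hCF c hc f' hf') (hCF c' hc' f hf) (hCF c hc f hf) (hCF c' hc' f' hf')]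
    exact Subgroup.mul_mem_sup (hfix f f' c c' hf hf' hc hc' hl hl')
      (C.mul_mem (C.mul_mem (C.mul_mem hc hc') (C.inv_mem hc)) (C.inv_mem hc'))
  have hCM : ∀ c ∈ C, ∀ m ∈ M, c * m = m * c := fun c hc m hm => hCF c hc m hm.1
  have hCNM : C ≤ normalizer (M : Set X) := by
    intro c hc
    apply Cfsg.Agent.Lib.Techniques.mem_normalizer_of_conj_le
    intro m hm
    rw [hCM c hc m hm, mul_inv_cancel_right]
    exact hm
  have hLN : L ≤ normalizer (M : Set X) :=
    hLMC.trans (sup_le Subgroup.le_normalizer hCNM)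
  -- the dichotomy
  have hcompL : IsComponent (L.subgroupOf Ct) :=
    ⟨hLsn, qs_of_mulEquiv (Subgroup.subgroupOfEquivOfLe hLt).symm hLq⟩
  have hinv : L.subgroupOf Ct ≤ normalizer ((M.subgroupOf Ct : Subgroup Ct) : Set Ct) := by
    rintro ⟨l, hl⟩ hl'
    have hl2 : l ∈ L := by simpa [mem_subgroupOf] using hl'
    apply Cfsg.Agent.Lib.Techniques.mem_normalizer_of_conj_le
    rintro ⟨m, hm⟩ hm'
    have hm2 : m ∈ M := by simpa [mem_subgroupOf] using hm'
    rw [mem_subgroupOf]
    exact (mem_normalizer_iff.1 (hLN hl2) m).1 hm2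
  rcases Cfsg.Agent.Lib.PGroup.Bender.component_le_or_commute_of_normalizes hcompL hinv with h | h
  · intro l hl
    have h1 : (⟨l, hLt hl⟩ : Ct) ∈ L.subgroupOf Ct := by simpa [mem_subgroupOf] using hl
    have h2 := h h1
    rw [mem_subgroupOf] at h2
    exact h2.1
  · exfalso
    apply hDL
    have hlm : ∀ l ∈ L, ∀ m ∈ M, l * m = m * l := by
      intro l hl m hm
      have h1 := Subgroup.commutator_le.1 h.le ⟨l, hLt hl⟩ (by simpa [mem_subgroupOf] using hl)
        ⟨m, hm.2⟩ (by simpa [mem_subgroupOf] using hm)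
      have h2 := congrArg Subtype.val (Subgroup.mem_bot.1 h1)
      have h3 : l * m * l⁻¹ * m⁻¹ = 1 := by simpa [commutatorElement_def] using h2
      calc l * m = (l * m * l⁻¹ * m⁻¹) * (m * l) := by group
        _ = m * l := by rw [h3, one_mul]
    have hLC : L ≤ C := by
      rw [← hLP, Subgroup.commutator_le]
      intro l hl l' hl'
      obtain ⟨m, hm, c, hc, rfl⟩ := Cfsg.Agent.Lib.Hall.exists_mul_of_mem_sup_normalizes hCNM (hLMC hl)
      obtain ⟨m', hm', c', hc', rfl⟩ := Cfsg.Agent.Lib.Hall.exists_mul_of_mem_sup_normalizes hCNM (hLMC hl')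
      rw [commutatorElement_def]
      rw [comm_mul_split (hCM c hc m' hm') (hCM c' hc' m hm) (hCM c hc m hm) (hCM c' hc' m' hm')]
      have h1 : m * m' = m' * m := by
        have h2 := hlm _ hl m' hm'
        calc m * m' = (m * c) * c⁻¹ * m' := by group
          _ = (m * c) * (c⁻¹ * m') := by group
          _ = (m * c) * (m' * c⁻¹) := by
            have : Commute c⁻¹ m' := (show Commute c m' from hCM c hc m' hm').inv_left
            rw [this.eq]
          _ = ((m * c) * m') * c⁻¹ := by group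
          _ = (m' * (m * c)) * c⁻¹ := by rw [h2]
          _ = m' * m := by group
      have h2 : m * m' * m⁻¹ * m'⁻¹ = 1 := by
        rw [h1]; group
      rw [h2, one_mul]
      exact C.mul_mem (C.mul_mem (C.mul_mem hc hc') (C.inv_mem hc)) (C.inv_mem hc')
    exact hLC.trans (Subgroup.centralizer_le (fun x hx => (le_sup_left : D ≤ F) hx))

/-- The twisted case of the maximal component analysis: a large elementary abelian subgroup in `C(D)`. -/
theorem exists_large_elem {a : X} (ha : a * a = 1) {K D B A : Subgroup X} (hD : IsComponent D)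
    (hne : D.map (MulAut.conj a).toMonoidHom ≠ D) (hKD : K ≤ D ⊔ D.map (MulAut.conj a).toMonoidHom)
    (hKa : K ≤ centralizer ({a} : Set X)) (hKP : ⁅K, K⁆ = K) (hKne : K ≠ ⊥) (hcard : Nat.card D ≤ Nat.card K)
    (hBel : IsElementaryAbelian 2 B) (hBa : a ∈ B) (hBK : B ≤ centralizer (K : Set X))
    (hAK : A ≤ K) (hAel : IsElementaryAbelian 2 A) (hA : 2 < Nat.card A) :
    Nat.card K ≤ Nat.card D ∧
      ∃ A₀ : Subgroup X, A₀ ≤ centralizer (D : Set X) ∧ IsElementaryAbelian 2 A₀ ∧ Nat.card B < Nat.card A₀ := by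
  classical
  have hainv : a⁻¹ = a := inv_eq_of_mul_eq_one_left ha
  set Da := D.map (MulAut.conj a).toMonoidHom with hDa
  have hDac : IsComponent Da := component_map_conj a hD
  have hcomm : ∀ x ∈ D, ∀ y ∈ Da, x * y = y * x := by
    intro x hx y hy
    have h1 := Subgroup.commutator_le.1 (component_commute hD hDac hne.symm).le x hx y hy
    have h3 : x * y * x⁻¹ * y⁻¹ = 1 := by simpa [commutatorElement_def] using h1
    calc x * y = (x * y * x⁻¹ * y⁻¹) * (y * x) := by group
      _ = y * x := by rw [h3, one_mul]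
  have hcD : ∀ x ∈ D, a * x * a⁻¹ ∈ Da := fun x hx => ⟨x, hx, rfl⟩
  have hcDa : ∀ x ∈ Da, a * x * a⁻¹ ∈ D := by
    rintro _ ⟨x, hx, rfl⟩
    have : a * ((MulAut.conj a).toMonoidHom x) * a⁻¹ = x := by
      simp only [MulEquiv.coe_toMonoidHom, MulAut.conj_apply]
      rw [hainv]
      calc a * (a * x * a) * a = (a * a) * x * (a * a) := by group
        _ = x := by rw [ha]; simp
    rw [this]
    exact hx
  have hcc : ∀ x : X, a * (a * x * a⁻¹) * a⁻¹ = x := by
    intro x
    rw [hainv]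
    calc a * (a * x * a) * a = (a * a) * x * (a * a) := by group
      _ = x := by rw [ha]; simp
  -- the diagonal map
  let θ : D →* X :=
    { toFun := fun x => (x : X) * (a * x * a⁻¹)
      map_one' := by simp
      map_mul' := by
        intro x y
        have h1 := hcomm y y.2 _ (hcD x x.2)
        show ((x : X) * y) * (a * ((x : X) * y) * a⁻¹) = ((x : X) * (a * x * a⁻¹)) * ((y : X) * (a * y * a⁻¹))
        calc ((x : X) * y) * (a * ((x : X) * y) * a⁻¹) = (x : X) * ((y : X) * (a * x * a⁻¹)) * (a * y * a⁻¹) := by group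
          _ = (x : X) * ((a * x * a⁻¹) * y) * (a * y * a⁻¹) := by rw [h1]
          _ = ((x : X) * (a * x * a⁻¹)) * ((y : X) * (a * y * a⁻¹)) := by group }
  have hθ : ∀ x : D, θ x = (x : X) * (a * x * a⁻¹) := fun _ => rfl
  have hDaN : Da ≤ normalizer (D : Set X) := by
    intro y hy
    apply Cfsg.Agent.Lib.Techniques.mem_normalizer_of_conj_le
    intro x hx
    rw [← hcomm x hx y hy, mul_inv_cancel_right]
    exact hx
  -- decomposition
  have hdec : ∀ m ∈ K, ∃ x : D, ∃ z, z ∈ D ∧ z ∈ Da ∧ m = θ x * z := by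
    intro m hm
    obtain ⟨x, hx, y, hy, rfl⟩ := Cfsg.Agent.Lib.Hall.exists_mul_of_mem_sup_normalizes hDaN (hKD hm)
    have h1 : a * (x * y) = (x * y) * a := by
      have := Subgroup.mem_centralizer_singleton_iff.1 (hKa hm)
      exact this.symm
    set y' := a * y * a⁻¹ with hy'
    have hy'D : y' ∈ D := hcDa y hy
    have h2 : (a * x * a⁻¹) * y' = x * y := by
      calc (a * x * a⁻¹) * y' = a * (x * y) * a⁻¹ := by rw [hy']; group
        _ = (x * y) * a * a⁻¹ := by rw [h1]
        _ = x * y := by group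
    have h3 : y' * (a * x * a⁻¹) = x * y := by
      rw [← h2, hcomm y' hy'D _ (hcD x hx)]
    set z := x⁻¹ * y' with hz
    have hzD : z ∈ D := D.mul_mem (D.inv_mem hx) hy'D
    have hz2 : z = y * (a * x * a⁻¹)⁻¹ := by
      calc z = x⁻¹ * (y' * (a * x * a⁻¹)) * (a * x * a⁻¹)⁻¹ := by rw [hz]; group
        _ = x⁻¹ * (x * y) * (a * x * a⁻¹)⁻¹ := by rw [h3]
        _ = y * (a * x * a⁻¹)⁻¹ := by group
    have hzDa : z ∈ Da := by
      rw [hz2]
      exact Da.mul_mem hy (Da.inv_mem (hcD x hx))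
    refine ⟨⟨x, hx⟩, z, hzD, hzDa, ?_⟩
    rw [hθ]
    show x * y = x * (a * x * a⁻¹) * z
    have h4 : y = z * (a * x * a⁻¹) := by rw [hz2]; group
    calc x * y = x * (z * (a * x * a⁻¹)) := by rw [← h4]
      _ = x * ((a * x * a⁻¹) * z) := by rw [hcomm z hzD _ (hcD x hx)]
      _ = x * (a * x * a⁻¹) * z := by group
  -- `z` is central in `F`
  have hzθ : ∀ x : D, ∀ z, z ∈ D → z ∈ Da → z * θ x = θ x * z := by
    intro x z hzD hzDa
    rw [hθ]
    have h1 : z * x = x * z := (hcomm x x.2 z hzDa).symm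
    have h2 : z * (a * x * a⁻¹) = (a * x * a⁻¹) * z := hcomm z hzD _ (hcD x x.2)
    calc z * ((x : X) * (a * x * a⁻¹)) = (z * x) * (a * x * a⁻¹) := by group
      _ = x * (z * (a * x * a⁻¹)) := by rw [h1]; group
      _ = x * ((a * x * a⁻¹) * z) := by rw [h2]
      _ = (x : X) * (a * x * a⁻¹) * z := by group
  have hKθ : K ≤ θ.range := by
    rw [← hKP, Subgroup.commutator_le]
    intro k hk k' hk'
    obtain ⟨x, z, hz1, hz2, rfl⟩ := hdec k hk
    obtain ⟨x', z', hz1', hz2', rfl⟩ := hdec k' hk'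
    rw [commutatorElement_def]
    have hzz' : z * z' = z' * z := hcomm z hz1 z' hz2'
    rw [comm_mul_central (hzθ x' z hz1 hz2) hzz' (hzθ x z' hz1' hz2')]
    exact ⟨x * x' * x⁻¹ * x'⁻¹, by simp only [map_mul, map_inv]⟩
  have hcr : Nat.card θ.range ≤ Nat.card D := by
    have := Nat.card_le_card_of_surjective θ.rangeRestrict θ.rangeRestrict_surjective
    exact this
  have hKcard : Nat.card θ.range ≤ Nat.card K := hcr.trans hcard
  have hKeq : K = θ.range := Subgroup.eq_of_le_of_card_ge hKθ hKcard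
  have hθinj : Function.Injective θ := by
    have h1 : Nat.card D ≤ Nat.card θ.range := by
      rw [← hKeq]
      exact hcard
    have h2 := (θ.rangeRestrict_surjective).bijective_of_nat_card_le h1
    intro x y hxy
    apply h2.1
    apply Subtype.ext
    exact hxy
  have hθK : ∀ x : D, θ x ∈ K := fun x => by
    rw [hKeq]
    exact ⟨x, rfl⟩
  -- elements of `B`
  have hBcK : ∀ β ∈ B, ∀ k ∈ K, β * k = k * β := by
    intro β hβ k hk
    exact ((Subgroup.mem_centralizer_iff.1 (hBK hβ)) k hk).symm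
  have hBc : ∀ x ∈ B, ∀ y ∈ B, x * y = y * x := by
    intro x hx y hy
    have := hBel.1.is_comm.comm (⟨x, hx⟩ : B) ⟨y, hy⟩
    exact congrArg Subtype.val this
  have hBa' : ∀ β ∈ B, β * a = a * β := fun β hβ => hBc β hβ a hBa
  set B₁ := B ⊓ normalizer (D : Set X) with hB₁
  -- `B₁` centralizes `D`
  have hB₁c : ∀ β ∈ B₁, ∀ x ∈ D, β * x = x * β := by
    intro β hβ x hx
    obtain ⟨hβB, hβN⟩ := mem_inf.1 hβ
    have h1 : β * x * β⁻¹ ∈ D := (mem_normalizer_iff.1 hβN x).1 hx
    have h2 : θ ⟨β * x * β⁻¹, h1⟩ = θ ⟨x, hx⟩ := by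
      rw [hθ, hθ]
      have h3 : a * β = β * a := (hBa' β hβB).symm
      have h4 : β * ((x : X) * (a * x * a⁻¹)) * β⁻¹ = (x : X) * (a * x * a⁻¹) := by
        have := hBcK β hβB _ (hθK ⟨x, hx⟩)
        rw [hθ] at this
        show β * ((x : X) * (a * x * a⁻¹)) * β⁻¹ = _
        rw [this]
        group
      show (β * x * β⁻¹) * (a * (β * x * β⁻¹) * a⁻¹) = x * (a * x * a⁻¹)
      rw [← h4]
      have h5 : a * (β * x * β⁻¹) * a⁻¹ = β * (a * x * a⁻¹) * β⁻¹ := by
        have h6 : a⁻¹ * β = β * a⁻¹ := by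
          have : Commute β a := hBa' β hβB
          exact (this.inv_right).eq.symm
        calc a * (β * x * β⁻¹) * a⁻¹ = (a * β) * x * (a * β)⁻¹ := by group
          _ = (β * a) * x * (β * a)⁻¹ := by rw [h3]
          _ = β * (a * x * a⁻¹) * β⁻¹ := by group
      rw [h5]
      group
    have h3 := hθinj h2
    have h4 : β * x * β⁻¹ = x := congrArg Subtype.val h3
    calc β * x = (β * x * β⁻¹) * β := by group
      _ = x * β := by rw [h4]
  -- the action of `B` on `{D, D^a}`
  have hBact : ∀ β ∈ B, β ∈ B₁ ∨ a * β ∈ B₁ := by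
    intro β hβ
    set Dβ := D.map (MulAut.conj β).toMonoidHom with hDβ
    have hDβc : IsComponent Dβ := component_map_conj β hD
    have hnorm : ∀ g : X, D.map (MulAut.conj g).toMonoidHom = D → g ∈ normalizer (D : Set X) := by
      intro g hg
      apply Cfsg.Agent.Lib.Techniques.mem_normalizer_of_conj_le
      intro x hx
      rw [← hg]
      exact ⟨x, hx, rfl⟩
    by_cases h1 : Dβ = D
    · exact Or.inl (mem_inf.2 ⟨hβ, hnorm β h1⟩)
    by_cases h2 : Dβ = Da
    · refine Or.inr (mem_inf.2 ⟨B.mul_mem hBa hβ, hnorm _ ?_⟩)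
      rw [Cfsg.Agent.Lib.FStar.ExtLayer.map_conj_mul, ← hDβ, h2, hDa, ← Cfsg.Agent.Lib.FStar.ExtLayer.map_conj_mul, ha]
      exact Cfsg.Agent.Lib.FStar.ExtLayer.map_conj_one D
    exfalso
    -- commuting
    set Daβ := Da.map (MulAut.conj β).toMonoidHom with hDaβ
    have hDaβc : IsComponent Daβ := component_map_conj β hDac
    have e1 : Daβ = Dβ.map (MulAut.conj a).toMonoidHom := by
      rw [hDaβ, hDa, hDβ, ← Cfsg.Agent.Lib.FStar.ExtLayer.map_conj_mul, ← Cfsg.Agent.Lib.FStar.ExtLayer.map_conj_mul, hBa' β hβ]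
    have e2 : Dβ = Daβ.map (MulAut.conj a).toMonoidHom := by
      rw [e1, ← Cfsg.Agent.Lib.FStar.ExtLayer.map_conj_mul, ha]
      exact (Cfsg.Agent.Lib.FStar.ExtLayer.map_conj_one Dβ).symm
    have h3 : Daβ ≠ D := by
      intro h
      apply h2
      rw [e2, h]
    have h4 : Daβ ≠ Da := by
      intro h
      apply h1
      rw [e2, h, hDa, ← Cfsg.Agent.Lib.FStar.ExtLayer.map_conj_mul, ha]
      exact Cfsg.Agent.Lib.FStar.ExtLayer.map_conj_one D
    have hF : D ⊔ Da ≤ centralizer ((Dβ ⊔ Daβ : Subgroup X) : Set X) := by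
      rw [Subgroup.le_centralizer_iff]
      refine sup_le ?_ ?_
      · rw [Subgroup.le_centralizer_iff]
        refine sup_le ?_ ?_
        · rw [← Subgroup.commutator_eq_bot_iff_le_centralizer]
          exact component_commute hD hDβc (Ne.symm h1)
        · rw [← Subgroup.commutator_eq_bot_iff_le_centralizer]
          exact component_commute hDac hDβc (Ne.symm h2)
      · rw [Subgroup.le_centralizer_iff]
        refine sup_le ?_ ?_
        · rw [← Subgroup.commutator_eq_bot_iff_le_centralizer]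
          exact component_commute hD hDaβc (Ne.symm h3)
        · rw [← Subgroup.commutator_eq_bot_iff_le_centralizer]
          exact component_commute hDac hDaβc (Ne.symm h4)
    have hKβ : K ≤ Dβ ⊔ Daβ := by
      intro k hk
      have h5 : β⁻¹ * k * β ∈ D ⊔ Da := by
        have : β⁻¹ * k * β = k := by
          rw [mul_assoc, ← hBcK β hβ k hk]
          group
        rw [this]
        exact hKD hk
      have h6 : (MulAut.conj β).toMonoidHom (β⁻¹ * k * β) ∈ (D ⊔ Da).map (MulAut.conj β).toMonoidHom :=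
        ⟨_, h5, rfl⟩
      rw [Subgroup.map_sup] at h6
      have h7 : (MulAut.conj β).toMonoidHom (β⁻¹ * k * β) = k := by
        simp only [MulEquiv.coe_toMonoidHom, MulAut.conj_apply]
        group
      rw [h7] at h6
      exact h6
    have h8 : ⁅K, K⁆ = ⊥ := by
      rw [Subgroup.commutator_eq_bot_iff_le_centralizer]
      refine (hKD.trans hF).trans (Subgroup.centralizer_le ?_)
      exact fun x hx => hKβ hx
    exact hKne (hKP.symm.trans h8)
  -- counting `B`
  have hBcard : Nat.card B ≤ 2 * Nat.card B₁ := by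
    let f : Bool × B₁ → B := fun p => match p with
      | (false, x) => ⟨x, (mem_inf.1 x.2).1⟩
      | (true, x) => ⟨a * x, B.mul_mem hBa (mem_inf.1 x.2).1⟩
    have hf : Function.Surjective f := by
      rintro ⟨β, hβ⟩
      rcases hBact β hβ with h | h
      · exact ⟨(false, ⟨β, h⟩), rfl⟩
      · refine ⟨(true, ⟨a * β, h⟩), ?_⟩
        apply Subtype.ext
        show a * (a * β) = β
        rw [← mul_assoc, ha, one_mul]
    have h1 := Nat.card_le_card_of_surjective f hf
    rw [Nat.card_prod, Nat.card_eq_fintype_card (α := Bool), Fintype.card_bool] at h1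
    exact h1
  -- the second factor
  set A' := A.comap θ with hA'
  have hA'map : A'.map θ = A := Subgroup.map_comap_eq_self (hAK.trans hKθ)
  have hA'card : Nat.card A' = Nat.card A := by
    rw [← hA'map]
    exact (Subgroup.card_map_of_injective hθinj).symm
  let φ : D →* X := (MulAut.conj a).toMonoidHom.comp D.subtype
  have hφ : ∀ x : D, φ x = a * x * a⁻¹ := fun _ => rfl
  have hφinj : Function.Injective φ := by
    intro x y h
    apply Subtype.ext
    rw [hφ, hφ] at h
    exact mul_left_cancel (mul_right_cancel h)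
  set E₂ := A'.map φ with hE₂
  have hE₂card : Nat.card E₂ = Nat.card A := by
    rw [← hA'card]
    exact Subgroup.card_map_of_injective hφinj
  have hAc : ∀ x ∈ A, ∀ y ∈ A, x * y = y * x := by
    intro x hx y hy
    have := hAel.1.is_comm.comm (⟨x, hx⟩ : A) ⟨y, hy⟩
    exact congrArg Subtype.val this
  have hE₂el : IsElementaryAbelian 2 E₂ := by
    refine ⟨⟨⟨?_⟩⟩, ?_⟩
    · rintro ⟨_, y, hy, rfl⟩ ⟨_, y', hy', rfl⟩
      apply Subtype.ext
      show φ y * φ y' = φ y' * φ y
      rw [← map_mul, ← map_mul]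
      congr 1
      apply hθinj
      rw [map_mul, map_mul]
      exact hAc _ hy _ hy'
    · rintro _ ⟨y, hy, rfl⟩
      rw [← map_pow]
      have : y ^ 2 = 1 := by
        apply hθinj
        rw [map_pow, map_one]
        exact hAel.2 _ hy
      rw [this, map_one]
  have hE₂Da : E₂ ≤ Da := by
    rintro _ ⟨y, hy, rfl⟩
    exact hcD y y.2
  have hB₁el : IsElementaryAbelian 2 B₁ := by
    refine ⟨⟨⟨?_⟩⟩, fun x hx => hBel.2 x (mem_inf.1 hx).1⟩
    rintro ⟨x, hx⟩ ⟨y, hy⟩
    apply Subtype.ext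
    exact hBc x (mem_inf.1 hx).1 y (mem_inf.1 hy).1
  have hB₁E₂ : ∀ x ∈ B₁, ∀ y ∈ E₂, x * y = y * x := by
    rintro β hβ _ ⟨y, hy, rfl⟩
    have h1 : β * a = a * β := hBa' β (mem_inf.1 hβ).1
    have h2 : β * y = y * β := hB₁c β hβ y y.2
    have h3 : β * a⁻¹ = a⁻¹ * β := by
      have : Commute β a := h1
      exact this.inv_right.eq
    show β * (a * y * a⁻¹) = (a * y * a⁻¹) * β
    calc β * (a * y * a⁻¹) = (β * a) * y * a⁻¹ := by group
      _ = a * (β * y) * a⁻¹ := by rw [h1]; group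
      _ = a * y * (β * a⁻¹) := by rw [h2]; group
      _ = (a * y * a⁻¹) * β := by rw [h3]; group
  have hinter : ∀ x ∈ B₁, x ∈ E₂ → x = 1 := by
    rintro x hx ⟨y, hy, rfl⟩
    have hxa : φ y * a = a * φ y := hBa' _ (mem_inf.1 hx).1
    have h1 : (y : X) = φ y := by
      rw [hφ] at hxa ⊢
      apply mul_left_cancel (a := a)
      rw [← hxa]
      group
    have h2 : (φ y) ^ 2 = 1 := hBel.2 _ (mem_inf.1 hx).1
    have h3 : θ y = 1 := by
      rw [hθ]
      have h4 : a * (y : X) * a⁻¹ = φ y := rfl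
      rw [h4]
      calc (y : X) * φ y = φ y * φ y := by rw [← h1]
        _ = (φ y) ^ 2 := by rw [pow_two]
        _ = 1 := h2
    have h5 : y = 1 := hθinj (by rw [h3, map_one])
    rw [h5, map_one]
  refine ⟨by rw [hKeq]; exact hcr, B₁ ⊔ E₂, ?_, isElementaryAbelian_sup hB₁el hE₂el hB₁E₂, ?_⟩
  · refine sup_le ?_ ?_
    · intro β hβ
      rw [Subgroup.mem_centralizer_iff]
      intro x hx
      exact (hB₁c β hβ x hx).symm
    · refine hE₂Da.trans ?_
      rw [Subgroup.le_centralizer_iff, ← Subgroup.commutator_eq_bot_iff_le_centralizer]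
      exact component_commute hD hDac hne.symm
  · have hinj : Nat.card B₁ * Nat.card E₂ ≤ Nat.card ↥(B₁ ⊔ E₂) := by
      rw [← Nat.card_prod]
      refine Nat.card_le_card_of_injective
        (fun p : B₁ × E₂ => (⟨(p.1 : X) * p.2, Subgroup.mul_mem_sup p.1.2 p.2.2⟩ : ↥(B₁ ⊔ E₂))) ?_
      rintro ⟨x, y⟩ ⟨x', y'⟩ h
      have h1 : (x : X) * y = x' * y' := congrArg Subtype.val h
      have h2 : (x' : X)⁻¹ * x = y' * (y : X)⁻¹ := by
        calc (x' : X)⁻¹ * x = (x' : X)⁻¹ * ((x : X) * y) * (y : X)⁻¹ := by group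
          _ = (x' : X)⁻¹ * (x' * y') * (y : X)⁻¹ := by rw [h1]
          _ = y' * (y : X)⁻¹ := by group
      have h3 := hinter _ (B₁.mul_mem (B₁.inv_mem x'.2) x.2) (by
        rw [h2]
        exact E₂.mul_mem y'.2 (E₂.inv_mem y.2))
      have h4 : (x : X) = x' := by
        have h5 : (x : X) = x' * ((x' : X)⁻¹ * x) := by group
        rw [h5, h3, mul_one]
      have h6 : (y : X) = y' := by
        rw [h4] at h1
        exact mul_left_cancel h1
      have h7 : x = x' := Subtype.ext h4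
      have h8 : y = y' := Subtype.ext h6
      rw [h7, h8]
    have hpos : 0 < Nat.card B₁ := Nat.card_pos
    rw [hE₂card] at hinj
    nlinarith

end Lemma

section Main

variable {G : Type*} [Group G] [Finite G]

theorem isElementaryAbelian_iff' {Y : Type*} [Group Y] {A : Subgroup Y} :
    IsElementaryAbelian 2 A ↔ (∀ x ∈ A, ∀ y ∈ A, x * y = y * x) ∧ ∀ x ∈ A, x ^ 2 = 1 := by
  constructor
  · rintro ⟨h1, h2⟩
    refine ⟨fun x hx y hy => ?_, h2⟩
    have := h1.is_comm.comm (⟨x, hx⟩ : A) ⟨y, hy⟩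
    exact congrArg Subtype.val this
  · rintro ⟨h1, h2⟩
    refine ⟨⟨⟨?_⟩⟩, h2⟩
    rintro ⟨x, hx⟩ ⟨y, hy⟩
    exact Subtype.ext (h1 x hx y hy)

theorem isElementaryAbelian_subgroupOf {A H : Subgroup G} (h : IsElementaryAbelian 2 A) :
    IsElementaryAbelian 2 (A.subgroupOf H) := by
  rw [isElementaryAbelian_iff'] at h ⊢
  refine ⟨fun x hx y hy => Subtype.ext (h.1 _ hx _ hy), fun x hx => Subtype.ext (h.2 _ hx)⟩

theorem isElementaryAbelian_map_subtype {H : Subgroup G} {A : Subgroup H} (h : IsElementaryAbelian 2 A) :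
    IsElementaryAbelian 2 (A.map H.subtype) := by
  rw [isElementaryAbelian_iff'] at h ⊢
  refine ⟨?_, ?_⟩
  · rintro _ ⟨x, hx, rfl⟩ _ ⟨y, hy, rfl⟩
    exact congrArg Subtype.val (h.1 x hx y hy)
  · rintro _ ⟨x, hx, rfl⟩
    exact congrArg Subtype.val (h.2 x hx)

theorem centralizer_zpowers_eq {Y : Type*} [Group Y] (a : Y) :
    centralizer (zpowers a : Set Y) = centralizer ({a} : Set Y) := by
  ext x
  constructor
  · intro hx
    rw [Subgroup.mem_centralizer_singleton_iff]
    exact ((Subgroup.mem_centralizer_iff.1 hx) a (mem_zpowers a)).symm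
  · intro hx
    rw [Subgroup.mem_centralizer_iff]
    rintro _ ⟨k, rfl⟩
    have h1 : Commute x a := Subgroup.mem_centralizer_singleton_iff.1 hx
    exact (h1.zpow_right k).eq.symm

/-- The maximal component analysis. -/
theorem maximal_component (hO : oddCore G = ⊥) (hB : HasBProperty G) (a : G) (ha : orderOf a = 2) (K : Subgroup G)
    (hKa : K ≤ centralizer ({a} : Set G)) (hK : IsComponent (K.subgroupOf (centralizer ({a} : Set G))))
    (hmax : ∀ y : G, orderOf y = 2 → ∀ K' : Subgroup G, K' ≤ centralizer ({y} : Set G) →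
      IsComponent (K'.subgroupOf (centralizer ({y} : Set G))) → Nat.card ↥K' ≤ Nat.card ↥K ∧
        (Nat.card ↥K' = Nat.card ↥K → ∀ k : ℕ, PRankLE 2 k ↥(centralizer ({a} : Set G) ⊓ centralizer (K : Set G)) →
          PRankLE 2 k ↥(centralizer ({y} : Set G) ⊓ centralizer (K' : Set G))))
    (hrk : ¬ PRankLE 2 1 ↥K) (B : Subgroup G) (hBle : B ≤ centralizer ({a} : Set G) ⊓ centralizer (K : Set G))
    (hBel : IsElementaryAbelian 2 B)
    (hBmax : ∀ B' : Subgroup G, B' ≤ centralizer ({a} : Set G) ⊓ centralizer (K : Set G) → IsElementaryAbelian 2 B' →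
      Nat.card ↥B' ≤ Nat.card ↥B) (b : G) (hb : b ∈ B) (hb1 : b ≠ 1) :
    K ≤ centralizer ({b} : Set G) ∧ IsComponent (K.subgroupOf (centralizer ({b} : Set G))) := by
  classical
  haveI : Fact (Nat.Prime 2) := ⟨Nat.prime_two⟩
  set Ca := centralizer ({a} : Set G) with hCa
  set Cb := centralizer ({b} : Set G) with hCb
  have hKb : K ≤ Cb := by
    intro k hk
    rw [hCb, Subgroup.mem_centralizer_singleton_iff]
    exact (Subgroup.mem_centralizer_iff.1 (hBle hb).2) k hk
  refine ⟨hKb, ?_⟩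
  have hb2 : orderOf b = 2 := orderOf_eq_prime (hBel.2 b hb) hb1
  have ha1 : a ^ 2 = 1 := by rw [← ha, pow_orderOf_eq_one]
  have haa : a * a = 1 := by rw [← pow_two, ha1]
  -- `a ∈ B`
  have hBa : a ∈ B := by
    have hz : IsElementaryAbelian 2 (zpowers a) := by
      rw [isElementaryAbelian_iff']
      constructor
      · rintro _ ⟨k, rfl⟩ _ ⟨l, rfl⟩
        exact ((Commute.refl a).zpow_zpow k l).eq
      · rintro _ ⟨k, rfl⟩
        show (a ^ k) ^ 2 = 1
        rw [← zpow_natCast, ← zpow_mul, mul_comm, zpow_mul, zpow_natCast, ha1, one_zpow]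
    have hc : ∀ x ∈ B, ∀ y ∈ zpowers a, x * y = y * x := by
      rintro x hx _ ⟨k, rfl⟩
      have h1 : Commute x a := Subgroup.mem_centralizer_singleton_iff.1 (hBle hx).1
      exact (h1.zpow_right k).eq
    have h1 : B ⊔ zpowers a ≤ Ca ⊓ centralizer (K : Set G) := by
      refine sup_le hBle ?_
      rw [Subgroup.zpowers_le]
      refine mem_inf.2 ⟨Subgroup.mem_centralizer_singleton_iff.2 rfl, ?_⟩
      rw [Subgroup.mem_centralizer_iff]
      intro k hk
      exact Subgroup.mem_centralizer_singleton_iff.1 (hKa hk)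
    have h2 := hBmax _ h1 (isElementaryAbelian_sup hBel hz hc)
    have h3 := Subgroup.eq_of_le_of_card_ge (le_sup_left : B ≤ B ⊔ zpowers a) h2
    rw [h3]
    exact mem_sup_right (mem_zpowers a)
  -- an elementary subgroup of `K`
  obtain ⟨A₀, hA₀K, hA₀el, hA₀c⟩ : ∃ A₀ : Subgroup G, A₀ ≤ K ∧ IsElementaryAbelian 2 A₀ ∧ 2 < Nat.card A₀ := by
    unfold PRankLE at hrk
    push Not at hrk
    obtain ⟨A, h1, h2, h3⟩ := hrk
    refine ⟨A.map K.subtype, Subgroup.map_subtype_le _, isElementaryAbelian_map_subtype ⟨h1, h2⟩, ?_⟩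
    rw [Subgroup.card_map_of_injective K.subtype_injective]
    simpa using h3
  have hKq : IsQuasisimple K := qs_of_mulEquiv (Subgroup.subgroupOfEquivOfLe hKa) hK.2
  have hKeven : 2 ∣ Nat.card K := by
    have h1 : ∃ x ∈ A₀, x ≠ 1 := by
      by_contra hcon
      push Not at hcon
      have h2 : A₀ = ⊥ := (Subgroup.eq_bot_iff_forall _).2 hcon
      rw [h2, Subgroup.card_bot] at hA₀c
      omega
    obtain ⟨x, hx, hx1⟩ := h1
    have h2 : orderOf x = 2 := orderOf_eq_prime (hA₀el.2 x hx) hx1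
    have h3 : orderOf (⟨x, hA₀K hx⟩ : K) = 2 := by
      rw [Subgroup.orderOf_mk, h2]
    rw [← h3]
    exact orderOf_dvd_natCard _
  have hKP : IsPQ K := isPQ_of_qs_even hKq hKeven
  have hKc : IsPComponentOf 2 K Ca := isPComponentOf_iff.2 ⟨hKa, hK.1, hKP⟩
  have hKW : IsPComponentOf 2 K (Ca ⊓ Cb) := hKc.of_le (le_inf hKa hKb) inf_le_left
  -- passing to `X = C_b`
  have habc : a ∈ Cb := by
    rw [hCb, Subgroup.mem_centralizer_singleton_iff]
    exact (Subgroup.mem_centralizer_singleton_iff.1 (hBle hb).1).symm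
  set a' : ↥Cb := ⟨a, habc⟩ with ha'
  have ha'a' : a' * a' = 1 := Subtype.ext haa
  have hWC : (Ca ⊓ Cb).subgroupOf Cb = centralizer ({a'} : Set ↥Cb) := by
    ext z
    rw [Subgroup.mem_subgroupOf, Subgroup.mem_centralizer_singleton_iff]
    constructor
    · intro hz
      apply Subtype.ext
      exact Subgroup.mem_centralizer_singleton_iff.1 hz.1
    · intro hz
      refine mem_inf.2 ⟨Subgroup.mem_centralizer_singleton_iff.2 (congrArg Subtype.val hz), z.2⟩
  set K₁ := K.subgroupOf Cb with hK₁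
  have hK₃ : IsPComponentOf 2 K₁ (centralizer ({a'} : Set ↥Cb)) := by
    rw [← hWC]
    exact hKW.subgroupOf inf_le_right
  have hza : IsPGroup 2 (zpowers a') := by
    refine IsPGroup.of_card (n := 1) ?_
    rw [Nat.card_zpowers, pow_one]
    have : orderOf a' = orderOf a := by rw [ha', Subgroup.orderOf_mk]
    rw [this, ha]
  have hlb := lBalance hza
  rw [centralizer_zpowers_eq] at hlb
  have hK₁L : K₁ ≤ pLayer 2 ↥Cb := hK₃.le_pLayerOf.trans hlb
  -- the `B`-property
  have hB1 : ⁅pLayer 2 ↥Cb, pPrimeCore 2 ↥Cb⁆ = ⊥ := by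
    have h1 := hB b hb2
    change (⁅pLayer 2 ↥Cb, pPrimeCore 2 ↥Cb⁆).map Cb.subtype ≤ oddCore G at h1
    rw [hO, le_bot_iff, Subgroup.map_eq_bot_iff_of_injective _ (Subgroup.subtype_injective _)] at h1
    exact h1
  have hallC : ∀ J : Subgroup ↥Cb, IsPComponent 2 J → IsComponent J := by
    intro J hJ
    refine (pComp_isComponent_iff hJ).2 ?_
    rw [eq_bot_iff, ← hB1]
    exact Subgroup.commutator_mono (le_sSup hJ) le_rfl
  have hK₁E : K₁ ≤ layer ↥Cb := hK₁L.trans (sSup_le fun J hJ => component_le_layer (hallC J hJ))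
  have hK₁q : IsQuasisimple K₁ := qs_of_mulEquiv (Subgroup.subgroupOfEquivOfLe hKb).symm hKq
  have hK₁P : IsPQ K₁ := hKP.subgroupOf hKb
  obtain ⟨D, hD, hKD⟩ := exists_comp_of_centralizer_comp ha'a' hK₁q hK₁P.perfect hK₁P.ne_bot hK₃.le hK₃.subnormal hK₁E
  -- back in `G`
  set D₀ := D.map Cb.subtype with hD₀
  have hD₀le : D₀ ≤ Cb := Subgroup.map_subtype_le D
  have hD₀sub : D₀.subgroupOf Cb = D := by
    ext x
    simp [hD₀, mem_subgroupOf]
  have hD₀c : IsComponent (D₀.subgroupOf Cb) := by rw [hD₀sub]; exact hD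
  obtain ⟨hcard, hrank⟩ := hmax b hb2 D₀ hD₀le hD₀c
  have hcD : Nat.card D₀ = Nat.card D := Subgroup.card_map_of_injective Cb.subtype_injective
  have hcK : Nat.card K₁ = Nat.card K := Nat.card_congr (Subgroup.subgroupOfEquivOfLe hKb).toEquiv
  by_cases hne : D.map (MulAut.conj a').toMonoidHom = D
  · -- `a` normalizes `D`
    rw [hne, sup_idem] at hKD
    have h1 : K ≤ D₀ := by
      intro k hk
      have h2 : (⟨k, hKb hk⟩ : Cb) ∈ K₁ := by simpa [hK₁, mem_subgroupOf] using hk
      exact ⟨_, hKD h2, rfl⟩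
    have h2 : K = D₀ := Subgroup.eq_of_le_of_card_ge h1 hcard
    rw [hK₁, h2]
    exact hD₀c
  · exfalso
    have hB₁el : IsElementaryAbelian 2 (B.subgroupOf Cb) := isElementaryAbelian_subgroupOf hBel
    have hBCb : B ≤ Cb := by
      intro β hβ
      rw [hCb, Subgroup.mem_centralizer_singleton_iff]
      exact hBel.1.is_comm.comm (⟨β, hβ⟩ : B) ⟨b, hb⟩ |> congrArg Subtype.val
    have hA₁ : Nat.card (A₀.subgroupOf Cb) = Nat.card A₀ :=
      Nat.card_congr (Subgroup.subgroupOfEquivOfLe (hA₀K.trans hKb)).toEquiv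
    obtain ⟨hcKD, A₂, hA₂c, hA₂el, hA₂card⟩ := exists_large_elem ha'a' (K := K₁) (D := D)
      (B := B.subgroupOf Cb) (A := A₀.subgroupOf Cb) hD hne hKD hK₃.le hK₁P.perfect hK₁P.ne_bot
      (by rw [hcK, ← hcD]; exact hcard) hB₁el (by
        rw [mem_subgroupOf]
        exact hBa) (by
        rintro ⟨β, hβ⟩ hβ'
        rw [Subgroup.mem_centralizer_iff]
        rintro ⟨k, hk⟩ hk'
        apply Subtype.ext
        have hk2 : k ∈ K := by simpa [hK₁, mem_subgroupOf] using hk'
        have hβ2 : β ∈ B := by simpa [mem_subgroupOf] using hβ'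
        exact (Subgroup.mem_centralizer_iff.1 (hBle hβ2).2) k hk2) (by
        intro x hx
        rw [mem_subgroupOf] at hx ⊢
        exact hA₀K hx) (isElementaryAbelian_subgroupOf hA₀el) (by rw [hA₁]; exact hA₀c)
    have hBcard : Nat.card (B.subgroupOf Cb) = Nat.card B :=
      Nat.card_congr (Subgroup.subgroupOfEquivOfLe hBCb).toEquiv
    rw [hBcard] at hA₂card
    -- the rank of `C_a ∩ C(K)`
    have hpg : IsPGroup 2 B := by
      intro x
      refine ⟨1, ?_⟩
      apply Subtype.ext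
      simpa using hBel.2 x x.2
    obtain ⟨k, hk⟩ := IsPGroup.iff_card.1 hpg
    have hr1 : PRankLE 2 k ↥(Ca ⊓ centralizer (K : Set G)) := by
      intro A h1 h2
      have h3 := hBmax (A.map (Ca ⊓ centralizer (K : Set G)).subtype) (Subgroup.map_subtype_le _)
        (isElementaryAbelian_map_subtype ⟨h1, h2⟩)
      rw [Subgroup.card_map_of_injective (Subgroup.subtype_injective _), hk] at h3
      exact h3
    have hr2 := hrank (le_antisymm hcard (by rw [hcD, ← hcK]; exact hcKD)) k hr1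
    -- the large subgroup
    set A₃ := A₂.map Cb.subtype with hA₃
    have hA₃le : A₃ ≤ Cb ⊓ centralizer (D₀ : Set G) := by
      rintro _ ⟨x, hx, rfl⟩
      refine mem_inf.2 ⟨x.2, ?_⟩
      rw [Subgroup.mem_centralizer_iff]
      rintro _ ⟨d, hd, rfl⟩
      exact congrArg Subtype.val ((Subgroup.mem_centralizer_iff.1 (hA₂c hx)) d hd)
    have hA₃el : IsElementaryAbelian 2 A₃ := isElementaryAbelian_map_subtype hA₂el
    have hA₃card : Nat.card A₃ = Nat.card A₂ := Subgroup.card_map_of_injective Cb.subtype_injective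
    have h4 := hr2 (A₃.subgroupOf _) (isElementaryAbelian_subgroupOf hA₃el).1
      (isElementaryAbelian_subgroupOf hA₃el).2
    have h5 : Nat.card (A₃.subgroupOf (Cb ⊓ centralizer (D₀ : Set G))) = Nat.card A₃ :=
      Nat.card_congr (Subgroup.subgroupOfEquivOfLe hA₃le).toEquiv
    rw [h5, hA₃card, ← hk] at h4
    omega

end Main

end Cfsg.Agent.Lib.LBal
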