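import Mathlib
import Cfsg.Agent.Lib.Classical.Transvection
import Cfsg.Agent.Lib.FStar.Basic
import Cfsg.Agent.Lib.LBal.Maximal

/-!
# `SL` of a hyperplane inside `SL_n`: block matrices (owner: helper11).
-/

set_option autoImplicit false
set_option linter.unusedSectionVars false
set_option linter.unusedVariables false
set_option linter.style.haveILetI false

namespace Cfsg.Agent.Lib.LBal

open Cfsg Subgroup Matrix Cfsg.Agent.Lib.FStar Cfsg.Agent.Lib.Techniques

variable {ι F : Type*} [Fintype ι] [DecidableEq ι] [Field F] (o : ι)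

/-- The index set of the hyperplane. -/
abbrev SubIdx := {i : ι // i ≠ o}

/-- The block matrix `diag(B, 1)`. -/
def blockMat (B : Matrix (SubIdx o) (SubIdx o) F) : Matrix ι ι F :=
  fun i j => if hi : i = o then (if j = o then 1 else 0) else if hj : j = o then 0 else B ⟨i, hi⟩ ⟨j, hj⟩

theorem blockMat_val (B : Matrix (SubIdx o) (SubIdx o) F) (i j : SubIdx o) : blockMat o B i j = B i j := by
  simp [blockMat, i.2, j.2]

theorem blockMat_o_o (B : Matrix (SubIdx o) (SubIdx o) F) : blockMat o B o o = 1 := by
  simp [blockMat]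

theorem blockMat_o_left (B : Matrix (SubIdx o) (SubIdx o) F) {j : ι} (hj : j ≠ o) : blockMat o B o j = 0 := by
  simp [blockMat, hj]

theorem blockMat_o_right (B : Matrix (SubIdx o) (SubIdx o) F) {i : ι} (hi : i ≠ o) : blockMat o B i o = 0 := by
  simp [blockMat, hi]

theorem blockMat_mul (B C : Matrix (SubIdx o) (SubIdx o) F) :
    blockMat o B * blockMat o C = blockMat o (B * C) := by
  ext i j
  rw [Matrix.mul_apply, Fintype.sum_eq_add_sum_subtype_ne _ o]
  by_cases hi : i = o
  · subst hi
    have h1 : ∀ k : SubIdx i, blockMat i B i k * blockMat i C k j = 0 := by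
      intro k
      rw [blockMat_o_left i B k.2, zero_mul]
    simp only [h1, Finset.sum_const_zero, add_zero, blockMat_o_o, one_mul]
    by_cases hj : j = i
    · subst hj
      rw [blockMat_o_o, blockMat_o_o]
    · rw [blockMat_o_left i C hj, blockMat_o_left i _ hj]
  · by_cases hj : j = o
    · subst hj
      have h1 : ∀ k : SubIdx j, blockMat j B i k * blockMat j C k j = 0 := by
        intro k
        rw [blockMat_o_right j C k.2, mul_zero]
      simp only [h1, Finset.sum_const_zero, add_zero]
      rw [blockMat_o_right j B hi, zero_mul, blockMat_o_right j _ hi]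
    · have h1 : ∀ k : SubIdx o, blockMat o B i k * blockMat o C k j = B ⟨i, hi⟩ k * C k ⟨j, hj⟩ := by
        intro k
        simp [blockMat, hi, hj, k.2]
      simp only [h1]
      simp [blockMat, hi, hj, Matrix.mul_apply]

theorem blockMat_one : blockMat o (1 : Matrix (SubIdx o) (SubIdx o) F) = 1 := by
  ext i j
  by_cases hi : i = o
  · subst hi
    by_cases hj : j = i
    · subst hj
      simp [blockMat]
    · simp [blockMat, hj, Matrix.one_apply, Ne.symm hj]
  · by_cases hj : j = o
    · subst hj
      simp [blockMat, hi, Matrix.one_apply]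
    · simp [blockMat, hi, hj, Matrix.one_apply, Subtype.ext_iff]

theorem det_blockMat (B : Matrix (SubIdx o) (SubIdx o) F) : (blockMat o B).det = B.det := by
  rw [Matrix.twoBlockTriangular_det _ (fun i => i ≠ o)]
  · have h1 : toSquareBlockProp (blockMat o B) (fun i => i ≠ o) = B := by
      ext i j
      exact blockMat_val o B i j
    rw [h1]
    haveI : Unique {i : ι // ¬ i ≠ o} := ⟨⟨⟨o, by simp⟩⟩, fun x => Subtype.ext (by simpa using x.2)⟩
    have h3 : (toSquareBlockProp (blockMat o B) fun i => ¬ i ≠ o).det = 1 := by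
      rw [Matrix.det_unique]
      have h2 : ((default : {i : ι // ¬ i ≠ o}) : ι) = o := by
        simpa using (default : {i : ι // ¬ i ≠ o}).2
      show blockMat o B ((default : {i : ι // ¬ i ≠ o}) : ι) ((default : {i : ι // ¬ i ≠ o}) : ι) = 1
      rw [h2, blockMat_o_o]
    rw [h3, mul_one]
  · intro i hi j hj
    have hi' : i = o := by simpa using hi
    rw [hi']
    exact blockMat_o_left o B hj

/-- The embedding `SL(W) → SL(V)`. -/
def slEmbed : SpecialLinearGroup (SubIdx o) F →* SpecialLinearGroup ι F where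
  toFun B := ⟨blockMat o B, by rw [det_blockMat]; exact B.2⟩
  map_one' := by
    apply Subtype.ext
    exact blockMat_one o
  map_mul' B C := by
    apply Subtype.ext
    exact (blockMat_mul o _ _).symm

theorem slEmbed_coe (B : SpecialLinearGroup (SubIdx o) F) : (slEmbed o B : Matrix ι ι F) = blockMat o B := rfl

theorem slEmbed_injective (o : ι) : Function.Injective (slEmbed (F := F) o) := by
  intro B C h
  apply Subtype.ext
  ext i j
  have h1 := congrArg (fun x : SpecialLinearGroup ι F => (x : Matrix ι ι F) i j) h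
  simpa [slEmbed_coe, blockMat_val] using h1

/-- Block matrices are in the image. -/
theorem mem_range_slEmbed {g : SpecialLinearGroup ι F} (h1 : ∀ i, i ≠ o → (g : Matrix ι ι F) i o = 0)
    (h2 : ∀ j, j ≠ o → (g : Matrix ι ι F) o j = 0) (h3 : (g : Matrix ι ι F) o o = 1) :
    g ∈ (slEmbed (F := F) o).range := by
  set B : Matrix (SubIdx o) (SubIdx o) F := fun i j => (g : Matrix ι ι F) i j with hB
  have e : (g : Matrix ι ι F) = blockMat o B := by
    ext i j
    by_cases hi : i = o
    · rw [hi]
      by_cases hj : j = o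
      · rw [hj, h3, blockMat_o_o]
      · rw [h2 j hj, blockMat_o_left o B hj]
    · by_cases hj : j = o
      · rw [hj, h1 i hi, blockMat_o_right o B hi]
      · exact (blockMat_val o B ⟨i, hi⟩ ⟨j, hj⟩).symm
  have hd : B.det = 1 := by
    rw [← det_blockMat o, ← e]
    exact g.2
  exact ⟨⟨B, hd⟩, Subtype.ext e.symm⟩

theorem isQuasisimple_SL {κ : Type*} [Fintype κ] [DecidableEq κ] (hκ : 3 ≤ Fintype.card κ) :
    IsQuasisimple (SpecialLinearGroup κ F) :=
  ⟨⟨Cfsg.Agent.Lib.Classical.commutator_SL_eq_top hκ⟩, Cfsg.Agent.Lib.Classical.PSL_isSimple hκ⟩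

theorem qs_commutator_self {G : Type*} [Group G] {K : Subgroup G} (hq : IsQuasisimple K) : ⁅K, K⁆ = K := by
  have h1 : commutator K = ⊤ := hq.1.commutator_eq_top
  have h2 : (commutator K).map K.subtype = K := by
    rw [h1, ← MonoidHom.range_eq_map, Subgroup.range_subtype]
  rw [← h2]
  conv_lhs => rw [h2]
  rw [← Subgroup.map_subtype_commutator]

section Std

variable [Fintype F]

/-- Matrices commuting with `t` preserve the eigenspaces. -/
theorem comm_block {t : SpecialLinearGroup ι F} (h2 : (2 : F) ≠ 0)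
    (ht : (t : Matrix ι ι F) = diagonal (fun i => if i = o then 1 else -1)) {g : SpecialLinearGroup ι F}
    (hg : g ∈ centralizer ({t} : Set (SpecialLinearGroup ι F))) :
    (∀ i, i ≠ o → (g : Matrix ι ι F) i o = 0) ∧ (∀ j, j ≠ o → (g : Matrix ι ι F) o j = 0) := by
  have h1 : g * t = t * g := Subgroup.mem_centralizer_singleton_iff.1 hg
  have h3 : (g : Matrix ι ι F) * t = t * g := congrArg Subtype.val h1
  rw [ht] at h3
  constructor
  · intro i hi
    have h4 := congrFun (congrFun h3 i) o
    rw [Matrix.mul_diagonal, Matrix.diagonal_mul] at h4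
    simp only [if_true, hi, if_false, mul_one] at h4
    have h5 : 2 * (g : Matrix ι ι F) i o = 0 := by linear_combination h4
    exact (mul_eq_zero.1 h5).resolve_left h2
  · intro j hj
    have h4 := congrFun (congrFun h3 o) j
    rw [Matrix.mul_diagonal, Matrix.diagonal_mul] at h4
    simp only [if_true, hj, if_false, one_mul] at h4
    have h5 : 2 * (g : Matrix ι ι F) o j = 0 := by linear_combination -h4
    exact (mul_eq_zero.1 h5).resolve_left h2

/-- The `(o,o)` entry is multiplicative on block matrices. -/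
theorem mul_o_o {g h : SpecialLinearGroup ι F} (hh : ∀ k, k ≠ o → (h : Matrix ι ι F) k o = 0) :
    ((g * h : SpecialLinearGroup ι F) : Matrix ι ι F) o o = (g : Matrix ι ι F) o o * (h : Matrix ι ι F) o o := by
  change ((g : Matrix ι ι F) * (h : Matrix ι ι F)) o o = _
  rw [Matrix.mul_apply]
  rw [Finset.sum_eq_single o]
  · intro k _ hk
    rw [hh k hk, mul_zero]
  · simp

/-- `slEmbed` lands in the centralizer of `t`. -/
theorem slEmbed_mem_centralizer {t : SpecialLinearGroup ι F}
    (ht : (t : Matrix ι ι F) = diagonal (fun i => if i = o then 1 else -1)) (B : SpecialLinearGroup (SubIdx o) F) :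
    slEmbed o B ∈ centralizer ({t} : Set (SpecialLinearGroup ι F)) := by
  rw [Subgroup.mem_centralizer_singleton_iff]
  apply Subtype.ext
  change (blockMat o B : Matrix ι ι F) * (t : Matrix ι ι F) = (t : Matrix ι ι F) * (blockMat o B)
  rw [ht]
  ext i j
  rw [Matrix.mul_diagonal, Matrix.diagonal_mul]
  by_cases hi : i = o
  · rw [hi]
    by_cases hj : j = o
    · rw [hj]; simp
    · rw [blockMat_o_left o _ hj]; simp
  · by_cases hj : j = o
    · rw [hj, blockMat_o_right o _ hi]; simp
    · simp [hi, hj]

/-- The matrix of an embedded transvection. -/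
theorem slEmbed_transvection {i j : SubIdx o} (hij : i ≠ j) (c : F) :
    ((slEmbed o (SpecialLinearGroup.transvection hij c) : SpecialLinearGroup ι F) : Matrix ι ι F) =
      1 + Matrix.single (i : ι) (j : ι) c := by
  rw [slEmbed_coe, SpecialLinearGroup.transvection_coe]
  ext k l
  by_cases hk : k = o
  · rw [hk]
    by_cases hl : l = o
    · rw [hl, blockMat_o_o]
      simp [Matrix.single_apply, i.2]
    · rw [blockMat_o_left o _ hl]
      simp [Matrix.single_apply, i.2, Ne.symm hl]
  · by_cases hl : l = o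
    · rw [hl, blockMat_o_right o _ hk]
      simp [Matrix.single_apply, j.2, hk]
    · rw [blockMat_val o _ ⟨k, hk⟩ ⟨l, hl⟩]
      simp [Matrix.one_apply, Matrix.single_apply, Subtype.ext_iff]

/-- The centralizer of the block `SL` consists of diagonal matrices. -/
theorem centralizer_diag (hc : 2 ≤ Fintype.card (SubIdx o)) {z : SpecialLinearGroup ι F}
    (hz : z ∈ centralizer (((slEmbed (F := F) o).range : Subgroup _) : Set (SpecialLinearGroup ι F))) :
    (∀ k l, k ≠ l → (z : Matrix ι ι F) k l = 0) ∧ ∀ i j : SubIdx o, (z : Matrix ι ι F) i i = (z : Matrix ι ι F) j j := by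
  have hE : ∀ i j : SubIdx o, i ≠ j → (z : Matrix ι ι F) * Matrix.single (i : ι) (j : ι) 1 =
      Matrix.single (i : ι) (j : ι) 1 * (z : Matrix ι ι F) := by
    intro i j hij
    have h1 := (Subgroup.mem_centralizer_iff.1 hz) _ ⟨SpecialLinearGroup.transvection hij (1 : F), rfl⟩
    have h2 : ((slEmbed o (SpecialLinearGroup.transvection hij (1 : F)) : SpecialLinearGroup ι F) : Matrix ι ι F) * (z : Matrix ι ι F) =
        (z : Matrix ι ι F) * ((slEmbed o (SpecialLinearGroup.transvection hij (1 : F)) : SpecialLinearGroup ι F) : Matrix ι ι F) :=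
      congrArg Subtype.val h1
    rw [slEmbed_transvection, mul_add, add_mul, mul_one, one_mul] at h2
    exact (add_left_cancel h2).symm
  have hne : ∀ a : SubIdx o, ∃ b : SubIdx o, b ≠ a := by
    intro a
    haveI : Nontrivial (SubIdx o) := Fintype.one_lt_card_iff_nontrivial.1 (by omega)
    exact exists_ne a
  have h1 : ∀ (a : ι) (i : SubIdx o), a ≠ i → (z : Matrix ι ι F) a i = 0 := by
    intro a i ha
    obtain ⟨j, hj⟩ := hne i
    have h := congrFun (congrFun (hE i j hj.symm) a) j
    rw [Matrix.mul_single_apply_same, Matrix.single_mul_apply_of_ne _ _ _ _ _ ha] at h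
    simpa using h
  have h2 : ∀ (j : SubIdx o) (b : ι), b ≠ j → (z : Matrix ι ι F) j b = 0 := by
    intro j b hb
    obtain ⟨i, hi⟩ := hne j
    have h := congrFun (congrFun (hE i j hi) i) b
    rw [Matrix.mul_single_apply_of_ne _ _ _ _ _ hb, Matrix.single_mul_apply_same] at h
    simpa using h.symm
  refine ⟨?_, ?_⟩
  · intro k l hkl
    by_cases hl : l = o
    · have hk : k ≠ o := by rw [← hl]; exact hkl
      exact h2 ⟨k, hk⟩ l (Ne.symm hkl)
    · exact h1 k ⟨l, hl⟩ hkl
  · intro i j
    by_cases hij : i = j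
    · rw [hij]
    · have h := congrFun (congrFun (hE i j hij) i) j
      rw [Matrix.mul_single_apply_same, Matrix.single_mul_apply_same] at h
      simpa using h

/-- The unique involution of the centralizer of the block `SL`. -/
theorem centralizer_involution (hc : 2 ≤ Fintype.card (SubIdx o)) (heven : Even (Fintype.card (SubIdx o)))
    {t : SpecialLinearGroup ι F} (ht : (t : Matrix ι ι F) = diagonal (fun i => if i = o then 1 else -1))
    {z : SpecialLinearGroup ι F}
    (hz : z ∈ centralizer (((slEmbed (F := F) o).range : Subgroup _) : Set (SpecialLinearGroup ι F)))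
    (hz2 : z ^ 2 = 1) (hz1 : z ≠ 1) : z = t := by
  obtain ⟨h1, h2⟩ := centralizer_diag o hc hz
  have hdiag : (z : Matrix ι ι F) = diagonal (fun i => (z : Matrix ι ι F) i i) := by
    ext k l
    by_cases hkl : k = l
    · rw [hkl]; simp
    · rw [h1 k l hkl]; simp [hkl]
  have hsq : ∀ i, (z : Matrix ι ι F) i i * (z : Matrix ι ι F) i i = 1 := by
    intro i
    have h3 : ((z * z : SpecialLinearGroup ι F) : Matrix ι ι F) i i = 1 := by
      rw [← pow_two, hz2]; simp
    change ((z : Matrix ι ι F) * (z : Matrix ι ι F)) i i = 1 at h3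
    rw [hdiag] at h3
    rw [Matrix.diagonal_mul_diagonal] at h3
    simpa using h3
  haveI : Nonempty (SubIdx o) := Fintype.card_pos_iff.1 (by omega)
  obtain ⟨i₀⟩ := ‹Nonempty (SubIdx o)›
  set lam := (z : Matrix ι ι F) i₀ i₀ with hlam
  set mu := (z : Matrix ι ι F) o o with hmu
  have hd : ∀ i : SubIdx o, (z : Matrix ι ι F) i i = lam := fun i => h2 i i₀
  have hdet : mu * lam ^ Fintype.card (SubIdx o) = 1 := by
    have h3 : (z : Matrix ι ι F).det = 1 := z.2
    rw [hdiag, Matrix.det_diagonal, Fintype.prod_eq_mul_prod_subtype_ne _ o] at h3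
    simp only [hd, Finset.prod_const, Finset.card_univ] at h3
    exact h3
  have hlam2 : lam * lam = 1 := hsq i₀
  have hlamc : lam ^ Fintype.card (SubIdx o) = 1 := by
    obtain ⟨m, hm⟩ := heven
    rw [hm, ← two_mul, pow_mul, pow_two, hlam2, one_pow]
  have hmu1 : mu = 1 := by
    rw [hlamc, mul_one] at hdet
    exact hdet
  rcases mul_self_eq_one_iff.1 hlam2 with hl | hl
  · exfalso
    apply hz1
    apply Subtype.ext
    rw [hdiag]
    have : (fun i => (z : Matrix ι ι F) i i) = fun _ => (1 : F) := by
      funext i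
      by_cases hi : i = o
      · rw [hi]; exact hmu1
      · exact (hd ⟨i, hi⟩).trans hl
    rw [this]
    simp
  · apply Subtype.ext
    rw [hdiag, ht]
    congr 1
    funext i
    by_cases hi : i = o
    · rw [hi]; simp [← hmu, hmu1]
    · simp only [hi, if_false]
      exact (hd ⟨i, hi⟩).trans hl

/-- The centralizer of the block `SL` is abelian. -/
theorem centralizer_comm (hc : 2 ≤ Fintype.card (SubIdx o)) {z z' : SpecialLinearGroup ι F}
    (hz : z ∈ centralizer (((slEmbed (F := F) o).range : Subgroup _) : Set (SpecialLinearGroup ι F)))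
    (hz' : z' ∈ centralizer (((slEmbed (F := F) o).range : Subgroup _) : Set (SpecialLinearGroup ι F))) :
    z * z' = z' * z := by
  obtain ⟨h1, -⟩ := centralizer_diag o hc hz
  obtain ⟨h1', -⟩ := centralizer_diag o hc hz'
  have hdiag : (z : Matrix ι ι F) = diagonal (fun i => (z : Matrix ι ι F) i i) := by
    ext k l
    by_cases hkl : k = l
    · rw [hkl]; simp
    · rw [h1 k l hkl]; simp [hkl]
  have hdiag' : (z' : Matrix ι ι F) = diagonal (fun i => (z' : Matrix ι ι F) i i) := by
    ext k l
    by_cases hkl : k = l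
    · rw [hkl]; simp
    · rw [h1' k l hkl]; simp [hkl]
  apply Subtype.ext
  change (z : Matrix ι ι F) * (z' : Matrix ι ι F) = (z' : Matrix ι ι F) * (z : Matrix ι ι F)
  rw [hdiag, hdiag', Matrix.diagonal_mul_diagonal, Matrix.diagonal_mul_diagonal]
  congr 1
  funext i
  simp [mul_comm]

/-- **`SL` of a hyperplane is standard in `SL_n`** -/
theorem standard_layer (h2 : (2 : F) ≠ 0) (hc : 3 ≤ Fintype.card (SubIdx o)) (heven : Even (Fintype.card (SubIdx o)))
    {t : SpecialLinearGroup ι F} (ht : (t : Matrix ι ι F) = diagonal (fun i => if i = o then 1 else -1)) :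
    IsStandardSubgroup ((layer ↥(centralizer ({t} : Set (SpecialLinearGroup ι F)))).map
      (centralizer ({t} : Set (SpecialLinearGroup ι F))).subtype) := by
  classical
  haveI : Fact (Nat.Prime 2) := ⟨Nat.prime_two⟩
  set Y := centralizer ({t} : Set (SpecialLinearGroup ι F)) with hY
  -- the character
  let φ₀ : Y →* F :=
    { toFun := fun g => ((g : SpecialLinearGroup ι F) : Matrix ι ι F) o o
      map_one' := by simp
      map_mul' := by
        intro g h
        exact mul_o_o o (comm_block o h2 ht h.2).1 }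
  let φ : Y →* Fˣ := φ₀.toHomUnits
  have hφ : ∀ g : Y, ((φ g : Fˣ) : F) = ((g : SpecialLinearGroup ι F) : Matrix ι ι F) o o := fun _ => rfl
  set A' := φ.ker with hA'
  have hA'mem : ∀ g : Y, g ∈ A' ↔ ((g : SpecialLinearGroup ι F) : Matrix ι ι F) o o = 1 := by
    intro g
    rw [hA', MonoidHom.mem_ker, ← hφ, Units.val_eq_one]
  set A := (slEmbed (F := F) o).range with hA
  have hAY : A ≤ Y := by
    rintro _ ⟨B, rfl⟩
    exact slEmbed_mem_centralizer o ht B
  have hA'A : A'.map Y.subtype = A := by
    ext g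
    constructor
    · rintro ⟨y, hy, rfl⟩
      obtain ⟨h3, h4⟩ := comm_block o h2 ht y.2
      exact mem_range_slEmbed o h3 h4 ((hA'mem y).1 hy)
    · intro hg
      refine ⟨⟨g, hAY hg⟩, (hA'mem _).2 ?_, rfl⟩
      obtain ⟨B, rfl⟩ := hg
      exact blockMat_o_o o (B : Matrix _ _ F)
  have hAq : IsQuasisimple A := qs_of_mulEquiv (MonoidHom.ofInjective (slEmbed_injective o)) (isQuasisimple_SL hc)
  have hA'q : IsQuasisimple A' := by
    refine qs_of_mulEquiv (A'.equivMapOfInjective Y.subtype Y.subtype_injective).symm ?_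
    rw [hA'A]
    exact hAq
  have hA'c : IsComponent A' := ⟨(inferInstance : A'.Normal).isSubnormal, hA'q⟩
  have hlayer : layer ↥Y = A' := by
    refine le_antisymm (sSup_le fun K hK => ?_) (le_sSup hA'c)
    rw [← qs_commutator_self hK.2, Subgroup.commutator_le]
    intro a _ b _
    rw [hA', MonoidHom.mem_ker, map_commutatorElement, commutatorElement_def, mul_comm (φ a), mul_inv_cancel_right,
      mul_inv_cancel]
  rw [hlayer, hA'A]
  -- properties
  have hAP : ⁅A, A⁆ = A := qs_commutator_self hAq
  have hAne : A ≠ ⊥ := by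
    intro h
    rw [h] at hAq
    have := qs_nontrivial hAq
    exact not_subsingleton (⊥ : Subgroup (SpecialLinearGroup ι F)) inferInstance
  set X₀ := centralizer (A : Set (SpecialLinearGroup ι F)) with hX₀
  have htX₀ : t ∈ X₀ := by
    rw [hX₀, Subgroup.mem_centralizer_iff]
    intro a ha
    exact Subgroup.mem_centralizer_singleton_iff.1 (hAY ha)
  have hYN : Y ≤ normalizer (A : Set (SpecialLinearGroup ι F)) := by
    intro y hy
    apply mem_normalizer_of_conj_le
    intro a ha
    rw [← hA'A] at ha ⊢
    obtain ⟨a', ha', rfl⟩ := ha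
    have hA'n : A'.Normal := φ.normal_ker
    set y' : Y := ⟨y, hy⟩ with hy'
    refine ⟨y' * a' * y'⁻¹, hA'n.conj_mem a' ha' y', ?_⟩
    simp only [map_mul, map_inv, Subgroup.subtype_apply]
    rfl
  have hNN : normalizer (A : Set (SpecialLinearGroup ι F)) ≤ normalizer (X₀ : Set (SpecialLinearGroup ι F)) :=
    normalizer_le_normalizer_centralizer' A
  have ht2 : t ^ 2 = 1 := by
    rw [pow_two]
    apply Subtype.ext
    change (t : Matrix ι ι F) * (t : Matrix ι ι F) = 1
    rw [ht, Matrix.diagonal_mul_diagonal, ← Matrix.diagonal_one]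
    congr 1
    funext i
    by_cases hi : i = o <;> simp [hi]
  have ht1 : t ≠ 1 := by
    intro h
    have hne : Nonempty (SubIdx o) := Fintype.card_pos_iff.1 (by omega)
    obtain ⟨i⟩ := hne
    have h3 : (t : Matrix ι ι F) i i = 1 := by rw [h]; simp
    rw [ht, Matrix.diagonal_apply_eq, if_neg i.2] at h3
    apply h2
    linear_combination -h3
  have hto : orderOf t = 2 := orderOf_eq_prime ht2 ht1
  have hcomX : ∀ a b, a ∈ X₀ → b ∈ X₀ → a * b = b * a := fun a b ha hb =>
    centralizer_comm o (by omega) ha hb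
  have hconj : ∀ g : SpecialLinearGroup ι F, g * t * g⁻¹ ∈ X₀ → g ∈ Y := by
    intro g hg
    have h3 : (g * t * g⁻¹) ^ 2 = 1 := by rw [conj_pow, ht2]; group
    have h4 : g * t * g⁻¹ ≠ 1 := by
      intro h
      apply ht1
      have e : t = g⁻¹ * (g * t * g⁻¹) * g := by group
      rw [e, h]
      group
    have h5 := centralizer_involution o (by omega) heven ht hg h3 h4
    rw [hY, Subgroup.mem_centralizer_singleton_iff]
    calc g * t = (g * t * g⁻¹) * g := by group
      _ = t * g := by rw [h5]
  refine ⟨hAq, ⟨?_, ?_⟩, ?_, ?_⟩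
  · have h3 : orderOf (⟨t, htX₀⟩ : X₀) = 2 := by
      rw [Subgroup.orderOf_mk, hto]
    have h4 := orderOf_dvd_natCard (⟨t, htX₀⟩ : X₀)
    rw [h3] at h4
    exact even_iff_two_dvd.2 h4
  · intro g hg
    by_contra hcon
    rw [Nat.not_odd_iff_even, even_iff_two_dvd] at hcon
    obtain ⟨z, hz⟩ := exists_prime_orderOf_dvd_card' (G := ↥(X₀ ⊓ X₀.map (MulAut.conj g).toMonoidHom)) 2 hcon
    have hz' : orderOf (z : SpecialLinearGroup ι F) = 2 := by rwa [Subgroup.orderOf_coe]
    obtain ⟨hz1, c, hc', hcz⟩ := z.2
    have hz2 : ((z : SpecialLinearGroup ι F)) ^ 2 = 1 := by rw [← hz', pow_orderOf_eq_one]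
    have hzne : (z : SpecialLinearGroup ι F) ≠ 1 := by
      intro h
      rw [h, orderOf_one] at hz'
      omega
    have h5 := centralizer_involution o (by omega) heven ht hz1 hz2 hzne
    have hcz' : g * c * g⁻¹ = t := hcz.trans h5
    -- `c` is an involution
    have h6 : c ^ 2 = 1 := by
      have h7 : g * c ^ 2 * g⁻¹ = 1 := by rw [← conj_pow, hcz', ht2]
      have e : c ^ 2 = g⁻¹ * (g * c ^ 2 * g⁻¹) * g := by group
      rw [e, h7]
      group
    have h8 : c ≠ 1 := by
      intro h
      rw [h] at hcz'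
      apply ht1
      rw [← hcz']
      group
    have h9 := centralizer_involution o (by omega) heven ht hc' h6 h8
    rw [h9] at hcz'
    apply hg
    apply hNN
    apply hYN
    rw [hY, Subgroup.mem_centralizer_singleton_iff]
    calc g * t = (g * t * g⁻¹) * g := by group
      _ = t * g := by rw [hcz']
  · intro g _ hbot
    have h3 : A.map (MulAut.conj g).toMonoidHom ≤ X₀ := by
      rw [hX₀, ← Subgroup.commutator_eq_bot_iff_le_centralizer, Subgroup.commutator_comm]
      exact hbot
    have h4 : ⁅A.map (MulAut.conj g).toMonoidHom, A.map (MulAut.conj g).toMonoidHom⁆ = ⊥ := by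
      rw [eq_bot_iff, Subgroup.commutator_le]
      intro a ha b hb
      rw [commutatorElement_def, hcomX a b (h3 ha) (h3 hb), Subgroup.mem_bot]
      group
    rw [← Subgroup.map_commutator, hAP] at h4
    rw [Subgroup.map_eq_bot_iff_of_injective _ (MulEquiv.injective _)] at h4
    exact hAne h4
  · refine le_antisymm hNN ?_
    intro g hg
    apply hYN
    apply hconj
    exact (mem_normalizer_iff.1 hg t).1 htX₀

end Std

end Cfsg.Agent.Lib.LBal
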