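import Mathlib
import Cfsg.Agent.Lib.LBal.Maximal
import Cfsg.Agent.Lib.Hall.Generation

/-!
# Standard subgroups (owner: helper11).
-/

set_option autoImplicit false
set_option linter.unusedSectionVars false
set_option linter.unusedVariables false
set_option linter.style.haveILetI false

namespace Cfsg.Agent.Lib.LBal

open Cfsg Subgroup Cfsg.Agent.Lib.FStar Cfsg.Agent.Lib.Core Cfsg.Agent.Lib.Cl Cfsg.Agent.Lib.Techniques

variable {X : Type*} [Group X] [Finite X]

/-- The centralizer of an involution of `C(P)` normalizes the standard subgroup `P`. -/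
theorem centralizer_le_normalizer_of_standard {P : Subgroup X} (hP : IsStandardSubgroup P) {t : X}
    (ht : orderOf t = 2) (htP : t ∈ centralizer (P : Set X)) :
    centralizer ({t} : Set X) ≤ normalizer (P : Set X) := by
  intro x hx
  rw [hP.2.2.2]
  by_contra h
  have h1 := hP.2.1.2 x h
  have hxt : x * t * x⁻¹ = t := by
    have : x * t = t * x := Subgroup.mem_centralizer_singleton_iff.1 hx
    rw [this]
    group
  have h2 : t ∈ centralizer (P : Set X) ⊓ (centralizer (P : Set X)).map (MulAut.conj x).toMonoidHom :=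
    mem_inf.2 ⟨htP, ⟨t, htP, hxt⟩⟩
  have h3 : orderOf (⟨t, h2⟩ : ↥(centralizer (P : Set X) ⊓ (centralizer (P : Set X)).map (MulAut.conj x).toMonoidHom)) = 2 := by
    rw [Subgroup.orderOf_mk, ht]
  have h4 := orderOf_dvd_natCard (⟨t, h2⟩ : ↥(centralizer (P : Set X) ⊓ (centralizer (P : Set X)).map (MulAut.conj x).toMonoidHom))
  rw [h3] at h4
  exact (Nat.not_even_iff_odd.2 h1) (even_iff_two_dvd.2 h4)

/-- In a subgroup of `2`-rank at most one, commuting involutions coincide. -/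
theorem eq_of_commute_invol {C : Subgroup X} (hr : PRankLE 2 1 ↥C) {z r : X} (hz : z ∈ C) (hr' : r ∈ C)
    (hc : z * r = r * z) (hz2 : z ^ 2 = 1) (hr2 : r ^ 2 = 1) (hz1 : z ≠ 1) : r = 1 ∨ r = z := by
  classical
  haveI : Fact (Nat.Prime 2) := ⟨Nat.prime_two⟩
  have hzo : orderOf z = 2 := orderOf_eq_prime hz2 hz1
  have hzel : ∀ {a : X}, a ^ 2 = 1 → IsElementaryAbelian 2 (zpowers a) := by
    intro a ha
    rw [isElementaryAbelian_iff']
    constructor
    · rintro _ ⟨k, rfl⟩ _ ⟨l, rfl⟩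
      exact ((Commute.refl a).zpow_zpow k l).eq
    · rintro _ ⟨k, rfl⟩
      show (a ^ k) ^ 2 = 1
      rw [← zpow_natCast, ← zpow_mul, mul_comm, zpow_mul, zpow_natCast, ha, one_zpow]
  have hel : IsElementaryAbelian 2 (zpowers z ⊔ zpowers r) := by
    refine isElementaryAbelian_sup (hzel hz2) (hzel hr2) ?_
    rintro _ ⟨k, rfl⟩ _ ⟨l, rfl⟩
    exact (Commute.zpow_zpow (show Commute z r from hc) k l).eq
  have hle : zpowers z ⊔ zpowers r ≤ C := sup_le (by simpa using hz) (by simpa using hr')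
  have h1 := hr _ (isElementaryAbelian_subgroupOf (H := C) hel).1 (isElementaryAbelian_subgroupOf (H := C) hel).2
  have h2 : Nat.card ((zpowers z ⊔ zpowers r).subgroupOf C) = Nat.card ↥(zpowers z ⊔ zpowers r) :=
    Nat.card_congr (Subgroup.subgroupOfEquivOfLe hle).toEquiv
  rw [h2, pow_one] at h1
  have h3 : Nat.card (zpowers z) = 2 := by rw [Nat.card_zpowers, hzo]
  have h4 : zpowers z = zpowers z ⊔ zpowers r := Subgroup.eq_of_le_of_card_ge le_sup_left (by rw [h3]; exact h1)
  have h5 : r ∈ zpowers z := by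
    rw [h4]
    exact mem_sup_right (mem_zpowers r)
  rw [Subgroup.mem_zpowers_iff] at h5
  obtain ⟨k, rfl⟩ := h5
  rcases Int.even_or_odd k with ⟨m, hm⟩ | ⟨m, hm⟩
  · left
    rw [hm, ← two_mul, zpow_mul, zpow_ofNat, hz2, one_zpow]
  · right
    rw [hm, zpow_add, zpow_mul, zpow_ofNat, hz2, one_zpow, one_mul, zpow_one]

/-- A `2`-group of `2`-rank at most one has at most one involution. -/
theorem unique_involution_of_rank_one {C T : Subgroup X} (hr : PRankLE 2 1 ↥C) (hTC : T ≤ C) (hT : IsPGroup 2 T)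
    {a b : X} (ha : a ∈ T) (hb : b ∈ T) (ha2 : a ^ 2 = 1) (hb2 : b ^ 2 = 1) (ha1 : a ≠ 1) (hb1 : b ≠ 1) : a = b := by
  classical
  haveI : Fact (Nat.Prime 2) := ⟨Nat.prime_two⟩
  haveI : Nontrivial T := ⟨⟨⟨a, ha⟩, 1, fun h => ha1 (congrArg Subtype.val h)⟩⟩
  haveI := hT.center_nontrivial
  have h2c : 2 ∣ Nat.card (center T) := by
    have hp : IsPGroup 2 (center T) := IsPGroup.to_subgroup hT _
    obtain ⟨k, hk⟩ := IsPGroup.iff_card.1 hp
    have hk0 : k ≠ 0 := by
      rintro rfl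
      have : Nat.card (center T) = 1 := by simpa using hk
      exact (Finite.one_lt_card (α := center T)).ne' this
    rw [hk]
    exact dvd_pow_self 2 hk0
  obtain ⟨z, hz⟩ := exists_prime_orderOf_dvd_card' (G := center T) 2 h2c
  set z₀ : X := ((z : T) : X) with hz₀
  have hz₀o : orderOf z₀ = 2 := by
    rw [hz₀, Subgroup.orderOf_coe, Subgroup.orderOf_coe, hz]
  have hz₀2 : z₀ ^ 2 = 1 := by rw [← hz₀o, pow_orderOf_eq_one]
  have hz₀1 : z₀ ≠ 1 := by
    intro h
    rw [h, orderOf_one] at hz₀o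
    omega
  have hcent : ∀ w ∈ T, z₀ * w = w * z₀ := by
    intro w hw
    have := (Subgroup.mem_center_iff.1 z.2) ⟨w, hw⟩
    exact (congrArg Subtype.val this).symm
  have h1 := eq_of_commute_invol hr (hTC (z : T).2) (hTC ha) (hcent a ha) hz₀2 ha2 hz₀1
  have h2 := eq_of_commute_invol hr (hTC (z : T).2) (hTC hb) (hcent b hb) hz₀2 hb2 hz₀1
  rw [h1.resolve_left ha1, h2.resolve_left hb1]

/-- Generation by centralizers of a four-group `⟨t, u⟩`. -/
theorem generation_four {t u : X} {O : Subgroup X} [O.Normal] (hO : (Nat.card O).Coprime 2)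
    (ht2 : t ^ 2 = 1) (hu2 : u ^ 2 = 1) (htu : t * u = u * t) (ht1 : t ≠ 1) (hu1 : u ≠ 1) (hne : u ≠ t)
    {B : Subgroup X} (h1 : O ⊓ centralizer ({t} : Set X) ≤ B) (h2 : O ⊓ centralizer ({u} : Set X) ≤ B)
    (h3 : O ⊓ centralizer ({t * u} : Set X) ≤ B) : O ≤ B := by
  classical
  have hzel : ∀ {a : X}, a ^ 2 = 1 → IsElementaryAbelian 2 (zpowers a) := by
    intro a ha
    rw [isElementaryAbelian_iff']
    constructor
    · rintro _ ⟨k, rfl⟩ _ ⟨l, rfl⟩
      exact ((Commute.refl a).zpow_zpow k l).eq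
    · rintro _ ⟨k, rfl⟩
      show (a ^ k) ^ 2 = 1
      rw [← zpow_natCast, ← zpow_mul, mul_comm, zpow_mul, zpow_natCast, ha, one_zpow]
  have hcomm : ∀ x ∈ zpowers t, ∀ y ∈ zpowers u, x * y = y * x := by
    rintro _ ⟨k, rfl⟩ _ ⟨l, rfl⟩
    exact (Commute.zpow_zpow (show Commute t u from htu) k l).eq
  have hel := isElementaryAbelian_sup (hzel ht2) (hzel hu2) hcomm
  set E := zpowers t ⊔ zpowers u with hE
  have hN : zpowers u ≤ normalizer ((zpowers t : Subgroup X) : Set X) := by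
    intro y hy
    apply mem_normalizer_of_conj_le
    intro x hx
    rw [← hcomm x hx y hy, mul_inv_cancel_right]
    exact hx
  have hto : orderOf t = 2 := orderOf_eq_prime ht2 ht1
  have huo : orderOf u = 2 := orderOf_eq_prime hu2 hu1
  have hct : Nat.card (zpowers t) = 2 := by rw [Nat.card_zpowers, hto]
  have hcu : Nat.card (zpowers u) = 2 := by rw [Nat.card_zpowers, huo]
  have hpow : ∀ {a : X}, a ^ 2 = 1 → ∀ x ∈ zpowers a, x = 1 ∨ x = a := by
    rintro a ha _ ⟨k, rfl⟩
    rcases Int.even_or_odd k with ⟨m, hm⟩ | ⟨m, hm⟩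
    · left
      show a ^ k = 1
      rw [hm, ← two_mul, zpow_mul, zpow_ofNat, ha, one_zpow]
    · right
      show a ^ k = a
      rw [hm, zpow_add, zpow_mul, zpow_ofNat, ha, one_zpow, one_mul, zpow_one]
  have hle4 : Nat.card E ≤ 4 := by
    have hf : Function.Surjective (fun p : zpowers t × zpowers u =>
        (⟨(p.1 : X) * p.2, Subgroup.mul_mem_sup p.1.2 p.2.2⟩ : E)) := by
      rintro ⟨x, hx⟩
      obtain ⟨a, ha, b, hb, rfl⟩ := Cfsg.Agent.Lib.Hall.exists_mul_of_mem_sup_normalizes hN hx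
      exact ⟨(⟨a, ha⟩, ⟨b, hb⟩), rfl⟩
    have := Nat.card_le_card_of_surjective _ hf
    rw [Nat.card_prod, hct, hcu] at this
    exact this
  have h2E : 2 ∣ Nat.card E := by
    rw [← hct]
    exact Subgroup.card_dvd_of_le le_sup_left
  have hgt : 2 < Nat.card E := by
    by_contra hcon
    have h5 : zpowers t = E := Subgroup.eq_of_le_of_card_ge le_sup_left (by rw [hct]; omega)
    have h6 : u ∈ zpowers t := by
      rw [h5]
      exact mem_sup_right (mem_zpowers u)
    rcases hpow ht2 u h6 with h7 | h7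
    · exact hu1 h7
    · exact hne h7
  have hcard : Nat.card E = 2 ^ 2 := by
    have : Nat.card E = 4 := by
      obtain ⟨k, hk⟩ := h2E
      omega
    rw [this]
    norm_num
  have hgen := Cfsg.Agent.Lib.Hall.generation_elementary Nat.prime_two hcard hel.2 (Nat.card O) O le_rfl
    (by rw [Subgroup.normalizer_eq_top]; exact le_top) hO.symm
  rw [← hgen]
  refine iSup₂_le ?_
  rintro a ⟨haE, ha1⟩
  obtain ⟨x, hx, y, hy, rfl⟩ := Cfsg.Agent.Lib.Hall.exists_mul_of_mem_sup_normalizes hN haE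
  rcases hpow ht2 x hx with rfl | rfl <;> rcases hpow hu2 y hy with rfl | rfl
  · exact absurd (by simp) ha1
  · simpa using h2
  · simpa using h1
  · exact h3

/-- A Sylow subgroup is its own normalizer on `2`-elements. -/
theorem not_mem_of_sylow_step {N : Subgroup X} (S : Sylow 2 ↥N) {g : X}
    (hgN : ∀ s ∈ (S : Subgroup ↥N).map N.subtype, g * s * g⁻¹ ∈ (S : Subgroup ↥N).map N.subtype)
    (hgS : g ∉ (S : Subgroup ↥N).map N.subtype) (hg2 : g ^ 2 ∈ (S : Subgroup ↥N).map N.subtype) : g ∉ N := by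
  intro hg
  set g' : ↥N := ⟨g, hg⟩ with hg'
  have h1 : g' ∈ normalizer ((S : Subgroup ↥N) : Set ↥N) := by
    apply mem_normalizer_of_conj_le
    intro s hs
    obtain ⟨s', hs', hs'v⟩ := hgN s ⟨s, hs, rfl⟩
    have : g' * s * g'⁻¹ = s' := Subtype.ext hs'v.symm
    rw [this]
    exact hs'
  have h2 : IsPGroup 2 (zpowers g') := by
    obtain ⟨s, hs, hsv⟩ := hg2
    have hs2 : s = g' ^ 2 := Subtype.ext hsv
    obtain ⟨k, hk⟩ := S.isPGroup' ⟨s, hs⟩
    have hk' : s ^ 2 ^ k = 1 := congrArg Subtype.val hk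
    rintro ⟨_, m, rfl⟩
    refine ⟨k + 1, ?_⟩
    apply Subtype.ext
    show (g' ^ m) ^ 2 ^ (k + 1) = 1
    rw [← zpow_natCast, ← zpow_mul, mul_comm, zpow_mul, zpow_natCast, pow_succ', pow_mul, ← hs2, hk', one_zpow]
  have h3 := h2.inf_normalizer_sylow S
  have h4 := h3.le (show g' ∈ _ from mem_inf.2 ⟨mem_zpowers g', h1⟩)
  exact hgS ⟨g', h4.2, rfl⟩

/-- Odd-core analysis for a standard subgroup with a suitable involution. -/
theorem std_commute_oddCore (P : Subgroup X) (hP : IsStandardSubgroup P)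
    (hr : PRankLE 2 1 ↥(centralizer (P : Set X))) (hZ : Odd (Nat.card ↥(center ↥P)))
    (S₀ : Subgroup X) (hS₀N : S₀ ≤ normalizer (P : Set X)) (hS₀p : IsPGroup 2 S₀) (t : X) (ht : orderOf t = 2)
    (htS : t ∈ S₀)
    (htP : t ∈ centralizer (P : Set X)) (g : X)
    (hgN : ∀ s ∈ S₀, g * s * g⁻¹ ∈ S₀)
    (hgN' : g ∉ normalizer (P : Set X))
    (hg2 : g ^ 2 ∈ S₀)
    (hgt : g * t * g⁻¹ ∈ P ⊔ centralizer (P : Set X)) :
    ⁅P, pPrimeCore 2 X⁆ = ⊥ ∧ ∃ w ∈ P, orderOf w = 2 := by
  classical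
  haveI : Fact (Nat.Prime 2) := ⟨Nat.prime_two⟩
  set N := normalizer (P : Set X) with hN
  set X₀ := centralizer (P : Set X) with hX₀
  -- `t` is central in `S₀`
  have ht2 : t ^ 2 = 1 := by rw [← ht, pow_orderOf_eq_one]
  have ht1 : t ≠ 1 := by
    intro h
    rw [h, orderOf_one] at ht
    omega
  have hNX₀ : N = normalizer (X₀ : Set X) := hP.2.2.2
  have hsX₀ : ∀ s ∈ N, ∀ x ∈ X₀, s * x * s⁻¹ ∈ X₀ := by
    intro s hs x hx
    have h1 : s ∈ normalizer (X₀ : Set X) := by rw [← hNX₀]; exact hs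
    exact (mem_normalizer_iff.1 h1 x).1 hx
  have htZ : ∀ s ∈ S₀, s * t = t * s := by
    intro s hs
    have h1 : s * t * s⁻¹ = t := by
      refine unique_involution_of_rank_one hr (T := S₀ ⊓ X₀) inf_le_right (hS₀p.to_le inf_le_left)
        (mem_inf.2 ⟨S₀.mul_mem (S₀.mul_mem hs htS) (S₀.inv_mem hs), hsX₀ s (hS₀N hs) t htP⟩)
        (mem_inf.2 ⟨htS, htP⟩) ?_ ht2 ?_ ht1
      · rw [conj_pow, ht2]; group
      · intro h
        apply ht1
        have : t = s⁻¹ * (s * t * s⁻¹) * s := by group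
        rw [this, h]
        group
    calc s * t = (s * t * s⁻¹) * s := by group
      _ = t * s := by rw [h1]
  -- `u`
  have hgn : g ∈ normalizer (S₀ : Set X) := mem_normalizer_of_conj_le hgN
  set u := g * t * g⁻¹ with hu
  have huS : u ∈ S₀ := hgN t htS
  have huZ : ∀ s ∈ S₀, s * u = u * s := by
    intro s hs
    have h1 : g⁻¹ * s * g ∈ S₀ := by
      rw [mem_normalizer_iff] at hgn
      rw [hgn]
      have : g * (g⁻¹ * s * g) * g⁻¹ = s := by group
      rw [this]
      exact hs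
    have h2 := htZ _ h1
    calc s * u = g * ((g⁻¹ * s * g) * t) * g⁻¹ := by rw [hu]; group
      _ = g * (t * (g⁻¹ * s * g)) * g⁻¹ := by rw [h2]
      _ = u * s := by rw [hu]; group
  have hgu : g * u * g⁻¹ = t := by
    have h1 := htZ _ hg2
    calc g * u * g⁻¹ = g ^ 2 * t * (g ^ 2)⁻¹ := by rw [hu, pow_two]; group
      _ = t := by rw [h1]; group
  have hu2 : u ^ 2 = 1 := by
    rw [hu, conj_pow, ht2]; group
  have hu1 : u ≠ 1 := by
    intro h
    apply ht1
    have : t = g⁻¹ * u * g := by rw [hu]; group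
    rw [this, h]
    group
  have hne : u ≠ t := by
    intro h
    apply hgN'
    apply centralizer_le_normalizer_of_standard hP ht htP
    rw [Subgroup.mem_centralizer_singleton_iff]
    calc g * t = u * g := by rw [hu]; group
      _ = t * g := by rw [h]
  have htu : t * u = u * t := (htZ u huS).symm
  -- the decomposition of `u`
  have hX₀N : X₀ ≤ normalizer (P : Set X) := by
    intro c hc
    apply mem_normalizer_of_conj_le
    intro p hp
    have h1 : p * c = c * p := (Subgroup.mem_centralizer_iff.1 hc) p hp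
    rw [← h1, mul_inv_cancel_right]
    exact hp
  obtain ⟨p, hp, c, hc, hupc⟩ := Cfsg.Agent.Lib.Hall.exists_mul_of_mem_sup_normalizes hX₀N hgt
  set n := Nat.card ↥(center ↥P) with hn
  have hcp : Commute p c := (Subgroup.mem_centralizer_iff.1 hc) p hp
  have hun : u ^ n = u := by
    obtain ⟨m, hm⟩ := hZ
    rw [hm, pow_succ, pow_mul, hu2, one_pow, one_mul]
  have hpc : p ^ 2 * c ^ 2 = 1 := by
    rw [← hcp.mul_pow, ← hupc, hu2]
  have hp2X : p ^ 2 ∈ X₀ := by
    have : p ^ 2 = (c ^ 2)⁻¹ := eq_inv_of_mul_eq_one_left hpc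
    rw [this]
    exact X₀.inv_mem (X₀.pow_mem hc 2)
  have hp2n : (p ^ 2) ^ n = 1 := by
    have h1 : (⟨p ^ 2, P.pow_mem hp 2⟩ : P) ∈ center P := by
      rw [Subgroup.mem_center_iff]
      rintro ⟨l, hl⟩
      apply Subtype.ext
      exact (Subgroup.mem_centralizer_iff.1 hp2X) l hl
    have h2 := pow_card_eq_one' (x := (⟨⟨p ^ 2, P.pow_mem hp 2⟩, h1⟩ : center P))
    have h3 : ((((⟨⟨p ^ 2, P.pow_mem hp 2⟩, h1⟩ : center P) ^ Nat.card (center P) : center P) : P) : X) = ((1 : center P) : P) :=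
      congrArg (fun y : center P => ((y : P) : X)) h2
    simpa only [SubgroupClass.coe_pow, OneMemClass.coe_one] using h3
  have hc2n : (c ^ 2) ^ n = 1 := by
    have h1 : c ^ 2 = (p ^ 2)⁻¹ := eq_inv_of_mul_eq_one_right hpc
    rw [h1, inv_pow, hp2n, inv_one]
  set p₁ := p ^ n with hp₁
  set c₁ := c ^ n with hc₁
  have hp₁2 : p₁ ^ 2 = 1 := by
    rw [hp₁, ← pow_mul, mul_comm, pow_mul, hp2n]
  have hc₁2 : c₁ ^ 2 = 1 := by
    rw [hc₁, ← pow_mul, mul_comm, pow_mul, hc2n]
  have hup : u = p₁ * c₁ := by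
    rw [hp₁, hc₁, ← hcp.mul_pow, ← hupc, hun]
  have hp₁P : p₁ ∈ P := P.pow_mem hp n
  have hc₁X : c₁ ∈ X₀ := X₀.pow_mem hc n
  have htp₁ : ∀ l ∈ P, l * t = t * l := fun l hl => (Subgroup.mem_centralizer_iff.1 htP) l hl
  have htc₁ : t * c₁ = c₁ * t := by
    have e : c₁ = p₁⁻¹ * u := by rw [hup]; group
    have h1 : p₁⁻¹ * t = t * p₁⁻¹ := htp₁ _ (P.inv_mem hp₁P)
    rw [e]
    calc t * (p₁⁻¹ * u) = (t * p₁⁻¹) * u := by group
      _ = (p₁⁻¹ * t) * u := by rw [h1]
      _ = p₁⁻¹ * (t * u) := by group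
      _ = p₁⁻¹ * (u * t) := by rw [htu]
      _ = p₁⁻¹ * u * t := by group
  have hcases := eq_of_commute_invol hr htP hc₁X htc₁ ht2 hc₁2 ht1
  have hp₁1 : p₁ ≠ 1 := by
    intro h
    rw [h, one_mul] at hup
    rcases hcases with h1 | h1
    · exact hu1 (hup.trans h1)
    · exact hne (hup.trans h1)
  have hp₁o : orderOf p₁ = 2 := orderOf_eq_prime hp₁2 hp₁1
  have hp₁Z : ∀ h : p₁ ∈ P, (⟨p₁, h⟩ : P) ∉ center P := by
    intro h h1
    have h2 : orderOf (⟨⟨p₁, h⟩, h1⟩ : center P) = 2 := by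
      rw [Subgroup.orderOf_mk, Subgroup.orderOf_mk, hp₁o]
    have h3 := orderOf_dvd_natCard (⟨⟨p₁, h⟩, h1⟩ : center P)
    rw [h2] at h3
    exact (Nat.not_even_iff_odd.2 hZ) (even_iff_two_dvd.2 h3)
  refine ⟨?_, p₁, hp₁P, hp₁o⟩
  -- the odd core
  set O := pPrimeCore 2 X with hO
  have hOc : (Nat.card O).Coprime 2 := pPrimeCore_coprime 2 X
  have hPO : O.subgroupOf P ≤ center P := by
    refine (qs_normal_eq_top_or_le_center hP.1 (O.subgroupOf P)).resolve_left ?_
    intro h
    have h1 : p₁ ∈ O := by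
      have h2 : (⟨p₁, hp₁P⟩ : P) ∈ O.subgroupOf P := by rw [h]; trivial
      simpa [mem_subgroupOf] using h2
    exact hp₁1 (eq_one_of_twoElt_of_odd (n := 1) (by rw [pow_one, hp₁2]) hOc h1)
  have hPP : ⁅P, P⁆ = P := by
    have h1 : commutator P = ⊤ := hP.1.1.commutator_eq_top
    have h2 : (commutator P).map P.subtype = P := by
      rw [h1, ← MonoidHom.range_eq_map, Subgroup.range_subtype]
    rw [← h2]
    conv_lhs => rw [h2]
    rw [← Subgroup.map_subtype_commutator]
  have hCOt : ∀ x ∈ O, x * t = t * x → x ∈ X₀ := by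
    intro x hx hxt
    have hxN : x ∈ N := centralizer_le_normalizer_of_standard hP ht htP
      (Subgroup.mem_centralizer_singleton_iff.2 hxt)
    have h1 : ⁅zpowers x, P⁆ ≤ P ⊓ O := by
      rw [Subgroup.commutator_le]
      rintro _ ⟨k, rfl⟩ l hl
      rw [commutatorElement_def]
      have hk : x ^ k ∈ N := N.zpow_mem hxN k
      have hkO : x ^ k ∈ O := O.zpow_mem hx k
      refine mem_inf.2 ⟨P.mul_mem ((mem_normalizer_iff.1 hk l).1 hl) (P.inv_mem hl), ?_⟩
      show x ^ k * l * (x ^ k)⁻¹ * l⁻¹ ∈ O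
      have e : x ^ k * l * (x ^ k)⁻¹ * l⁻¹ = x ^ k * (l * (x ^ k)⁻¹ * l⁻¹) := by group
      rw [e]
      refine O.mul_mem hkO ?_
      exact (inferInstance : O.Normal).conj_mem _ (O.inv_mem hkO) l
    have h2 : ⁅P ⊓ O, P⁆ = ⊥ := by
      rw [Subgroup.commutator_eq_bot_iff_le_centralizer]
      rintro y ⟨hy1, hy2⟩
      rw [Subgroup.mem_centralizer_iff]
      intro l hl
      have h3 : (⟨y, hy1⟩ : P) ∈ center P := hPO (by simpa [mem_subgroupOf] using hy2)
      have h4 := (Subgroup.mem_center_iff.1 h3) ⟨l, hl⟩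
      exact congrArg Subtype.val h4
    have h3 := three_perfect hPP h1 h2
    rw [Subgroup.commutator_eq_bot_iff_le_centralizer] at h3
    have h4 := h3 (mem_zpowers x)
    exact h4
  -- the three centralizers
  have hgO : ∀ x ∈ O, g⁻¹ * x * g ∈ O := by
    intro x hx
    have := (inferInstance : O.Normal).conj_mem x hx g⁻¹
    simpa using this
  have hsym : ∀ x : X, x * (t * u) = (t * u) * x → (g * x * g⁻¹) * (t * u) = (t * u) * (g * x * g⁻¹) := by
    intro x hx
    have h1 : g * (t * u) * g⁻¹ = t * u := by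
      calc g * (t * u) * g⁻¹ = (g * t * g⁻¹) * (g * u * g⁻¹) := by group
        _ = u * t := by rw [← hu, hgu]
        _ = t * u := htu.symm
    calc (g * x * g⁻¹) * (t * u) = (g * x * g⁻¹) * (g * (t * u) * g⁻¹) := by rw [h1]
      _ = g * (x * (t * u)) * g⁻¹ := by group
      _ = g * ((t * u) * x) * g⁻¹ := by rw [hx]
      _ = (g * (t * u) * g⁻¹) * (g * x * g⁻¹) := by group
      _ = (t * u) * (g * x * g⁻¹) := by rw [h1]
  -- elements of `O` commuting with `t` commute with `t u`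
  have htuP : u ∈ P ∨ t * u ∈ P := by
    rcases hcases with h1 | h1
    · left
      rw [hup, h1, mul_one]
      exact hp₁P
    · right
      have e : t * u = p₁ := by
        rw [hup, h1]
        calc t * (p₁ * t) = (t * p₁) * t := by group
          _ = (p₁ * t) * t := by rw [htp₁ p₁ hp₁P]
          _ = p₁ * t ^ 2 := by rw [pow_two]; group
          _ = p₁ := by rw [ht2, mul_one]
      rw [e]
      exact hp₁P
  have h1t : O ⊓ centralizer ({t} : Set X) ≤ centralizer ({t * u} : Set X) := by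
    rintro x ⟨hx1, hx2⟩
    have hx3 : x * t = t * x := Subgroup.mem_centralizer_singleton_iff.1 hx2
    have hx4 : x ∈ X₀ := hCOt x hx1 hx3
    rw [Subgroup.mem_centralizer_singleton_iff]
    rcases htuP with h | h
    · have h5 : u * x = x * u := (Subgroup.mem_centralizer_iff.1 hx4) u h
      calc x * (t * u) = (x * t) * u := by group
        _ = t * (x * u) := by rw [hx3]; group
        _ = t * (u * x) := by rw [h5]
        _ = (t * u) * x := by group
    · exact ((Subgroup.mem_centralizer_iff.1 hx4) _ h).symm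
  have h1u : O ⊓ centralizer ({u} : Set X) ≤ centralizer ({t * u} : Set X) := by
    rintro x ⟨hx1, hx2⟩
    have hx3 : x * u = u * x := Subgroup.mem_centralizer_singleton_iff.1 hx2
    have hx4 : (g⁻¹ * x * g) * t = t * (g⁻¹ * x * g) := by
      have e : u = g * t * g⁻¹ := hu
      rw [e] at hx3
      calc (g⁻¹ * x * g) * t = g⁻¹ * (x * (g * t * g⁻¹)) * g := by group
        _ = g⁻¹ * ((g * t * g⁻¹) * x) * g := by rw [hx3]
        _ = t * (g⁻¹ * x * g) := by group
    have hx5 := h1t (mem_inf.2 ⟨hgO x hx1, Subgroup.mem_centralizer_singleton_iff.2 hx4⟩)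
    have hx6 := hsym _ (Subgroup.mem_centralizer_singleton_iff.1 hx5)
    rw [Subgroup.mem_centralizer_singleton_iff]
    have e : g * (g⁻¹ * x * g) * g⁻¹ = x := by group
    rwa [e] at hx6
  have hOtu : O ≤ centralizer ({t * u} : Set X) :=
    generation_four hOc ht2 hu2 htu ht1 hu1 hne h1t h1u inf_le_right
  -- `P` centralizes `O`
  set M := P ⊓ centralizer (O : Set X) with hM
  have hMn : (M.subgroupOf P).Normal := by
    refine ⟨fun x hx l => ?_⟩
    rw [mem_subgroupOf] at hx ⊢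
    refine mem_inf.2 ⟨P.mul_mem (P.mul_mem l.2 hx.1) (P.inv_mem l.2), ?_⟩
    haveI : (centralizer (O : Set X)).Normal := inferInstance
    exact this.conj_mem _ hx.2 _
  have htuC : t * u ∈ centralizer (O : Set X) := by
    rw [Subgroup.mem_centralizer_iff]
    intro x hx
    exact Subgroup.mem_centralizer_singleton_iff.1 (hOtu hx)
  rcases qs_normal_eq_top_or_le_center hP.1 (M.subgroupOf P) with h | h
  · rw [Subgroup.commutator_eq_bot_iff_le_centralizer]
    intro l hl
    have h1 : (⟨l, hl⟩ : P) ∈ M.subgroupOf P := by rw [h]; trivial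
    rw [mem_subgroupOf] at h1
    exact h1.2
  · exfalso
    rcases hcases with h1 | h1
    · -- `u ∈ P`
      have hup₁ : u = p₁ := by rw [hup, h1, mul_one]
      have h2 : ⁅zpowers u, P⁆ ≤ M := by
        rw [Subgroup.commutator_le]
        rintro _ ⟨k, rfl⟩ l hl
        rw [commutatorElement_def]
        have huP : u ∈ P := by rw [hup₁]; exact hp₁P
        have hk : u ^ k ∈ P := P.zpow_mem huP k
        refine mem_inf.2 ⟨P.mul_mem (P.mul_mem (P.mul_mem hk hl) (P.inv_mem hk)) (P.inv_mem hl), ?_⟩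
        -- `u^k` acts on `O` as `t^k`
        haveI : (centralizer (O : Set X)).Normal := inferInstance
        have h3 : (t * u) ^ k ∈ centralizer (O : Set X) := Subgroup.zpow_mem _ htuC k
        have h4 : t ^ k * u ^ k ∈ centralizer (O : Set X) := by
          have : (t * u) ^ k = t ^ k * u ^ k := (show Commute t u from htu).mul_zpow k
          rwa [this] at h3
        have h5 : l * (t ^ k * u ^ k) * l⁻¹ ∈ centralizer (O : Set X) := this.conj_mem _ h4 l
        have h6 : Commute l (t ^ k) := (show Commute l t from htp₁ l hl).zpow_right k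
        have h7 : Commute (u ^ k) (t ^ k) := ((show Commute t u from htu).zpow_zpow k k).symm
        have h8 : u ^ k * l * (u ^ k)⁻¹ * l⁻¹ =
            (t ^ k * u ^ k) * (l * (t ^ k * u ^ k) * l⁻¹)⁻¹ := by
          have e1 : (l * (t ^ k * u ^ k) * l⁻¹)⁻¹ = l * (u ^ k)⁻¹ * (t ^ k)⁻¹ * l⁻¹ := by group
          rw [e1]
          have h9 : Commute l (t ^ k)⁻¹ := h6.inv_right
          have h10 : Commute (u ^ k * l * (u ^ k)⁻¹) (t ^ k) := by
            have a1 : Commute (u ^ k) (t ^ k) := h7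
            exact ((a1.mul_left h6).mul_left a1.inv_left)
          calc u ^ k * l * (u ^ k)⁻¹ * l⁻¹ = (t ^ k) * (t ^ k)⁻¹ * (u ^ k * l * (u ^ k)⁻¹) * l⁻¹ := by group
            _ = (t ^ k) * ((u ^ k * l * (u ^ k)⁻¹) * (t ^ k)⁻¹) * l⁻¹ := by
              rw [h10.inv_right.eq]; group
            _ = (t ^ k * u ^ k) * (l * (u ^ k)⁻¹ * (t ^ k)⁻¹ * l⁻¹) := by group
        rw [h8]
        exact Subgroup.mul_mem _ h4 (Subgroup.inv_mem _ h5)
      have h3 : ⁅M, P⁆ = ⊥ := by
        rw [Subgroup.commutator_eq_bot_iff_le_centralizer]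
        rintro y ⟨hy1, hy2⟩
        rw [Subgroup.mem_centralizer_iff]
        intro l hl
        have h4 : (⟨y, hy1⟩ : P) ∈ center P := h (by
          rw [mem_subgroupOf]
          exact ⟨hy1, hy2⟩)
        exact congrArg Subtype.val ((Subgroup.mem_center_iff.1 h4) ⟨l, hl⟩)
      have h4 := three_perfect hPP h2 h3
      rw [Subgroup.commutator_eq_bot_iff_le_centralizer] at h4
      have h5 := h4 (mem_zpowers u)
      apply hp₁Z hp₁P
      rw [Subgroup.mem_center_iff]
      rintro ⟨l, hl⟩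
      apply Subtype.ext
      have h6 := (Subgroup.mem_centralizer_iff.1 h5) l hl
      rw [hup₁] at h6
      exact h6
    · -- `t u ∈ P`
      have e : t * u = p₁ := by
        rw [hup, h1]
        calc t * (p₁ * t) = (t * p₁) * t := by group
          _ = (p₁ * t) * t := by rw [htp₁ p₁ hp₁P]
          _ = p₁ * t ^ 2 := by rw [pow_two]; group
          _ = p₁ := by rw [ht2, mul_one]
      apply hp₁Z hp₁P
      apply h
      rw [mem_subgroupOf]
      refine mem_inf.2 ⟨hp₁P, ?_⟩
      show p₁ ∈ centralizer (O : Set X)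
      rw [← e]
      exact htuC

/-- A `2`-component containing a non-odd subgroup centralizing the odd core is quasisimple. -/
theorem isQuasisimple_of_comp {P L : Subgroup X} (hPP : ⁅P, P⁆ = P) (hPO : ⁅P, pPrimeCore 2 X⁆ = ⊥)
    {w : X} (hw : w ∈ P) (hwo : orderOf w = 2) (hL : IsPComponent 2 L) (hPL : P ≤ L) : IsQuasisimple ↥L := by
  classical
  set OL := pPrimeCore 2 ↥L with hOL
  have hIP : IsPQ L := IsPQ.of_isPComponent hL
  have hIPt : IsPQ (⊤ : Subgroup ↥L) := IsPQ.of_isPComponent hIP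
  have hmap := map_pPrimeCore_of_subnormal (p := 2) hL.1
  have hOLO : ∀ o ∈ OL, (o : X) ∈ pPrimeCore 2 X := by
    intro o ho
    have h1 : (o : X) ∈ OL.map L.subtype := ⟨o, ho, rfl⟩
    rw [hOL, hmap] at h1
    exact h1.2
  set M := centralizer (OL : Set ↥L) with hM
  have hMn : M.Normal := inferInstance
  have hπ := QuotientGroup.mk'_surjective OL
  have hq : IsQuasisimple (↥L ⧸ OL) := IsPQT.qs hIP
  have hPM : P.subgroupOf L ≤ M := by
    rintro ⟨l, hl⟩ hl'
    have hl2 : l ∈ P := by simpa [mem_subgroupOf] using hl'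
    rw [hM, Subgroup.mem_centralizer_iff]
    intro o ho
    apply Subtype.ext
    have h1 := Subgroup.commutator_le.1 hPO.le l hl2 o (hOLO o ho)
    have h3 : l * o * l⁻¹ * (o : X)⁻¹ = 1 := by simpa [commutatorElement_def] using h1
    show (o : X) * l = l * o
    calc (o : X) * l = (l * o * l⁻¹ * (o : X)⁻¹)⁻¹ * (l * o) := by group
      _ = l * o := by rw [h3]; simp
  haveI : (M.map (QuotientGroup.mk' OL)).Normal := Subgroup.Normal.map hMn _ hπ
  have hMtop : M = ⊤ := by
    rcases qs_normal_eq_top_or_le_center hq (M.map (QuotientGroup.mk' OL)) with h | h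
    · have h1 : (⊤ : Subgroup ↥L) ≤ M ⊔ OL := by
        intro y _
        have h2 : QuotientGroup.mk' OL y ∈ M.map (QuotientGroup.mk' OL) := by rw [h]; trivial
        obtain ⟨m, hm, hmy⟩ := h2
        have h3 : m⁻¹ * y ∈ OL := by
          have := QuotientGroup.eq.1 hmy
          exact this
        have e : y = m * (m⁻¹ * y) := by group
        rw [e]
        exact Subgroup.mul_mem_sup hm h3
      exact top_le_iff.1 (hIPt.le_of_le_sup hMn.isSubnormal h1)
    · exfalso
      -- then `P` lies in the odd core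
      have h1 : P ≤ pPrimeCore 2 X := by
        rw [← hPP, Subgroup.commutator_le]
        intro a ha b hb
        have haL : (⟨a, hPL ha⟩ : ↥L) ∈ M := hPM (by simpa [mem_subgroupOf] using ha)
        have hbL : (⟨b, hPL hb⟩ : ↥L) ∈ M := hPM (by simpa [mem_subgroupOf] using hb)
        have h2 : QuotientGroup.mk' OL ⟨a, hPL ha⟩ ∈ center (↥L ⧸ OL) := h ⟨_, haL, rfl⟩
        have h3 : QuotientGroup.mk' OL ⟨a, hPL ha⟩ * QuotientGroup.mk' OL ⟨b, hPL hb⟩ =
            QuotientGroup.mk' OL ⟨b, hPL hb⟩ * QuotientGroup.mk' OL ⟨a, hPL ha⟩ :=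
          ((Subgroup.mem_center_iff.1 h2) _).symm
        have h4 : QuotientGroup.mk' OL (⟨a, hPL ha⟩ * ⟨b, hPL hb⟩ * (⟨a, hPL ha⟩ : ↥L)⁻¹ * (⟨b, hPL hb⟩ : ↥L)⁻¹) = 1 := by
          simp only [map_mul, map_inv]
          rw [h3]
          group
        have h5 := (QuotientGroup.eq_one_iff _).1 h4
        have h6 := hOLO _ h5
        rw [commutatorElement_def]
        exact h6
      have h2 : w = 1 := eq_one_of_twoElt_of_odd (n := 1) (by rw [pow_one, ← hwo, pow_orderOf_eq_one])
        (pPrimeCore_coprime 2 X) (h1 hw)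
      rw [h2, orderOf_one] at hwo
      omega
  refine qs_of_surjective_of_perfect (IsPQT.perfect hIP) hq (QuotientGroup.mk' OL) hπ ?_
  rw [QuotientGroup.ker_mk']
  intro o ho
  rw [Subgroup.mem_center_iff]
  intro y
  have h1 : y ∈ M := by rw [hMtop]; trivial
  exact ((Subgroup.mem_centralizer_iff.1 h1) o ho).symm

end Cfsg.Agent.Lib.LBal
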